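/-
Abelian Sylow subgroups of a simple normal subgroup, fused by the whole group.

Main results (namespace `Cfsg.Agent.SameOrderConj`):
* `conj_exists_normalizer_normal` : fusion of subgroups inside `P` happens in `N_G(P)`
* `pair_dvd` : `(|P| - 1)(|P| - p) ∣ (p² - 1)(p² - p) |N(P) : C(P)|`
* `relIndex_dvd` : `|N_G(P) : C_G(P)| ∣ |G : M C(M)| |N_M(P) : P|`
* `index_mul_card_dvd` : `|G : M C(M)| |M| ∣ |Aut M|`
-/
import Cfsg.Agent.EqLemmas
import Cfsg.Agent.Lib.Cores.Basic

set_option autoImplicit false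
set_option linter.unusedSectionVars false
set_option linter.style.haveILetI false

namespace Cfsg.Agent.SameOrderConj

open Subgroup

universe u

variable {G : Type u} [Group G] [Finite G] {p : ℕ} [Fact p.Prime] (M : Subgroup G) [M.Normal]

/-- Two subgroups conjugate under `G` are fused by an automorphism of the normal subgroup. -/
theorem exists_mulAut_of_conj {x y : M} {g : G}
    (h : zpowers (y : G) = (zpowers (x : G)).map (MulAut.conj g).toMonoidHom) :
    ∃ α : MulAut M, y ∈ zpowers (α x) := by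
  refine ⟨MulAut.conjNormal g, ?_⟩
  rw [MonoidHom.map_zpowers] at h
  obtain ⟨i, hi⟩ := mem_zpowers_iff.1 (h ▸ mem_zpowers (y : G))
  exact mem_zpowers_iff.2 ⟨i, Subtype.ext (by
    rw [SubgroupClass.coe_zpow, MulAut.conjNormal_apply]; exact hi)⟩

theorem conj_exists_normalizer_normal (P : Sylow p M) (hP : IsMulCommutative (P : Subgroup M))
    {A : Subgroup G} (hA : A ≤ (P : Subgroup M).map M.subtype) (g : G)
    (hgA : A.map (MulAut.conj g).toMonoidHom ≤ (P : Subgroup M).map M.subtype) :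
    ∃ n ∈ normalizer (((P : Subgroup M).map M.subtype : Subgroup G) : Set G),
      ∀ a ∈ A, n * a * n⁻¹ = g * a * g⁻¹ := by
  set B : Subgroup M := (A.map (MulAut.conj g).toMonoidHom).subgroupOf M
  set Z := centralizer (B : Set M)
  set α : MulAut M := MulAut.conjNormal g
  have hab : ∀ x ∈ (P : Subgroup M), ∀ y ∈ (P : Subgroup M), x * y = y * x := fun x hx y hy =>
    congrArg Subtype.val (hP.1.comm ⟨x, hx⟩ ⟨y, hy⟩)
  have h0 : ∀ a ∈ A, ∃ p₀ ∈ (P : Subgroup M), (p₀ : G) = a := fun a ha => hA ha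
  have hPZ : (P : Subgroup M) ≤ Z := fun s hs => mem_centralizer_iff.2 fun b hb => by
    obtain ⟨p₀, hp₀, hpb⟩ := hgA (mem_subgroupOf.1 hb)
    have : p₀ = b := Subtype.ext hpb
    exact hab b (this ▸ hp₀) s hs
  have hαZ : ↑(α • P) ≤ Z := by
    intro x hx
    rw [Sylow.pointwise_smul_def] at hx
    obtain ⟨s, hs, rfl⟩ := hx
    refine mem_centralizer_iff.2 fun b hb => ?_
    obtain ⟨a, ha, hab'⟩ := mem_subgroupOf.1 hb
    obtain ⟨a', ha', rfl⟩ := h0 a ha
    have hb' : b = α a' := Subtype.ext (by rw [MulAut.conjNormal_apply]; exact hab'.symm)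
    rw [hb', MulDistribMulAction.toMonoidEnd_apply, MulDistribMulAction.toMonoidHom_apply,
      MulAut.smul_def, ← map_mul, ← map_mul, hab a' ha' s hs]
  obtain ⟨c, hc⟩ := MulAction.exists_smul_eq Z ((α • P).subtype hαZ) (P.subtype hPZ)
  simp_rw [Sylow.smul_subtype] at hc
  have hc' := Sylow.subtype_injective hc
  refine ⟨((c : M) : G) * g, ?_, fun a ha => ?_⟩
  · refine mem_normalizer_fintype fun w hw => ?_
    obtain ⟨s, hs, rfl⟩ := hw
    have h1 : MulAut.conj (c : M) (α s) ∈ (P : Subgroup M) := by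
      rw [← hc']
      refine Subgroup.smul_mem_pointwise_smul _ (MulAut.conj (c : M)) _ ?_
      exact Subgroup.smul_mem_pointwise_smul _ α _ hs
    refine ⟨_, h1, ?_⟩
    simp only [α, coe_subtype, MulAut.conj_apply, Subgroup.coe_mul, Subgroup.coe_inv,
      MulAut.conjNormal_apply]
    group
  · obtain ⟨a', ha', rfl⟩ := h0 a ha
    have hmem : α a' ∈ B := mem_subgroupOf.2 ⟨(a' : G), ha, (MulAut.conjNormal_apply g a').symm⟩
    have h := congrArg (fun z : M => (z : G)) (mem_centralizer_iff.1 c.2 (α a') hmem)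
    simp only [Subgroup.coe_mul, α, MulAut.conjNormal_apply] at h
    calc ((c : M) : G) * g * a' * (((c : M) : G) * g)⁻¹
        = ((c : M) : G) * (g * a' * g⁻¹) * ((c : M) : G)⁻¹ := by group
      _ = g * a' * g⁻¹ := by rw [← h, mul_inv_cancel_right]

omit [M.Normal] in
theorem card_pairs (X : Subgroup G) (hexp : ∀ x ∈ X, x ^ p = 1) :
    Nat.card {x : G × G // x.1 ∈ X ∧ x.2 ∈ X ∧ x.1 ≠ 1 ∧ x.2 ∉ zpowers x.1} =
      (Nat.card X - 1) * (Nat.card X - p) := by
  classical
  let e : {x : G × G // x.1 ∈ X ∧ x.2 ∈ X ∧ x.1 ≠ 1 ∧ x.2 ∉ zpowers x.1} ≃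
      Σ a : {a : X // a ≠ 1}, {b : X // b ∉ zpowers (a : X)} :=
    { toFun := fun x => ⟨⟨⟨x.1.1, x.2.1⟩, fun h => x.2.2.2.1 (congrArg Subtype.val h)⟩,
        ⟨x.1.2, x.2.2.1⟩, fun h => x.2.2.2.2 (by
          obtain ⟨i, hi⟩ := mem_zpowers_iff.1 h
          exact mem_zpowers_iff.2 ⟨i, congrArg Subtype.val hi⟩)⟩
      invFun := fun y => ⟨(((y.1 : X) : G), ((y.2 : X) : G)), (y.1 : X).2, (y.2 : X).2,
        fun h => y.1.2 (Subtype.ext h), fun h => y.2.2 (by
          obtain ⟨i, hi⟩ := mem_zpowers_iff.1 h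
          exact mem_zpowers_iff.2 ⟨i, Subtype.ext (by simpa using hi)⟩)⟩
      left_inv := fun _ => rfl
      right_inv := fun _ => rfl }
  haveI : Fintype X := Fintype.ofFinite X
  have hfib : ∀ a : {a : X // a ≠ 1}, Nat.card {b : X // b ∉ zpowers (a : X)} =
      Nat.card X - p := by
    intro a
    have ho : orderOf (a : X) = p :=
      orderOf_eq_prime (Subtype.ext (hexp _ (a : X).2)) a.2
    rw [Nat.card_eq_fintype_card, Fintype.card_subtype_compl, ← Nat.card_eq_fintype_card,
      ← Nat.card_eq_fintype_card, ← ho, ← Nat.card_zpowers]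
  rw [Nat.card_congr e, Nat.card_sigma]
  simp only [hfib, Finset.sum_const, Finset.card_univ, smul_eq_mul]
  rw [Fintype.card_subtype_compl, Fintype.card_subtype_eq, ← Nat.card_eq_fintype_card]

omit [M.Normal] in
theorem pair_dvd (P : Subgroup G) (hexp : ∀ x ∈ P, x ^ p = 1) (hab : ∀ x ∈ P, ∀ y ∈ P, x * y = y * x)
    (h2 : p ^ 2 ∣ Nat.card P)
    (hfus : ∀ W W' : Subgroup G, W ≤ P → W' ≤ P → Nat.card W = p ^ 2 → Nat.card W' = p ^ 2 →
      ∃ n ∈ normalizer (P : Set G), W' = W.map (MulAut.conj n).toMonoidHom) :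
    (Nat.card P - 1) * (Nat.card P - p) ∣
      (p ^ 2 - 1) * (p ^ 2 - p) *
        (centralizer (P : Set G)).relIndex (normalizer (P : Set G)) := by
  classical
  obtain ⟨W₀, hW₀, hW₀P⟩ : ∃ W : Subgroup G, Nat.card W = p ^ 2 ∧ W ≤ P := by
    obtain ⟨W, hW⟩ := Sylow.exists_subgroup_card_pow_prime (G := P) p h2
    exact ⟨W.map P.subtype, by rw [Cores.card_map_subtype, hW], map_subtype_le W⟩
  set N := normalizer (P : Set G)
  let 𝒲 := {W : Subgroup G // W ≤ P ∧ Nat.card W = p ^ 2}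
  -- the orbit
  have horb : (normalizer (W₀ : Set G)).relIndex N = Nat.card 𝒲 := by
    have hnW : ∀ n : N, W₀.map (MulAut.conj (n : G)).toMonoidHom ≤ P ∧
        Nat.card (W₀.map (MulAut.conj (n : G)).toMonoidHom) = p ^ 2 := by
      intro n
      refine ⟨?_, ?_⟩
      · rintro _ ⟨w, hw, rfl⟩
        exact (mem_normalizer_iff.1 n.2 w).1 (hW₀P hw)
      · rw [← hW₀]
        exact (Nat.card_congr (W₀.equivMapOfInjective _ (MulAut.conj (n : G)).injective).toEquiv).symm
    let f : N → 𝒲 := fun n => ⟨_, hnW n⟩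
    have hf : ∀ a b : N, a⁻¹ * b ∈ (normalizer (W₀ : Set G)).subgroupOf N ↔ f a = f b := by
      intro a b
      rw [mem_subgroupOf, Subgroup.coe_mul, Subgroup.coe_inv, Subtype.ext_iff]
      show _ ↔ W₀.map (MulAut.conj (a : G)).toMonoidHom = W₀.map (MulAut.conj (b : G)).toMonoidHom
      rw [mem_normalizer_iff]
      constructor
      · intro h
        ext x
        simp only [mem_map, MulEquiv.coe_toMonoidHom, MulAut.conj_apply]
        constructor
        · rintro ⟨w, hw, rfl⟩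
          refine ⟨(b : G)⁻¹ * a * w * ((b : G)⁻¹ * a)⁻¹, ?_, by group⟩
          rw [h]
          convert hw using 1
          group
        · rintro ⟨w, hw, rfl⟩
          exact ⟨(a : G)⁻¹ * b * w * ((a : G)⁻¹ * b)⁻¹, (h w).1 hw, by group⟩
      · intro h x
        have hk := SetLike.ext_iff.1 h ((b : G) * x * (b : G)⁻¹)
        simp only [mem_map, MulEquiv.coe_toMonoidHom, MulAut.conj_apply] at hk
        constructor
        · intro hx
          obtain ⟨w, hw, hwe⟩ := hk.2 ⟨x, hx, rfl⟩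
          convert hw using 1
          calc (a : G)⁻¹ * b * x * ((a : G)⁻¹ * b)⁻¹ = (a : G)⁻¹ * (b * x * (b : G)⁻¹) * a := by group
            _ = w := by rw [← hwe]; group
        · intro hx
          obtain ⟨w, hw, hwe⟩ := hk.1 ⟨_, hx, by group⟩
          have : w = x := mul_left_cancel (mul_right_cancel hwe)
          exact this ▸ hw
    refine Nat.card_congr (Equiv.ofBijective (Quotient.lift f fun a b h => (hf a b).1
      (QuotientGroup.leftRel_apply.1 h)) ⟨?_, ?_⟩)
    · rintro ⟨a⟩ ⟨b⟩ h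
      exact QuotientGroup.eq.2 ((hf a b).2 h)
    · rintro ⟨W, hW⟩
      obtain ⟨n, hn, hnW'⟩ := hfus W₀ W hW₀P hW.1 hW₀ hW.2
      exact ⟨QuotientGroup.mk ⟨n, hn⟩, Subtype.ext hnW'.symm⟩
  -- the pairs
  let PS := {x : G × G // x.1 ∈ P ∧ x.2 ∈ P ∧ x.1 ≠ 1 ∧ x.2 ∉ zpowers x.1}
  have hgen : ∀ {a b : G}, a ∈ P → b ∈ P → a ≠ 1 → b ∉ zpowers a →
      Nat.card (zpowers a ⊔ zpowers b : Subgroup G) = p ^ 2 := by
    intro a b ha hb ha1 hb1
    have hb0 : b ≠ 1 := fun h => hb1 (h ▸ one_mem _)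
    have hoa : orderOf a = p := orderOf_eq_prime (hexp a ha) ha1
    have hob : orderOf b = p := orderOf_eq_prime (hexp b hb) hb0
    have hd : Disjoint (zpowers a) (zpowers b) := by
      haveI : Fact (Nat.card (zpowers b)).Prime := ⟨by rw [Nat.card_zpowers, hob]; exact Fact.out⟩
      rcases (zpowers a |>.subgroupOf (zpowers b)).eq_bot_or_eq_top_of_prime_card with h | h
      · exact subgroupOf_eq_bot.1 h
      · exact absurd (subgroupOf_eq_top.1 h (mem_zpowers b)) hb1
    have hcomm : ∀ (x : zpowers a) (y : zpowers b),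
        Commute ((zpowers a).subtype x) ((zpowers b).subtype y) := by
      rintro ⟨x, i, rfl⟩ ⟨y, j, rfl⟩
      exact Commute.zpow_zpow (hab a ha b hb) i j
    have hinj : Function.Injective ((zpowers a).subtype.noncommCoprod (zpowers b).subtype hcomm) :=
      (MonoidHom.noncommCoprod_injective _ _ _).2 ⟨subtype_injective _, subtype_injective _, by
        simpa using hd⟩
    have hc := Nat.card_congr (MonoidHom.ofInjective hinj).toEquiv
    rw [MonoidHom.noncommCoprod_range, range_subtype, range_subtype] at hc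
    rw [← hc, Nat.card_prod, Nat.card_zpowers, Nat.card_zpowers, hoa, hob, pow_two]
  let f : PS → 𝒲 := fun x => ⟨zpowers x.1.1 ⊔ zpowers x.1.2,
    sup_le (zpowers_le.2 x.2.1) (zpowers_le.2 x.2.2.1), hgen x.2.1 x.2.2.1 x.2.2.2.1 x.2.2.2.2⟩
  have hfib : ∀ W : 𝒲, Nat.card {x : PS // f x = W} = (p ^ 2 - 1) * (p ^ 2 - p) := by
    rintro ⟨W, hWP, hW⟩
    refine Eq.trans ?_ ((card_pairs W fun x hx => hexp x (hWP hx)).trans
      (congrArg (fun k => (k - 1) * (k - p)) hW))
    refine Nat.card_congr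
      { toFun := fun x => ⟨x.1.1, ?_, ?_, x.1.2.2.2.1, x.1.2.2.2.2⟩
        invFun := fun y => ⟨⟨y.1, hWP y.2.1, hWP y.2.2.1, y.2.2.2.1, y.2.2.2.2⟩, ?_⟩
        left_inv := fun _ => rfl
        right_inv := fun _ => rfl }
    · have h : zpowers x.1.1.1 ⊔ zpowers x.1.1.2 = W := congrArg Subtype.val x.2
      exact h.le (mem_sup_left (mem_zpowers _))
    · have h : zpowers x.1.1.1 ⊔ zpowers x.1.1.2 = W := congrArg Subtype.val x.2
      exact h.le (mem_sup_right (mem_zpowers _))
    · exact Subtype.ext (Subgroup.eq_of_le_of_card_ge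
        (sup_le (zpowers_le.2 y.2.1) (zpowers_le.2 y.2.2.1))
        (by rw [hW, hgen (hWP y.2.1) (hWP y.2.2.1) y.2.2.2.1 y.2.2.2.2]))
  have hPS : Nat.card PS = Nat.card 𝒲 * ((p ^ 2 - 1) * (p ^ 2 - p)) := by
    haveI := Fintype.ofFinite 𝒲
    rw [← Nat.card_congr (Equiv.sigmaFiberEquiv f), Nat.card_sigma]
    simp only [hfib, Finset.sum_const, Finset.card_univ, smul_eq_mul, Nat.card_eq_fintype_card]
  rw [← card_pairs P hexp]
  show Nat.card PS ∣ _
  rw [hPS, mul_comm, ← horb]
  refine mul_dvd_mul_left _ (relIndex_dvd_of_le_left _ ?_)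
  exact le_trans (centralizer_le hW₀P) (centralizer_le_normalizer _)

theorem relIndex_dvd (P : Subgroup M) (hab : ∀ x ∈ P, ∀ y ∈ P, x * y = y * x) :
    (centralizer ((P.map M.subtype : Subgroup G) : Set G)).relIndex
        (normalizer ((P.map M.subtype : Subgroup G) : Set G)) ∣
      (M ⊔ centralizer (M : Set G)).index * P.relIndex (normalizer (P : Set M)) := by
  set Q := P.map M.subtype
  set N := normalizer (Q : Set G)
  set C := centralizer (Q : Set G)
  set K := centralizer (M : Set G)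
  haveI : K.Normal := inferInstance
  have hKC : K ≤ C := centralizer_le (map_subtype_le P)
  have hCN : C ≤ N := centralizer_le_normalizer _
  have hKN : K ≤ N := hKC.trans hCN
  have hQC : Q ≤ C := by
    rintro _ ⟨x, hx, rfl⟩
    refine mem_centralizer_iff.2 ?_
    rintro _ ⟨y, hy, rfl⟩
    exact congrArg (fun z : M => (z : G)) (hab y hy x hx)
  haveI : (C.subgroupOf N).Normal := by
    refine ⟨fun c hc n => ?_⟩
    rw [mem_subgroupOf] at hc ⊢
    refine mem_centralizer_iff.2 fun x hx => ?_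
    simp only [Subgroup.coe_mul, Subgroup.coe_inv]
    have hx' : (n : G)⁻¹ * x * n ∈ (Q : Set G) := (mem_normalizer_iff''.1 n.2 x).1 hx
    have h := mem_centralizer_iff.1 hc _ hx'
    calc x * ((n : G) * c * (n : G)⁻¹) = n * ((n : G)⁻¹ * x * n * c) * (n : G)⁻¹ := by group
      _ = n * (c * ((n : G)⁻¹ * x * n)) * (n : G)⁻¹ := by rw [h]
      _ = (n : G) * c * (n : G)⁻¹ * x := by group
  set M' := M.subgroupOf N
  set C' := C.subgroupOf N
  show C'.index ∣ _
  rw [← relIndex_mul_index (le_sup_right : C' ≤ M' ⊔ C'), mul_comm]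
  refine mul_dvd_mul ?_ ?_
  · refine dvd_trans (index_dvd_of_le ?_) (relIndex_dvd_index_of_normal (M ⊔ K) N)
    intro n hn
    have h1 := mem_subgroupOf.1 hn
    obtain ⟨m, hm, k, hk, hmk⟩ := mem_sup_of_normal_right.1 h1
    have hmN : m ∈ N := by
      have : m = n * k⁻¹ := by rw [← hmk, mul_inv_cancel_right]
      rw [this]
      exact mul_mem n.2 (inv_mem (hKN hk))
    have h2 : n = ⟨m, hmN⟩ * ⟨k, hKN hk⟩ := Subtype.ext hmk.symm
    rw [h2]
    exact mul_mem_sup (show (⟨m, hmN⟩ : N) ∈ M' from hm) (show (⟨k, hKN hk⟩ : N) ∈ C' from hKC hk)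
  · rw [relIndex_sup_right]
    have hM' : M' = (M ⊓ N).subgroupOf N := (inf_subgroupOf_right M N).symm
    have hNM : M ⊓ N = (normalizer (P : Set M)).map M.subtype := by
      ext x
      constructor
      · rintro ⟨hxM, hxN⟩
        refine ⟨⟨x, hxM⟩, mem_normalizer_iff.2 fun y => ?_, rfl⟩
        have h := mem_normalizer_iff.1 hxN (y : G)
        simp only [Q, mem_map, coe_subtype] at h
        constructor
        · intro hy
          obtain ⟨z, hz, hze⟩ := h.1 ⟨y, hy, rfl⟩
          exact (Subtype.ext hze : z = (⟨x, hxM⟩ : M) * y * (⟨x, hxM⟩ : M)⁻¹) ▸ hz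
        · intro hy
          obtain ⟨z, hz, hze⟩ := h.2 ⟨_, hy, rfl⟩
          exact (Subtype.ext hze : z = _) ▸ hz
      · rintro ⟨m, hm, rfl⟩
        refine ⟨m.2, mem_normalizer_fintype ?_⟩
        rintro _ ⟨y, hy, rfl⟩
        exact ⟨_, (mem_normalizer_iff.1 hm y).1 hy, rfl⟩
    rw [hM', relIndex_subgroupOf inf_le_right, hNM]
    refine dvd_trans (relIndex_dvd_of_le_left _ hQC) (dvd_of_eq ?_)
    exact relIndex_map_map_of_injective _ _ M.subtype_injective

theorem index_mul_card_dvd [IsSimpleGroup M] (hna : ¬ IsMulCommutative M) :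
    (M ⊔ centralizer (M : Set G)).index * Nat.card M ∣ Nat.card (MulAut M) := by
  set K := centralizer (M : Set G)
  let c : G →* MulAut M := MulAut.conjNormal
  have hker : c.ker = K := by
    ext g
    rw [MonoidHom.mem_ker, mem_centralizer_iff]
    constructor
    · intro h m hm
      have h1 := congrArg Subtype.val (DFunLike.congr_fun h (⟨m, hm⟩ : M))
      rw [MulAut.conjNormal_apply] at h1
      exact (mul_inv_eq_iff_eq_mul.1 h1).symm
    · intro h
      refine MulEquiv.ext fun m => Subtype.ext ?_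
      rw [MulAut.conjNormal_apply, ← h m m.2, mul_inv_cancel_right]
      rfl
  have h1 : K.index ∣ Nat.card (MulAut M) := by
    rw [← hker, index_ker]
    exact card_subgroup_dvd_card _
  refine dvd_trans (dvd_of_eq ?_) h1
  rw [← relIndex_mul_index (le_sup_right : K ≤ M ⊔ K), relIndex_sup_right, mul_comm]
  congr 1
  have hbot : K.subgroupOf M = ⊥ := by
    rcases (inferInstance : (K.subgroupOf M).Normal).eq_bot_or_eq_top with h | h
    · exact h
    · exfalso
      refine hna ⟨⟨fun a b => Subtype.ext ?_⟩⟩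
      have ha : (a : G) ∈ K := subgroupOf_eq_top.1 h a.2
      exact (mem_centralizer_iff.1 ha b b.2).symm
  show _ = (K.subgroupOf M).index
  rw [hbot, index_bot]

end Cfsg.Agent.SameOrderConj
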