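/-
Groups of Ree type are not normal subgroups of groups in which the subgroups of order three are
conjugate and elements of order nine are absent.

Main results (namespace `Cfsg.Agent.SameOrderConj`):
* `ree_exclusion`
-/
import Cfsg.Agent.EqLemmas
import Cfsg.Agent.Lib.AbelianSylow.Local.Basic
import Cfsg.Agent.Lib.PSL2.SolCount
import Cfsg.Agent.Lib.PowEqOne.Basic
import Cfsg.Agent.Lib.Char.Orth
import Cfsg.Agent.Lib.Isolated.RankOne

set_option autoImplicit false
set_option linter.unusedSectionVars false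
set_option linter.style.haveILetI false

namespace Cfsg.Agent.SameOrderConj

open Subgroup AbelianSylow

universe u

theorem ree_arith {q N e k : ℕ} (hq : 3 ≤ q) (hk : k ≤ 2) (hk0 : 1 ≤ k)
    (he : e * N = k * ((q ^ 3 + 1) * (q - 1))) (hdvd : q ^ 3 ∣ N + 1) (he0 : 1 ≤ e)
    (hN : (q + 1) * (q - 1) ≤ N) : False := by
  obtain ⟨r, rfl⟩ : ∃ r, q = r + 1 := ⟨q - 1, by omega⟩
  rw [Nat.add_sub_cancel] at he hN
  have h1 : (r + 1) ^ 3 ∣ k * r + e := by
    have h := hdvd.mul_left e
    rw [mul_add, mul_one, he] at h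
    have h2 : k * (((r + 1) ^ 3 + 1) * r) + e = (r + 1) ^ 3 * (k * r) + (k * r + e) := by ring
    rw [h2] at h
    exact (Nat.dvd_add_iff_right (dvd_mul_right _ _)).2 h
  have h2 := Nat.le_of_dvd (by omega) h1
  have h4 : e * ((r + 1 + 1) * r) ≤ 2 * (((r + 1) ^ 3 + 1) * r) :=
    (Nat.mul_le_mul_left e hN).trans (he.le.trans (Nat.mul_le_mul_right _ hk))
  have h5 : e * (r + 1 + 1) ≤ 2 * ((r + 1) ^ 3 + 1) :=
    Nat.le_of_mul_le_mul_right (by linarith) (by omega : 0 < r)
  have h6 : k * r ≤ 2 * r := Nat.mul_le_mul_right _ hk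
  nlinarith [Nat.mul_le_mul_right (r + 1 + 1) (show (r + 1) ^ 3 ≤ 2 * r + e by omega),
    Nat.mul_le_mul_right ((r + 1) ^ 2) (show 2 ≤ r by omega)]

variable {T : Type u} [Group T] [Finite T] {F : Type} [Field F] [Fintype F] {t : T}

set_option maxHeartbeats 400000 in
/-- A group of Ree type in which all subgroups of order three are fused by automorphisms has an
element of order nine. -/
theorem ree_exclusion (hJ : JTData T t F) {m : ℕ} (hm : 1 ≤ m)
    (hq : Fintype.card F = 3 ^ (2 * m + 1))
    (hT : Nat.card T = (3 ^ (2 * m + 1)) ^ 3 * ((3 ^ (2 * m + 1)) ^ 3 + 1) * (3 ^ (2 * m + 1) - 1))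
    (h9 : ∀ x : T, x ^ 9 = 1 → x ^ 3 = 1)
    (hfus : ∀ x y : T, orderOf x = 3 → orderOf y = 3 → ∃ α : MulAut T, y ∈ zpowers (α x)) :
    False := by
  classical
  haveI : Fact (Nat.Prime 3) := ⟨Nat.prime_three⟩
  haveI : CharP F 3 := charP_of_card_eq_prime_pow hq
  letI := Fintype.ofFinite T
  obtain ⟨L, hL⟩ := Local.exists_lfac hJ
  obtain ⟨e⟩ := hJ.cent
  set C := centralizer ({t} : Set T) with hC
  set q := 3 ^ (2 * m + 1) with hqdef
  have hq3 : 27 ≤ q := by
    calc (27 : ℕ) = 3 ^ 3 := rfl
      _ ≤ 3 ^ (2 * m + 1) := Nat.pow_le_pow_right (by norm_num) (by omega)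
  have hFq : Nat.card F = q := by rw [Nat.card_eq_fintype_card, hq]
  have hCc : Nat.card C = q * ((q + 1) * (q - 1)) := by rw [hC, hL.card_cent, hq]
  -- centralisers of elements of order three
  have hzp : ∀ {x y : T}, orderOf x = 3 → orderOf y = 3 → y ∈ zpowers x → x ∈ zpowers y := by
    intro x y hx hy h
    have := Subgroup.eq_of_le_of_card_ge (zpowers_le.2 h)
      (by rw [Nat.card_zpowers, Nat.card_zpowers, hx, hy])
    rw [this]
    exact mem_zpowers x
  have hcomm : ∀ {x y z : T}, y ∈ zpowers x → Commute z x → Commute z y := by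
    rintro x _ z ⟨i, rfl⟩ h
    exact h.zpow_right i
  have hcen : ∀ x y : T, orderOf x = 3 → orderOf y = 3 →
      Nat.card (centralizer ({x} : Set T)) = Nat.card (centralizer ({y} : Set T)) := by
    intro x y hx hy
    obtain ⟨α, hα⟩ := hfus x y hx hy
    have hαx : orderOf (α x) = 3 := by rw [MulEquiv.orderOf_eq, hx]
    refine Nat.card_congr (Equiv.subtypeEquiv α.toEquiv fun z => ?_)
    rw [mem_centralizer_singleton_iff, mem_centralizer_singleton_iff]
    refine ⟨fun h => (hcomm hα ((Commute.map (h : Commute z x) α.toMonoidHom))).eq,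
      fun h => α.injective ?_⟩
    rw [map_mul, map_mul]
    exact (hcomm (hzp hαx hy hα) (h : Commute (α z) y)).eq
  -- elements of order three of `C`
  let g3 : {z : C // orderOf z = 3} ≃ {y : PSL2.PSL2 F // orderOf y = 3} :=
    { toFun := fun z => ⟨(e z).2, by
        have h0 := z.2
        have h1 : (e z.1) ^ 3 = 1 := by
          rw [← map_pow, orderOf_dvd_iff_pow_eq_one.1 z.2.dvd, map_one]
        have h2 : (e z.1).1 = 1 := by
          have h := congrArg Prod.fst h1
          rw [Prod.pow_fst, Prod.fst_one] at h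
          revert h
          generalize (e z.1).1 = a
          revert a
          decide
        rw [← MulEquiv.orderOf_eq e, Prod.orderOf, h2, orderOf_one, Nat.lcm_one_left] at h0
        exact h0⟩
      invFun := fun y => ⟨e.symm (1, y.1), by
        rw [MulEquiv.orderOf_eq, Prod.orderOf, orderOf_one, Nat.lcm_one_left]
        exact y.2⟩
      left_inv := fun z => by
        have h1 : (e z.1) ^ 3 = 1 := by
          rw [← map_pow, orderOf_dvd_iff_pow_eq_one.1 z.2.dvd, map_one]
        have h2 : (e z.1).1 = 1 := by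
          have h := congrArg Prod.fst h1
          rw [Prod.pow_fst, Prod.fst_one] at h
          revert h
          generalize (e z.1).1 = a
          revert a
          decide
        apply Subtype.ext
        show e.symm (1, (e z.1).2) = z.1
        rw [← h2, Prod.mk.eta, e.symm_apply_apply]
      right_inv := fun y => by simp }
  set A := Finset.univ.filter fun x : T => orderOf x = 3 with hA
  set B := A.filter fun x => x ∈ C with hB
  have hBc : B.card = (q + 1) * (q - 1) := by
    rw [← Fintype.card_coe, ← Nat.card_eq_fintype_card, ← hFq, ← PSL2.card_orderOf_char (F := F) 3]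
    refine Nat.card_congr (Equiv.trans ?_ g3)
    refine
      { toFun := fun x => ⟨⟨x.1, (Finset.mem_filter.1 x.2).2⟩, by
          rw [← Subgroup.orderOf_coe]; exact (Finset.mem_filter.1 (Finset.mem_filter.1 x.2).1).2⟩
        invFun := fun z => ⟨(z.1 : T), Finset.mem_filter.2 ⟨Finset.mem_filter.2 ⟨Finset.mem_univ _,
          by rw [Subgroup.orderOf_coe]; exact z.2⟩, z.1.2⟩⟩
        left_inv := fun x => rfl
        right_inv := fun z => rfl }
  have hcC : ∀ z : C, orderOf z = 3 → Nat.card (centralizer ({z} : Set C)) ≤ 2 * q := by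
    intro z hz
    have ho := (g3 ⟨z, hz⟩).2
    rw [← hFq, ← PSL2.card_centralizer_char (F := F) 3 ho]
    have h2 : Nat.card (Multiplicative (ZMod 2)) = 2 := by simp
    refine le_of_le_of_eq ?_ ((Nat.card_prod _ _).trans (congrArg (· * _) h2))
    refine Nat.card_le_card_of_injective (fun w => ((e w.1).1, ⟨(e w.1).2, ?_⟩)) fun a b h => ?_
    · rw [mem_centralizer_singleton_iff]
      have := congrArg (fun x => (e x).2) (mem_centralizer_singleton_iff.1 w.2)
      simp only [map_mul, Prod.snd_mul] at this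
      exact this
    · have h1 := Prod.mk.inj h
      exact Subtype.ext (e.injective (Prod.ext h1.1 (congrArg Subtype.val h1.2 :)))
  -- some element of order three is central in a Sylow 3-subgroup
  have hv : 3 * (2 * m + 1) ≤ (Nat.card T).factorization 3 := by
    refine (Nat.prime_three.pow_dvd_iff_le_factorization Nat.card_pos.ne').1 ?_
    rw [hT, mul_comm 3, pow_mul, mul_assoc]
    exact dvd_mul_right _ _
  obtain ⟨P⟩ : Nonempty (Sylow 3 T) := inferInstance
  have hPq : q ^ 3 ∣ Nat.card (P : Subgroup T) := by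
    rw [P.card_eq_multiplicity, hqdef, ← pow_mul]
    exact pow_dvd_pow 3 (by omega)
  haveI : Nontrivial (P : Subgroup T) := by
    rw [← Finite.one_lt_card_iff_nontrivial]
    exact lt_of_lt_of_le (Nat.one_lt_pow (by norm_num) (by omega : 1 < q))
      (Nat.le_of_dvd Nat.card_pos hPq)
  haveI : Nontrivial (center (P : Subgroup T)) := P.isPGroup'.center_nontrivial
  obtain ⟨z₀, hz₀⟩ := exists_prime_orderOf_dvd_card' (G := center (P : Subgroup T)) 3
    (Isolated.prime_dvd_card (P.isPGroup'.to_subgroup (center _)))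
  set x₀ : T := ((z₀ : (P : Subgroup T)) : T) with hx₀def
  have hx₀ : orderOf x₀ = 3 := by rw [hx₀def, orderOf_coe, orderOf_coe]; exact hz₀
  obtain ⟨ec, hec⟩ : q ^ 3 ∣ Nat.card (centralizer ({x₀} : Set T)) :=
    hPq.trans (card_dvd_of_le fun s hs => mem_centralizer_singleton_iff.2
      (congrArg Subtype.val (mem_center_iff.1 z₀.2 ⟨s, hs⟩)))
  -- conjugacy classes
  have hcls : ∀ x : T, orderOf x = 3 →
      (A.filter fun y => ConjClasses.mk y = ConjClasses.mk x).card *
        Nat.card (centralizer ({x} : Set T)) = Nat.card T := by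
    intro x hx
    rw [← Char.card_conjugates_mul_card_centralizer x]
    congr 1
    rw [← Fintype.card_coe, ← Nat.card_eq_fintype_card]
    refine Nat.card_congr (Equiv.subtypeEquivRight fun y => ?_)
    rw [Finset.mem_filter, Finset.mem_filter, ConjClasses.mk_eq_mk_iff_isConj, Set.mem_setOf_eq]
    refine ⟨fun h => h.2.symm, fun h => ⟨⟨Finset.mem_univ _, ?_⟩, h.symm⟩⟩
    obtain ⟨g, rfl⟩ := isConj_iff.1 h
    rw [← hx]
    exact MulEquiv.orderOf_eq (MulAut.conj g) x
  set 𝒦 := A.image ConjClasses.mk with h𝒦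
  have hM : ec * A.card = 𝒦.card * ((q ^ 3 + 1) * (q - 1)) := by
    have h1 : ∀ κ ∈ 𝒦, ec * (A.filter fun y => ConjClasses.mk y = κ).card =
        (q ^ 3 + 1) * (q - 1) := by
      intro κ hκ
      obtain ⟨x, hx, rfl⟩ := Finset.mem_image.1 hκ
      have h := hcls x (Finset.mem_filter.1 hx).2
      rw [hcen x x₀ (Finset.mem_filter.1 hx).2 hx₀, hec, hT, mul_assoc (q ^ 3)] at h
      refine Nat.eq_of_mul_eq_mul_left (show 0 < q ^ 3 by positivity) ?_
      rw [← h]
      ring
    rw [Finset.card_eq_sum_card_image ConjClasses.mk A, Finset.mul_sum, Finset.sum_congr rfl h1,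
      Finset.sum_const, smul_eq_mul]
  -- every class meets `C` in at least half of `B`
  have hhalf : ∀ κ ∈ 𝒦, (q + 1) * (q - 1) ≤ 2 * (B.filter fun y => ConjClasses.mk y = κ).card := by
    intro κ hκ
    obtain ⟨x, hx, rfl⟩ := Finset.mem_image.1 hκ
    have hx3 := (Finset.mem_filter.1 hx).2
    obtain ⟨y, hy⟩ := Finset.card_pos.1 (hBc ▸ Nat.mul_pos (by omega) (by omega) : 0 < B.card)
    obtain ⟨hyA, hyC⟩ := Finset.mem_filter.1 hy
    obtain ⟨α, hα⟩ := hfus y x (Finset.mem_filter.1 hyA).2 hx3
    have hαt : orderOf (α t) = 2 := by rw [MulEquiv.orderOf_eq, hJ.invol]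
    obtain ⟨g, hg⟩ := hL.conj_invol hαt
    have hxt : Commute (α t) x := hcomm hα
      (Commute.map (mem_centralizer_singleton_iff.1 hyC : Commute y t).symm α.toMonoidHom)
    set w : T := g⁻¹ * x * g with hw
    have hwC : w ∈ C := by
      rw [hC, mem_centralizer_singleton_iff, hw]
      have h : g * t * g⁻¹ * x = x * (g * t * g⁻¹) := by rw [hg]; exact hxt.eq
      calc g⁻¹ * x * g * t = g⁻¹ * (x * (g * t * g⁻¹)) * g := by group
        _ = g⁻¹ * (g * t * g⁻¹ * x) * g := by rw [h]
        _ = t * (g⁻¹ * x * g) := by group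
    have hw3 : orderOf w = 3 := by
      rw [← hx3, hw]
      simpa using MulEquiv.orderOf_eq (MulAut.conj g⁻¹) x
    have hcw : Nat.card C = Nat.card {v : C | IsConj (⟨w, hwC⟩ : C) v} *
        Nat.card (centralizer ({⟨w, hwC⟩} : Set C)) :=
      (Char.card_conjugates_mul_card_centralizer _).symm
    have hle : Nat.card {v : C | IsConj (⟨w, hwC⟩ : C) v} ≤
        (B.filter fun y => ConjClasses.mk y = ConjClasses.mk x).card := by
      rw [← Fintype.card_coe, ← Nat.card_eq_fintype_card]
      refine Nat.card_le_card_of_injective (fun v => ⟨(v.1 : T), ?_⟩)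
        fun a b h => Subtype.ext (Subtype.ext (congrArg Subtype.val h :))
      obtain ⟨c, hc⟩ := isConj_iff.1 v.2
      have hv : (v.1 : T) = c * w * (c : T)⁻¹ := (congrArg Subtype.val hc).symm
      refine Finset.mem_filter.2 ⟨Finset.mem_filter.2 ⟨Finset.mem_filter.2 ⟨Finset.mem_univ _, ?_⟩,
        v.1.2⟩, ?_⟩
      · rw [hv, ← hw3]
        exact MulEquiv.orderOf_eq (MulAut.conj (c : T)) w
      · rw [ConjClasses.mk_eq_mk_iff_isConj, hv]
        exact IsConj.symm (isConj_iff.2 ⟨c * g⁻¹, by rw [hw]; group⟩)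
    have hcc := hcC ⟨w, hwC⟩ (by rw [← Subgroup.orderOf_coe]; exact hw3)
    rw [hCc] at hcw
    refine Nat.le_of_mul_le_mul_left ?_ (show 0 < q by omega)
    rw [hcw]
    calc _ ≤ (B.filter fun y => ConjClasses.mk y = ConjClasses.mk x).card * (2 * q) :=
          Nat.mul_le_mul hle hcc
      _ = _ := by ring
  have hk : 𝒦.card ≤ 2 := by
    have h1 : 𝒦.card * ((q + 1) * (q - 1)) ≤ 2 * B.card := by
      rw [Finset.card_eq_sum_card_fiberwise (f := ConjClasses.mk) (t := 𝒦)
        fun y hy => Finset.mem_image_of_mem _ (Finset.mem_filter.1 hy).1, Finset.mul_sum,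
        ← smul_eq_mul, ← Finset.sum_const]
      exact Finset.sum_le_sum hhalf
    rw [hBc] at h1
    exact Nat.le_of_mul_le_mul_right h1 (Nat.mul_pos (by omega) (by omega))
  -- Frobenius
  have hfrob : q ^ 3 ∣ A.card + 1 := by
    have h := PowEqOne.pow_dvd_card_pow_eq_one (G := T) Nat.prime_three ((2 * m + 1) * 3)
      (by omega)
    rw [pow_mul] at h
    refine h.trans (dvd_of_eq ?_)
    rw [Nat.card_eq_fintype_card, Fintype.card_subtype]
    have h0 : A.card + 1 = (insert 1 A).card := by
      rw [Finset.card_insert_of_notMem]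
      simp [hA]
    rw [h0]
    congr 1
    ext x
    have hkey : ∀ j : ℕ, ∀ x : T, x ^ 3 ^ j = 1 → x ^ 3 = 1 := by
      intro j
      induction j with
      | zero => intro x hx; rw [pow_zero, pow_one] at hx; rw [hx, one_pow]
      | succ j ih =>
        intro x hx
        rw [pow_succ', pow_mul] at hx
        have := ih _ hx
        refine h9 x ?_
        rw [show (9 : ℕ) = 3 * 3 by norm_num, pow_mul, this]
    rw [Finset.mem_filter, Finset.mem_insert, hA, Finset.mem_filter]
    simp only [Finset.mem_univ, true_and]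
    rw [← pow_mul]
    refine ⟨fun h => ?_, ?_⟩
    · rcases (Nat.dvd_prime Nat.prime_three).1 (orderOf_dvd_of_pow_eq_one (hkey _ x h)) with h1 | h1
      · exact Or.inl (orderOf_eq_one_iff.1 h1)
      · exact Or.inr h1
    · rintro (rfl | h)
      · exact one_pow _
      · refine orderOf_dvd_iff_pow_eq_one.1 ?_
        rw [h]
        exact dvd_pow_self 3 (by omega)
  have hk0 : 1 ≤ 𝒦.card := by
    rw [Nat.one_le_iff_ne_zero, Finset.card_ne_zero, h𝒦, Finset.image_nonempty]
    exact ⟨x₀, Finset.mem_filter.2 ⟨Finset.mem_univ _, hx₀⟩⟩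
  refine ree_arith (by omega : 3 ≤ q) hk hk0 hM hfrob ?_ (hBc ▸ Finset.card_filter_le _ _)
  rcases Nat.eq_zero_or_pos ec with h | h
  · rw [h, mul_zero] at hec
    exact absurd hec Nat.card_pos.ne'
  · exact h

end Cfsg.Agent.SameOrderConj
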