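/-
Odd-order linear groups over GF(2) in which subgroups of equal prime order are conjugate and which
are transitive on the non-zero vectors: they are groups of semilinear maps of GF(2^n) in dimension one.

Main results (namespace `Cfsg.Agent.SameOrderConj`):
* `lrel_ker`  : the ring generated by a normal abelian subgroup has no zero divisors on the space
* `isCyclic_pCore` : the `s`-cores are cyclic
* `exists_semilinear` : the semilinear model and the order bound
-/
import Cfsg.Agent.EqLemmas
import Cfsg.Agent.Lib.Cores.Basic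
import Cfsg.Agent.Lib.Cores.Fitting
import Cfsg.Agent.Lib.Solvable.Fitting
import Cfsg.Agent.Lib.Isolated.RankOne
import Cfsg.Agent.Lib.AutPSL.Count

set_option autoImplicit false
set_option linter.unusedSectionVars false
set_option linter.style.haveILetI false

namespace Cfsg.Agent.SameOrderConj

open Subgroup

universe u v

variable {H : Type u} [Group H] [Finite H] {V : Type v} [AddCommGroup V] [Finite V]
  [DistribMulAction H V]

/-- The action as a map into the endomorphism ring. -/
noncomputable def act : H →* AddMonoid.End V := DistribMulAction.toAddMonoidEnd H V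

theorem act_apply (h : H) (v : V) : act (V := V) h v = h • v := rfl

/-- The subring of endomorphisms generated by a subgroup. -/
def genRing (V : Type v) [AddCommGroup V] [DistribMulAction H V] (A : Subgroup H) :
    Subring (AddMonoid.End V) :=
  Subring.closure ((fun a => (DistribMulAction.toAddMonoidEnd H V) a) '' (A : Set H))

theorem act_mem_genRing {A : Subgroup H} {a : H} (ha : a ∈ A) : act a ∈ genRing V A :=
  Subring.subset_closure ⟨a, ha, rfl⟩

theorem genRing_comm {A : Subgroup H} (hA : ∀ a ∈ A, ∀ b ∈ A, a * b = b * a) :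
    ∀ x ∈ genRing V A, ∀ y ∈ genRing V A, x * y = y * x := by
  have h := Subring.isMulCommutative_closure (R := AddMonoid.End V)
    (s := (fun a => (DistribMulAction.toAddMonoidEnd H V) a) '' (A : Set H)) (by
      rintro _ ⟨a, ha, rfl⟩ _ ⟨b, hb, rfl⟩
      simp only [← map_mul, hA a ha b hb])
  intro x hx y hy
  exact congrArg Subtype.val (h.is_comm.comm ⟨x, hx⟩ ⟨y, hy⟩)

/-- Conjugation by the image of a group element, as a ring automorphism of the endomorphisms. -/
noncomputable def conjEnd (h : H) : AddMonoid.End V ≃+* AddMonoid.End V where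
  toFun x := act h * x * act h⁻¹
  invFun x := act h⁻¹ * x * act h
  left_inv x := by
    simp only [← mul_assoc, ← map_mul, inv_mul_cancel, map_one, one_mul]
    rw [mul_assoc x, ← map_mul, inv_mul_cancel, map_one, mul_one]
  right_inv x := by
    simp only [← mul_assoc, ← map_mul, mul_inv_cancel, map_one, one_mul]
    rw [mul_assoc x, ← map_mul, mul_inv_cancel, map_one, mul_one]
  map_mul' x y := by
    simp only [mul_assoc]
    rw [← mul_assoc (act (V := V) h⁻¹) (act h), ← map_mul, inv_mul_cancel, map_one, one_mul]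
  map_add' x y := by simp only [mul_add, add_mul]

theorem conjEnd_apply (h : H) (x : AddMonoid.End V) (v : V) :
    conjEnd h x (h • v) = h • x v := by
  show h • x (h⁻¹ • h • v) = h • x v
  rw [inv_smul_smul]

theorem conjEnd_mem {A : Subgroup H} [A.Normal] (h : H) :
    ∀ x ∈ genRing V A, conjEnd h x ∈ genRing V A := by
  intro x hx
  have hle : genRing V A ≤ (genRing V A).comap (conjEnd (V := V) h).toRingHom := by
    refine Subring.closure_le.2 ?_
    rintro _ ⟨a, ha, rfl⟩
    show act h * act a * act h⁻¹ ∈ genRing V A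
    rw [← map_mul, ← map_mul]
    exact act_mem_genRing (Subgroup.Normal.conj_mem inferInstance a ha h)
  exact hle hx

/-- In a transitive action the ring generated by an abelian normal subgroup acts without zero
divisors. -/
theorem lrel_ker (htr : ∀ v w : V, v ≠ 0 → w ≠ 0 → ∃ h : H, h • v = w)
    (A : Subgroup H) [A.Normal] (hA : ∀ a ∈ A, ∀ b ∈ A, a * b = b * a)
    {k : AddMonoid.End V} (hk : k ∈ genRing V A) {v : V} (hv : v ≠ 0) (hkv : k v = 0) : k = 0 := by
  let I : V → Set (AddMonoid.End V) := fun u => {x | x ∈ genRing V A ∧ x u = 0}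
  haveI : Finite (AddMonoid.End V) := Finite.of_injective (fun f : AddMonoid.End V => (f : V → V))
    DFunLike.coe_injective
  have hsub : ∀ (h : H) (u : V), conjEnd h '' I u ⊆ I (h • u) := by
    rintro h u _ ⟨x, ⟨hx, hxu⟩, rfl⟩
    exact ⟨conjEnd_mem h x hx, by rw [conjEnd_apply, hxu, smul_zero]⟩
  have hle : ∀ (h : H) (u : V), (I u).ncard ≤ (I (h • u)).ncard := fun h u => by
    rw [← Set.ncard_image_of_injective (I u) (conjEnd h).injective]
    exact Set.ncard_le_ncard (hsub h u) (Set.toFinite _)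
  have hcard : ∀ u w : V, u ≠ 0 → w ≠ 0 → (I u).ncard ≤ (I w).ncard := fun u w hu hw => by
    obtain ⟨h, rfl⟩ := htr u w hu hw
    exact hle h u
  have hcomm := genRing_comm (V := V) hA
  have heqsub : ∀ u w : V, u ≠ 0 → w ≠ 0 → I u ⊆ I w → I u = I w := fun u w hu hw h =>
    Set.eq_of_subset_of_ncard_le h (hcard w u hw hu) (Set.toFinite _)
  have heq : ∀ u w : V, u ≠ 0 → w ≠ 0 → I u ⊆ I w := by
    intro u w hu hw
    by_cases huw : u + w = 0
    · intro x hx
      refine ⟨hx.1, ?_⟩
      have h2 := congrArg x huw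
      rw [map_add, hx.2, zero_add, map_zero] at h2
      exact h2
    by_contra hne
    have key : ∀ x ∈ I (u + w), x u = 0 := by
      rintro x ⟨hx, hxuw⟩
      by_contra hd
      have hd' : x w = -x u := eq_neg_of_add_eq_zero_right (by rw [← map_add]; exact hxuw)
      have h1 : I u ⊆ I (x u) := fun y hy => ⟨hy.1, by
        have h := DFunLike.congr_fun (hcomm y hy.1 x hx) u
        change y (x u) = x (y u) at h
        rw [h, hy.2, map_zero]⟩
      have h2 : I w ⊆ I (x u) := fun y hy => ⟨hy.1, by
        have h := DFunLike.congr_fun (hcomm y hy.1 x hx) w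
        change y (x w) = x (y w) at h
        rw [hy.2, map_zero, hd', map_neg, neg_eq_zero] at h
        exact h⟩
      exact hne ((heqsub u _ hu hd h1).trans (heqsub w _ hw hd h2).symm).subset
    have h1 : I (u + w) ⊆ I u := fun x hx => ⟨hx.1, key x hx⟩
    have h2 : I (u + w) ⊆ I w := fun x hx => ⟨hx.1, by
      have h := hx.2
      rw [map_add, key x hx, zero_add] at h
      exact h⟩
    exact hne ((heqsub _ _ huw hu h1).symm.trans (heqsub _ _ huw hw h2)).subset
  refine DFunLike.ext _ _ fun w => ?_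
  by_cases hw : w = 0
  · rw [hw, map_zero]; rfl
  · exact (heq v w hv hw (show k ∈ I v from ⟨hk, hkv⟩)).2

/-- An abelian normal subgroup of a faithful transitive group is cyclic. -/
theorem isCyclic_of_normal [FaithfulSMul H V] [Nontrivial V]
    (htr : ∀ v w : V, v ≠ 0 → w ≠ 0 → ∃ h : H, h • v = w)
    (A : Subgroup H) [A.Normal] (hA : ∀ a ∈ A, ∀ b ∈ A, a * b = b * a) : IsCyclic A := by
  let K := genRing V A
  have hc := genRing_comm (V := V) hA
  letI : CommRing K :=
    { (inferInstance : Ring K) with mul_comm := fun x y => Subtype.ext (hc x x.2 y y.2) }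
  haveI : Nontrivial K := ⟨⟨1, 0, fun h => by
    obtain ⟨v, hv⟩ := exists_ne (0 : V)
    exact hv (DFunLike.congr_fun (congrArg Subtype.val h) v)⟩⟩
  haveI : NoZeroDivisors K := ⟨fun {x y} hxy => by
    by_cases hy : y = 0
    · exact Or.inr hy
    refine Or.inl ?_
    obtain ⟨v, hv⟩ : ∃ v, (y : AddMonoid.End V) v ≠ 0 := by
      by_contra hc'
      exact hy (Subtype.ext (DFunLike.ext _ _ fun v => by
        by_contra hv; exact hc' ⟨v, hv⟩))
    refine Subtype.ext (lrel_ker htr A hA x.2 hv ?_)
    exact DFunLike.congr_fun (congrArg Subtype.val hxy) v⟩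
  haveI : IsDomain K := NoZeroDivisors.to_isDomain K
  let f : A →* K :=
    { toFun := fun a => ⟨act (a : H), act_mem_genRing a.2⟩
      map_one' := Subtype.ext (map_one _)
      map_mul' := fun a b => Subtype.ext (map_mul act (a : H) b) }
  refine isCyclic_of_subgroup_isDomain f fun a b hab => Subtype.ext ?_
  exact eq_of_smul_eq_smul fun v : V => DFunLike.congr_fun (congrArg Subtype.val hab) v

/-- Equal prime order subgroups are conjugate. -/
def PrimeConj (H : Type u) [Group H] : Prop :=
  ∀ s : ℕ, s.Prime → ∀ X Y : Subgroup H, Nat.card X = s → Nat.card Y = s →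
    ∃ g : H, Y = X.map (MulAut.conj g).toMonoidHom

theorem isCyclic_pCore [FaithfulSMul H V] [Nontrivial V]
    (htr : ∀ v w : V, v ≠ 0 → w ≠ 0 → ∃ h : H, h • v = w) (hodd : Odd (Nat.card H))
    (hpc : PrimeConj H) (s : ℕ) [hs : Fact s.Prime] : IsCyclic (Cfsg.pCore s H) := by
  set Q := Cfsg.pCore s H with hQ
  haveI hQn : Q.Normal := by rw [hQ]; infer_instance
  have hQp : IsPGroup s Q := Cores.isPGroup_pCore s H
  rcases subsingleton_or_nontrivial Q with hQs | hQs
  · exact isCyclic_of_subsingleton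
  haveI : Nontrivial (center Q) := hQp.center_nontrivial
  set Z := (center Q).map Q.subtype with hZ
  haveI : Z.Normal := Cores.map_subtype_normal_of_characteristic Q (center Q)
  have hZcomm : ∀ a ∈ Z, ∀ b ∈ Z, a * b = b * a := by
    rintro _ ⟨a, ha, rfl⟩ _ ⟨b, hb, rfl⟩
    rw [← map_mul, ← map_mul, mem_center_iff.1 ha b]
  haveI := isCyclic_of_normal htr Z hZcomm
  have hdvd : s ∣ Nat.card Z := by
    rw [hZ, Cores.card_map_subtype]
    exact Isolated.prime_dvd_card (hQp.to_subgroup (center Q))
  obtain ⟨c, hc⟩ := exists_prime_orderOf_dvd_card' (G := Z) s hdvd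
  have hC1 : Nat.card (zpowers (c : H)) = s := by rw [Nat.card_zpowers, orderOf_coe, hc]
  haveI : IsMulCommutative Z := IsCyclic.isMulCommutative
  have hchar : ∀ g : H, g * c * g⁻¹ ∈ zpowers (c : H) := by
    intro g
    have hm : g * c * g⁻¹ ∈ Z := Subgroup.Normal.conj_mem inferInstance _ c.2 g
    have ho : orderOf (⟨g * c * g⁻¹, hm⟩ : Z) = s := by
      rw [← orderOf_coe]
      show orderOf (g * c * g⁻¹) = s
      rw [← MulAut.conj_apply, MulEquiv.orderOf_eq, orderOf_coe, hc]
    letI : CommGroup Z := { (inferInstance : Group Z) with mul_comm := fun a b => mul_comm' a b }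
    have hker : ∀ z : Z, orderOf z = s → zpowers z = (powMonoidHom s : Z →* Z).ker := by
      intro z hz
      refine Subgroup.eq_of_le_of_card_ge ?_ ?_
      · rw [zpowers_le, MonoidHom.mem_ker, powMonoidHom_apply, ← hz, pow_orderOf_eq_one]
      · rw [IsCyclic.card_powMonoidHom_ker, Nat.card_zpowers, hz]
        exact Nat.le_of_dvd hs.out.pos (Nat.gcd_dvd_right _ _)
    have h3 : (⟨g * c * g⁻¹, hm⟩ : Z) ∈ zpowers c := by
      rw [hker c hc, ← hker _ ho]
      exact mem_zpowers _
    obtain ⟨k, hk⟩ := mem_zpowers_iff.1 h3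
    exact mem_zpowers_iff.2 ⟨k, by simpa using congrArg Subtype.val hk⟩
  have hfix : ∀ g : H, (zpowers (c : H)).map (MulAut.conj g).toMonoidHom = zpowers (c : H) := by
    intro g
    refine Subgroup.eq_of_le_of_card_ge ?_ ?_
    · rw [MonoidHom.map_zpowers, zpowers_le]
      exact hchar g
    · rw [Nat.card_congr (equivMapOfInjective _ (MulAut.conj g).toMonoidHom
        (MulAut.conj g).injective).toEquiv]
  have hs2 : s ≠ 2 := by
    rintro rfl
    exact absurd ((Isolated.prime_dvd_card hQp).trans (card_subgroup_dvd_card Q))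
      hodd.not_two_dvd_nat
  refine Isolated.isCyclic_of_unique hs2 (Nat.card Q) Q hQp le_rfl fun x y hx hxp hyp => ?_
  rcases eq_or_ne y 1 with rfl | hy
  · exact one_mem _
  have horder : ∀ w : Q, w ≠ 1 → w ^ s = 1 → zpowers (w : H) = zpowers (c : H) := by
    intro w hw hwp
    have how : Nat.card (zpowers (w : H)) = s := by
      rw [Nat.card_zpowers, orderOf_coe]
      exact orderOf_eq_prime hwp hw
    obtain ⟨g, hg⟩ := hpc s hs.out _ _ hC1 how
    rw [hg, hfix g]
  have hxy : (y : H) ∈ zpowers (x : H) := by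
    rw [horder x hx hxp, ← horder y hy hyp]
    exact mem_zpowers _
  obtain ⟨k, hk⟩ := mem_zpowers_iff.1 hxy
  exact mem_zpowers_iff.2 ⟨k, Subtype.ext (by simpa using hk)⟩

theorem fitting_comm [FaithfulSMul H V] [Nontrivial V]
    (htr : ∀ v w : V, v ≠ 0 → w ≠ 0 → ∃ h : H, h • v = w) (hodd : Odd (Nat.card H))
    (hpc : PrimeConj H) :
    ∀ a ∈ Cfsg.fittingSubgroup H, ∀ b ∈ Cfsg.fittingSubgroup H, a * b = b * a := by
  rw [Cores.fittingSubgroup_eq_iSup_pCore]
  intro a ha b hb
  haveI : IsMulCommutative ↥(⨆ p : Nat.Primes, Cfsg.pCore (p : ℕ) H) := by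
    rw [Subgroup.iSup_eq_closure]
    refine Subgroup.isMulCommutative_closure ?_
    intro x hx y hy
    obtain ⟨p, hxp⟩ := Set.mem_iUnion.1 hx
    obtain ⟨q, hyq⟩ := Set.mem_iUnion.1 hy
    haveI := Fact.mk p.2
    haveI := Fact.mk q.2
    rcases eq_or_ne (p : ℕ) q with hpq | hpq
    · haveI := isCyclic_pCore htr hodd hpc (p : ℕ)
      haveI : IsMulCommutative (Cfsg.pCore (p : ℕ) H) := IsCyclic.isMulCommutative
      have hyp : y ∈ Cfsg.pCore (p : ℕ) H := by rw [hpq]; exact hyq
      exact congrArg Subtype.val (mul_comm' (⟨x, hxp⟩ : Cfsg.pCore (p : ℕ) H) ⟨y, hyp⟩)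
    · exact Cores.pCore_commute hpq hxp hyq
  exact congrArg Subtype.val
    (mul_comm' (⟨a, ha⟩ : ↥(⨆ p : Nat.Primes, Cfsg.pCore (p : ℕ) H)) ⟨b, hb⟩)

/-- The semilinear model. -/
theorem exists_semilinear [FaithfulSMul H V] [Nontrivial V] (h2 : ∀ v : V, v + v = 0)
    (htr : ∀ v w : V, v ≠ 0 → w ≠ 0 → ∃ h : H, h • v = w) (hodd : Odd (Nat.card H))
    (hsol : Group.IsSolvable H) (hpc : PrimeConj H) :
    ∃ (n : ℕ) (K : Type v) (_ : Field K) (_ : Finite K) (e : K ≃+ V),
      1 ≤ n ∧ Nat.card K = 2 ^ n ∧ Nat.card H ∣ (2 ^ n - 1) * n ∧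
        2 ^ n - 1 ≤ Nat.card H ∧
        ∀ h : H, ∃ (a : K) (τ : K ≃+* K), a ≠ 0 ∧ orderOf τ ∣ Nat.card H ∧
          ∀ k : K, h • e k = e (a * τ k) := by
  haveI := hsol
  set A := Cfsg.fittingSubgroup H with hAdef
  haveI hAn : A.Normal := Subgroup.sSup_normal _ fun _ h => h.1
  have hA := fitting_comm htr hodd hpc
  have hC : centralizer (A : Set H) ≤ A := Solvable.centralizer_fitting_le H
  let K := genRing V A
  haveI : Finite (AddMonoid.End V) := Finite.of_injective (fun f : AddMonoid.End V => (f : V → V))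
    DFunLike.coe_injective
  have hcR := genRing_comm (V := V) hA
  letI : CommRing K :=
    { (inferInstance : Ring K) with mul_comm := fun x y => Subtype.ext (hcR x x.2 y y.2) }
  obtain ⟨v₀, hv₀⟩ := exists_ne (0 : V)
  haveI : Nontrivial K := ⟨⟨1, 0, fun h =>
    hv₀ (DFunLike.congr_fun (congrArg Subtype.val h) v₀)⟩⟩
  haveI : NoZeroDivisors K := ⟨fun {x y} hxy => by
    by_cases hy : y = 0
    · exact Or.inr hy
    refine Or.inl ?_
    obtain ⟨v, hv⟩ : ∃ v, (y : AddMonoid.End V) v ≠ 0 := by
      by_contra hc'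
      exact hy (Subtype.ext (DFunLike.ext _ _ fun v => by
        by_contra hv; exact hc' ⟨v, hv⟩))
    refine Subtype.ext (lrel_ker htr A hA x.2 hv ?_)
    exact DFunLike.congr_fun (congrArg Subtype.val hxy) v⟩
  haveI : IsDomain K := NoZeroDivisors.to_isDomain K
  letI : Field K := (Finite.isField_of_domain K).toField
  letI : Module K V :=
    Module.compHom V (K.subtype : K →+* AddMonoid.End V)
  have hsmul : ∀ (k : K) (v : V), k • v = (k : AddMonoid.End V) v := fun _ _ => rfl
  haveI : Fintype K := Fintype.ofFinite K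
  haveI : CharP K 2 := by
    refine CharTwo.of_one_ne_zero_of_two_eq_zero one_ne_zero (Subtype.ext (DFunLike.ext _ _ fun v => ?_))
    show ((2 : K) : AddMonoid.End V) v = _
    rw [← one_add_one_eq_two]
    exact h2 v
  have hcardK : ∃ d : ℕ, 1 ≤ d ∧ Nat.card K = 2 ^ d := by
    obtain ⟨d, -, hd⟩ := FiniteField.card K 2
    exact ⟨d, d.2, by rw [Nat.card_eq_fintype_card, hd]⟩
  obtain ⟨d, hd1, hd⟩ := hcardK
  haveI : Fact (Nat.Prime 2) := ⟨Nat.prime_two⟩
  have haut : Nat.card (K ≃+* K) = d :=
    (AutPSL.fieldAut_facts 2 d hd1 (by rw [← Nat.card_eq_fintype_card, hd])).2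
  -- the twisting homomorphism
  let σ : H →* (K ≃+* K) :=
    { toFun := fun h =>
        { toFun := fun k => ⟨conjEnd h k, conjEnd_mem (V := V) (A := A) h k k.2⟩
          invFun := fun k => ⟨conjEnd h⁻¹ k, conjEnd_mem (V := V) (A := A) h⁻¹ k k.2⟩
          left_inv := fun k => Subtype.ext (DFunLike.ext _ _ fun v => by
            show h⁻¹ • h • (k : AddMonoid.End V) (h⁻¹ • (h⁻¹)⁻¹ • v) = (k : AddMonoid.End V) v
            rw [inv_smul_smul, inv_inv, inv_smul_smul])
          right_inv := fun k => Subtype.ext (DFunLike.ext _ _ fun v => by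
            show h • h⁻¹ • (k : AddMonoid.End V) ((h⁻¹)⁻¹ • h⁻¹ • v) = (k : AddMonoid.End V) v
            rw [smul_inv_smul, inv_inv, smul_inv_smul])
          map_mul' := fun x y => Subtype.ext (map_mul (conjEnd h) (x : AddMonoid.End V) y)
          map_add' := fun x y => Subtype.ext (map_add (conjEnd h) (x : AddMonoid.End V) y) }
      map_one' := RingEquiv.ext fun k => Subtype.ext (DFunLike.ext _ _ fun v => by
        show (1 : H) • (k : AddMonoid.End V) ((1 : H)⁻¹ • v) = (k : AddMonoid.End V) v
        rw [inv_one, one_smul, one_smul])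
      map_mul' := fun g h => RingEquiv.ext fun k => Subtype.ext (DFunLike.ext _ _ fun v => by
        show (g * h) • (k : AddMonoid.End V) ((g * h)⁻¹ • v) =
          g • h • (k : AddMonoid.End V) (h⁻¹ • g⁻¹ • v)
        rw [mul_inv_rev, mul_smul, mul_smul]) }
  have hker : σ.ker = A := by
    refine le_antisymm (fun h hh => hC (mem_centralizer_iff.2 fun a ha => ?_)) fun a ha => ?_
    · refine eq_of_smul_eq_smul fun v : V => ?_
      have h1 := DFunLike.congr_fun (congrArg Subtype.val
        (RingEquiv.congr_fun (MonoidHom.mem_ker.1 hh) ⟨act a, act_mem_genRing ha⟩)) (h • v)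
      change h • a • (h⁻¹ • h • v) = a • h • v at h1
      rw [inv_smul_smul] at h1
      rw [mul_smul, mul_smul]
      exact h1.symm
    · refine MonoidHom.mem_ker.2 (RingEquiv.ext fun k => Subtype.ext ?_)
      show act (V := V) a * (k : AddMonoid.End V) * act (V := V) a⁻¹ = k
      rw [hcR _ (act_mem_genRing ha) _ k.2, mul_assoc, ← map_mul, mul_inv_cancel, map_one, mul_one]
  -- orders
  have hAK : Nat.card A ∣ 2 ^ d - 1 := by
    let f : A →* Kˣ :=
      MonoidHom.toHomUnits
        { toFun := fun a => (⟨act (a : H), act_mem_genRing a.2⟩ : K)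
          map_one' := Subtype.ext (map_one _)
          map_mul' := fun a b => Subtype.ext (map_mul (act (V := V)) (a : H) b) }
    have hf : Function.Injective f := fun a b hab => Subtype.ext <|
      eq_of_smul_eq_smul fun v : V =>
        DFunLike.congr_fun (congrArg Subtype.val (congrArg Units.val hab)) v
    have h := Subgroup.card_dvd_of_injective f hf
    rwa [Nat.card_units, hd] at h
  have hrange : Nat.card σ.range ∣ d := haut ▸ card_subgroup_dvd_card σ.range
  have hH : Nat.card H = Nat.card A * Nat.card σ.range := by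
    rw [← hker, ← Subgroup.index_ker, Subgroup.card_mul_index]
  have hHdvd : Nat.card H ∣ (2 ^ d - 1) * d := hH ▸ Nat.mul_dvd_mul hAK hrange
  have hlow : Nat.card V - 1 ≤ Nat.card H := by
    have hs : Function.Surjective
        (fun h : H => (⟨h • v₀, by simpa using (smul_ne_zero_iff_ne h).2 hv₀⟩ : {v : V // v ≠ 0})) := by
      rintro ⟨w, hw⟩
      obtain ⟨h, rfl⟩ := htr v₀ w hv₀ hw
      exact ⟨h, rfl⟩
    have hle := Nat.card_le_card_of_surjective _ hs
    haveI : Fintype V := Fintype.ofFinite V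
    classical
    rwa [Nat.card_eq_fintype_card, Fintype.card_subtype_compl, Fintype.card_subtype_eq,
      ← Nat.card_eq_fintype_card] at hle
  -- dimension one
  obtain ⟨e, he⟩ : ∃ e, Nat.card V = Nat.card K ^ e :=
    ⟨_, Module.natCard_eq_pow_finrank (K := K) (V := V)⟩
  have hV1 : 1 < Nat.card V := Finite.one_lt_card
  have he1 : e = 1 := by
    rcases Nat.lt_or_ge e 2 with h | h
    · rcases Nat.eq_zero_or_pos e with h0 | h0
      · rw [he, h0, pow_zero] at hV1; omega
      · omega
    exfalso
    have h1 : Nat.card K ^ 2 ≤ Nat.card V := by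
      rw [he]; exact Nat.pow_le_pow_right Nat.card_pos h
    have h2 : Nat.card H ≤ (2 ^ d - 1) * d :=
      Nat.le_of_dvd (Nat.mul_pos (Nat.sub_pos_of_lt (Nat.one_lt_two_pow (by omega))) hd1) hHdvd
    have h3 : d < 2 ^ d := Nat.lt_two_pow_self
    rw [hd, sq] at h1
    have h4 : (2 ^ d - 1) * d + 1 < 2 ^ d * 2 ^ d := by
      have : (2 ^ d - 1) * d + d = 2 ^ d * d := by
        rw [Nat.sub_mul, one_mul, Nat.sub_add_cancel]
        exact Nat.le_mul_of_pos_left _ (by positivity)
      have h5 : 2 ^ d * d < 2 ^ d * 2 ^ d := Nat.mul_lt_mul_of_pos_left h3 (by positivity)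
      omega
    omega
  rw [he1, pow_one, hd] at he
  have hbij : Function.Bijective (fun k : K => k • v₀) := by
    refine (Nat.bijective_iff_injective_and_card _).2 ⟨fun a b hab => ?_, by rw [hd, he]⟩
    by_contra hne
    have hz : (a - b) • v₀ = 0 := by rw [sub_smul]; exact sub_eq_zero.2 hab
    exact sub_ne_zero.2 hne (Subtype.ext (lrel_ker htr A hA (a - b).2 hv₀ hz))
  let E : K ≃+ V := AddEquiv.ofBijective
    (AddMonoidHom.mk' (fun k : K => k • v₀) fun a b => add_smul a b v₀) hbij
  refine ⟨d, K, inferInstance, inferInstance, E, hd1, hd, hHdvd, by rw [← he]; exact hlow,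
    fun h => ?_⟩
  obtain ⟨a, ha⟩ := hbij.2 (h • v₀)
  refine ⟨a, σ h, ?_, (orderOf_map_dvd σ h).trans (orderOf_dvd_natCard h), fun k => ?_⟩
  · rintro rfl
    exact (smul_ne_zero_iff_ne h).2 hv₀ (ha.symm.trans (zero_smul K v₀))
  · show h • (k : K) • v₀ = (a * σ h k) • v₀
    rw [mul_comm a, mul_smul, show a • v₀ = h • v₀ from ha]
    exact (conjEnd_apply h (k : AddMonoid.End V) v₀).symm

end Cfsg.Agent.SameOrderConj
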