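/-
Groups in which any two subgroups of the same order are conjugate: Sylow 2-subgroups and
centralisers of involutions.

Main results (namespace `Cfsg.Agent.SameOrderConj`):
* `SubgroupConj.quotient`, `SubgroupConj.of_mulEquiv`
* `sylow_two_cases` : elementary abelian, cyclic or quaternion of order 8
* `centralizer_le_normalizer`, `centralizer_solvable`
-/
import Cfsg.Agent.EqLemmas
import Cfsg.Agent.Lib.Cores.Basic
import Cfsg.Agent.Lib.Involution.Basic
import Cfsg.Agent.Lib.Involution.BaerSuzuki
import Cfsg.Agent.Lib.Involution.KleinFour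
import Cfsg.Agent.Lib.SameOrderConj.Linear
import Cfsg.Agent.Lib.OddOrderTheorem.FTUse
import Cfsg.Agent.S0016

set_option autoImplicit false
set_option linter.unusedSectionVars false
set_option linter.style.haveILetI false

namespace Cfsg.Agent.SameOrderConj

open Subgroup

universe u v

/-- Any two subgroups of the same order are conjugate. -/
def SubgroupConj (G : Type u) [Group G] : Prop :=
  ∀ H K : Subgroup G, Nat.card H = Nat.card K → ∃ g : G, K = H.map (MulAut.conj g).toMonoidHom

variable {G : Type u} [Group G] [Finite G]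

theorem commute_of_sq {W : Subgroup G} (h : ∀ w ∈ W, w * w = 1) {x y : G} (hx : x ∈ W)
    (hy : y ∈ W) : x * y = y * x := by
  rw [← inv_eq_of_mul_eq_one_right (h _ (mul_mem hx hy)), mul_inv_rev,
    inv_eq_of_mul_eq_one_right (h x hx), inv_eq_of_mul_eq_one_right (h y hy)]

theorem map_conj_map {Q : Type v} [Group Q] (f : G →* Q) (H : Subgroup G) (g : G) :
    (H.map (MulAut.conj g).toMonoidHom).map f = (H.map f).map (MulAut.conj (f g)).toMonoidHom := by
  rw [map_map, map_map]
  congr 1
  ext x
  simp

theorem SubgroupConj.of_surjective (hC : SubgroupConj G) {Q : Type v} [Group Q] (f : G →* Q)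
    (hf : Function.Surjective f) : SubgroupConj Q := by
  intro H K hHK
  have hc : ∀ X : Subgroup Q, Nat.card (X.comap f) = Nat.card f.ker * Nat.card X := fun X => by
    rw [← Cores.card_map_mul_ker f (X.comap f) (fun x hx => by
      rw [mem_comap, MonoidHom.mem_ker.1 hx]; exact one_mem X),
      map_comap_eq_self_of_surjective hf, mul_comm]
  obtain ⟨g, hg⟩ := hC (H.comap f) (K.comap f) (by rw [hc, hc, hHK])
  refine ⟨f g, ?_⟩
  rw [← map_comap_eq_self_of_surjective hf K, hg, map_conj_map,
    map_comap_eq_self_of_surjective hf H]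

theorem SubgroupConj.quotient (hC : SubgroupConj G) (N : Subgroup G) [N.Normal] :
    SubgroupConj (G ⧸ N) :=
  hC.of_surjective _ (QuotientGroup.mk'_surjective N)

theorem SubgroupConj.of_mulEquiv (hC : SubgroupConj G) {Q : Type v} [Group Q] (e : G ≃* Q) :
    SubgroupConj Q :=
  hC.of_surjective e.toMonoidHom e.surjective

theorem SubgroupConj.primeConj (hC : SubgroupConj G) : PrimeConj G :=
  fun _ _ X Y hX hY => hC X Y (hX.trans hY.symm)

theorem SubgroupConj.nonempty_equiv (hC : SubgroupConj G) {H K : Subgroup G}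
    (h : Nat.card H = Nat.card K) : Nonempty (H ≃* K) := by
  obtain ⟨g, rfl⟩ := hC H K h
  exact ⟨H.equivMapOfInjective _ (MulAut.conj g).injective⟩

/-- Any two `p`-subgroups of the same order are conjugate. -/
def PSubgroupConj (G : Type u) [Group G] : Prop :=
  ∀ p : ℕ, p.Prime → ∀ H K : Subgroup G, IsPGroup p H → IsPGroup p K → Nat.card H = Nat.card K →
    ∃ g : G, K = H.map (MulAut.conj g).toMonoidHom

theorem SubgroupConj.pConj (hC : SubgroupConj G) : PSubgroupConj G :=
  fun _ _ H K _ _ h => hC H K h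

theorem PSubgroupConj.primeConj (hD : PSubgroupConj G) : PrimeConj G :=
  fun s hs X Y hX hY => by
    haveI := Fact.mk hs
    exact hD s hs X Y (IsPGroup.of_card (n := 1) (by rw [hX, pow_one]))
      (IsPGroup.of_card (n := 1) (by rw [hY, pow_one])) (hX.trans hY.symm)

theorem PSubgroupConj.nonempty_equiv (hD : PSubgroupConj G) {p k : ℕ} (hp : p.Prime)
    {H K : Subgroup G} (hH : Nat.card H = p ^ k) (hK : Nat.card K = p ^ k) : Nonempty (H ≃* K) := by
  haveI := Fact.mk hp
  obtain ⟨g, rfl⟩ := hD p hp H K (IsPGroup.of_card hH) (IsPGroup.of_card hK) (hH.trans hK.symm)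
  exact ⟨H.equivMapOfInjective _ (MulAut.conj g).injective⟩

theorem PSubgroupConj.of_surjective (hD : PSubgroupConj G) {Q : Type v} [Group Q] (f : G →* Q)
    (hf : Function.Surjective f) : PSubgroupConj Q := by
  haveI : Finite Q := Finite.of_surjective f hf
  intro p hp H K hH hK hHK
  haveI := Fact.mk hp
  have key : ∀ X : Subgroup Q, IsPGroup p X → ∃ P : Subgroup G, IsPGroup p P ∧ P.map f = X ∧
      Nat.card P = p ^ (Nat.card f.ker * Nat.card X).factorization p := by
    intro X hX
    obtain ⟨P⟩ : Nonempty (Sylow p (X.comap f)) := inferInstance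
    let φ : X.comap f →* X := f.subgroupComap X
    have hφ : Function.Surjective φ := by
      rintro ⟨x, hx⟩
      obtain ⟨y, rfl⟩ := hf x
      exact ⟨⟨y, hx⟩, rfl⟩
    have htop : (P : Subgroup (X.comap f)).map φ = ⊤ :=
      ((P.mapSurjective hφ).is_maximal' (hX.to_subgroup ⊤) le_top).symm
    refine ⟨(P : Subgroup (X.comap f)).map (X.comap f).subtype, P.isPGroup'.map _, ?_, ?_⟩
    · apply le_antisymm
      · rw [map_le_iff_le_comap, map_le_iff_le_comap]
        exact fun x _ => x.2
      · intro x hx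
        have h : (⟨x, hx⟩ : X) ∈ (P : Subgroup (X.comap f)).map φ := htop ▸ mem_top _
        obtain ⟨y, hy, hyx⟩ := h
        exact ⟨y, ⟨y, hy, rfl⟩, congrArg Subtype.val hyx⟩
    · rw [Cores.card_map_subtype, P.card_eq_multiplicity,
        ← Cores.card_map_mul_ker f (X.comap f) (fun x hx => by
          rw [mem_comap, MonoidHom.mem_ker.1 hx]; exact one_mem X),
        map_comap_eq_self_of_surjective hf, mul_comm]
  obtain ⟨P, hP, hPH, hPc⟩ := key H hH
  obtain ⟨R, hR, hRK, hRc⟩ := key K hK
  obtain ⟨g, hg⟩ := hD p hp P R hP hR (by rw [hPc, hRc, hHK])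
  exact ⟨f g, by rw [← hRK, hg, map_conj_map, hPH]⟩

theorem PSubgroupConj.quotient (hD : PSubgroupConj G) (N : Subgroup G) [N.Normal] :
    PSubgroupConj (G ⧸ N) :=
  hD.of_surjective _ (QuotientGroup.mk'_surjective N)

theorem PSubgroupConj.of_mulEquiv (hD : PSubgroupConj G) {Q : Type v} [Group Q] (e : G ≃* Q) :
    PSubgroupConj Q :=
  hD.of_surjective e.toMonoidHom e.surjective

/-- A normal subgroup containing an element of prime order contains all of them. -/
theorem PSubgroupConj.le_of_normal (hD : PSubgroupConj G) {N : Subgroup G} [N.Normal] {s : ℕ}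
    {x y : G} (hs : s.Prime) (hx : orderOf x = s) (hxN : x ∈ N) (hy : orderOf y = s) : y ∈ N := by
  obtain ⟨g, hg⟩ := hD.primeConj s hs (zpowers x) (zpowers y)
    (by rw [Nat.card_zpowers, hx]) (by rw [Nat.card_zpowers, hy])
  have h := mem_zpowers y
  rw [hg, MonoidHom.map_zpowers] at h
  obtain ⟨k, hk⟩ := mem_zpowers_iff.1 h
  rw [← hk]
  exact zpow_mem (Subgroup.Normal.conj_mem inferInstance x hxN g) k

/-- A normal subgroup is the only one of its order. -/
theorem SubgroupConj.eq_of_normal (hC : SubgroupConj G) {N H : Subgroup G} [N.Normal]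
    (h : Nat.card N = Nat.card H) : H = N := by
  obtain ⟨g, rfl⟩ := hC N H h
  refine Subgroup.eq_of_le_of_card_ge ?_ h.le
  rintro _ ⟨x, hx, rfl⟩
  exact Subgroup.Normal.conj_mem inferInstance x hx g

/-- Two commuting involutions: the first centralises no element of odd prime order inverted by the
second. -/
theorem SubgroupConj.no_inverted (hC : SubgroupConj G) {t u r : G} (ht : orderOf t = 2)
    (hu : orderOf u = 2) (htr : Commute t r) (hr : Odd (orderOf r))
    (hur : u * r * u⁻¹ = r⁻¹) : r = 1 := by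
  classical
  by_contra hne
  obtain ⟨p, hp, hpr⟩ := Nat.exists_prime_and_dvd (n := orderOf r)
    fun h => hne (orderOf_eq_one_iff.1 h)
  have hp2 : p ≠ 2 := fun h => hr.not_two_dvd_nat (h ▸ hpr)
  set s := r ^ (orderOf r / p) with hs
  have hso : orderOf s = p := by
    rw [hs, orderOf_pow_orderOf_div (orderOf_pos r).ne' hpr]
  have hts : Commute t s := htr.pow_right _
  have hus : u * s * u⁻¹ = s⁻¹ := Involution.inverts_pow hur _
  -- the cyclic subgroup of order `2p`
  have hco : orderOf (t * s) = 2 * p := by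
    rw [hts.orderOf_mul_eq_mul_orderOf_of_coprime, ht, hso]
    rw [ht, hso]
    exact (Nat.coprime_primes Nat.prime_two hp).2 hp2.symm
  -- the dihedral subgroup of order `2p`
  have hu2 := Involution.mul_self hu
  have hv : orderOf (u * s) = 2 := by
    refine Involution.orderOf_of_sq ?_ fun h => ?_
    · calc u * s * (u * s) = u * s * u⁻¹ * s := by rw [Involution.inv_eq hu]; group
        _ = 1 := by rw [hus, inv_mul_cancel]
    · have : s = u⁻¹ := eq_inv_of_mul_eq_one_right h
      rw [Involution.inv_eq hu] at this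
      rw [this, hu] at hso
      exact hp2 hso.symm
  have hne' : u ≠ u * s := fun h => by
    have : s = 1 := by simpa using h
    rw [this, orderOf_one] at hso
    exact hp.one_lt.ne hso
  obtain ⟨e, -, -⟩ := Involution.card_closure_pair hu hv hne'
  have hcD : Nat.card (closure ({u, u * s} : Set G)) = 2 * p := by
    rw [Nat.card_congr e.symm.toEquiv, DihedralGroup.nat_card, ← mul_assoc, hu2, one_mul, hso]
  obtain ⟨f⟩ := hC.nonempty_equiv (H := zpowers (t * s)) (K := closure ({u, u * s} : Set G))
    (by rw [Nat.card_zpowers, hco, hcD])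
  haveI : IsMulCommutative (zpowers (t * s)) := IsCyclic.isMulCommutative
  have huD : u ∈ closure ({u, u * s} : Set G) := subset_closure (by simp)
  have hvD : u * s ∈ closure ({u, u * s} : Set G) := subset_closure (by simp)
  have hcomm : u * (u * s) = (u * s) * u := by
    have h := congrArg Subtype.val
      (show (⟨u, huD⟩ : closure ({u, u * s} : Set G)) * ⟨u * s, hvD⟩ = ⟨u * s, hvD⟩ * ⟨u, huD⟩ from
        f.symm.injective (by rw [map_mul, map_mul]; exact mul_comm' _ _))
    exact h
  have h1 : u * s * u⁻¹ = s := by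
    rw [Involution.inv_eq hu, ← hcomm, ← mul_assoc, hu2, one_mul]
  rw [hus] at h1
  have h2 : s ^ 2 = 1 := by rw [pow_two]; nth_rw 1 [← h1]; exact inv_mul_cancel s
  have := orderOf_dvd_of_pow_eq_one h2
  rw [hso] at this
  exact hp2 ((Nat.prime_dvd_prime_iff_eq hp Nat.prime_two).1 this)

section quaternion

theorem quaternion_not_subgroupConj {m : ℕ} (hm : Even m) (h4 : 4 ≤ m) {S : Subgroup G}
    (e : S ≃* QuaternionGroup m) (hS : IsPGroup 2 S) (hC : PSubgroupConj G) : False := by
  haveI : NeZero m := ⟨by omega⟩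
  let par : ZMod (2 * m) →+* ZMod 2 := ZMod.castHom (dvd_mul_right 2 m) (ZMod 2)
  have hm0 : par (m : ZMod (2 * m)) = 0 := by
    rw [map_natCast]; exact (ZMod.natCast_eq_zero_iff_even).2 hm
  let f0 : QuaternionGroup m → Multiplicative (ZMod 2) := fun x => match x with
    | .a i => Multiplicative.ofAdd (par i)
    | .xa i => Multiplicative.ofAdd (par i)
  have hneg : ∀ z : ZMod 2, -z = z := by decide
  let f : QuaternionGroup m →* Multiplicative (ZMod 2) := MonoidHom.mk' f0 (by
    rintro (i | i) (j | j)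
    · exact congrArg Multiplicative.ofAdd (map_add par i j)
    · show Multiplicative.ofAdd (par (j - i)) = Multiplicative.ofAdd (par i + par j)
      rw [map_sub, sub_eq_add_neg, hneg, add_comm]
    · exact congrArg Multiplicative.ofAdd (map_add par i j)
    · show Multiplicative.ofAdd (par ((m : ZMod (2 * m)) + j - i)) =
        Multiplicative.ofAdd (par i + par j)
      rw [map_sub, map_add, hm0, zero_add, sub_eq_add_neg, hneg, add_comm])
  have hsurj : Function.Surjective f := by
    intro y
    refine ⟨.a (y.toAdd.val : ZMod (2 * m)), ?_⟩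
    show Multiplicative.ofAdd (par _) = y
    rw [map_natCast, ZMod.natCast_zmod_val, ofAdd_toAdd]
  have hkc : Nat.card f.ker = 2 * m := by
    have h := f.ker.card_mul_index
    rw [Subgroup.index_ker, MonoidHom.range_eq_top.2 hsurj, Subgroup.card_top,
      Nat.card_eq_fintype_card (α := QuaternionGroup m), QuaternionGroup.card] at h
    have h2 : Nat.card (Multiplicative (ZMod 2)) = 2 := by
      rw [Nat.card_eq_fintype_card, Fintype.card_multiplicative, ZMod.card]
    rw [h2] at h
    omega
  set K₁ := ((zpowers (QuaternionGroup.a 1 : QuaternionGroup m)).map e.symm.toMonoidHom).map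
    S.subtype with hK₁
  set K₂ := (f.ker.map e.symm.toMonoidHom).map S.subtype with hK₂
  have hc : ∀ X : Subgroup (QuaternionGroup m),
      Nat.card ((X.map e.symm.toMonoidHom).map S.subtype) = Nat.card X := fun X => by
    rw [Cores.card_map_subtype]
    exact (Nat.card_congr (X.equivMapOfInjective _ e.symm.injective).toEquiv).symm
  obtain ⟨k, hk⟩ := IsPGroup.iff_card.1 ((hS.of_equiv e).to_subgroup f.ker)
  obtain ⟨g⟩ := hC.nonempty_equiv (p := 2) (k := k) Nat.prime_two (H := K₁) (K := K₂)
    (by rw [hK₁, hc, Nat.card_zpowers, QuaternionGroup.orderOf_a_one, ← hkc, hk])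
    (by rw [hK₂, hc, hk])
  haveI : IsMulCommutative (zpowers (QuaternionGroup.a 1 : QuaternionGroup m)) :=
    IsCyclic.isMulCommutative
  let g₁ : zpowers (QuaternionGroup.a 1 : QuaternionGroup m) ≃* K₁ :=
    (Subgroup.equivMapOfInjective _ e.symm.toMonoidHom e.symm.injective).trans
      (Subgroup.equivMapOfInjective _ S.subtype S.subtype_injective)
  let g₂ : f.ker ≃* K₂ :=
    (Subgroup.equivMapOfInjective _ e.symm.toMonoidHom e.symm.injective).trans
      (Subgroup.equivMapOfInjective _ S.subtype S.subtype_injective)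
  have hcomm : ∀ x y : f.ker, x * y = y * x := fun x y =>
    ((g₁.trans g).trans g₂.symm).symm.injective (by rw [map_mul, map_mul]; exact mul_comm' _ _)
  have ha : (QuaternionGroup.a 2 : QuaternionGroup m) ∈ f.ker := by
    show Multiplicative.ofAdd (par 2) = 1
    rw [map_ofNat]
    rfl
  have hx : (QuaternionGroup.xa 0 : QuaternionGroup m) ∈ f.ker := by
    show Multiplicative.ofAdd (par 0) = 1
    rw [map_zero]; rfl
  have h := congrArg Subtype.val (hcomm ⟨_, ha⟩ ⟨_, hx⟩)
  simp only [Subgroup.coe_mul, QuaternionGroup.a_mul_xa, QuaternionGroup.xa_mul_a,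
    QuaternionGroup.xa.injEq] at h
  have h4' : ((4 : ℕ) : ZMod (2 * m)) = 0 := by push_cast; linear_combination -h
  rw [ZMod.natCast_eq_zero_iff] at h4'
  have := Nat.le_of_dvd (by norm_num) h4'
  omega

end quaternion

/-- The three types of Sylow 2-subgroup. -/
theorem PSubgroupConj.sylow_two_cases (hC : PSubgroupConj G) (S : Sylow 2 G) :
    (∀ s ∈ (S : Subgroup G), s * s = 1) ∨ IsCyclic (S : Subgroup G) ∨
      Nonempty ((S : Subgroup G) ≃* QuaternionGroup 2) := by
  haveI : Fact (Nat.Prime 2) := ⟨Nat.prime_two⟩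
  by_cases huniq : ∀ H K : Subgroup (S : Subgroup G), Nat.card H = 2 → Nat.card K = 2 → H = K
  · rcases S0016.result 2 S.isPGroup' huniq with h | ⟨-, n, ⟨e⟩⟩
    · exact Or.inr (Or.inl h)
    rcases n with _ | _ | n
    · haveI := QuaternionGroup.quaternionGroup_one_isCyclic
      exact Or.inr (Or.inl (isCyclic_of_surjective e.symm.toMonoidHom e.symm.surjective))
    · exact Or.inr (Or.inr ⟨e⟩)
    · refine (quaternion_not_subgroupConj (m := 2 ^ (n + 1 + 1)) ?_ ?_ e S.isPGroup' hC).elim
      · exact Nat.even_pow.2 ⟨even_two, by omega⟩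
      · calc (4 : ℕ) = 2 ^ 2 := rfl
          _ ≤ _ := Nat.pow_le_pow_right (by norm_num) (by omega)
  left
  simp only [not_forall] at huniq
  obtain ⟨H, K, hH, hK, hHK⟩ := huniq
  haveI : Nontrivial (S : Subgroup G) := by
    obtain ⟨x, hx⟩ := exists_prime_orderOf_dvd_card' (G := H) 2 (by rw [hH])
    exact ⟨⟨(x : (S : Subgroup G)), 1, fun h => by
      have : x = 1 := Subtype.ext h
      rw [this, orderOf_one] at hx
      norm_num at hx⟩⟩
  haveI : Nontrivial (center (S : Subgroup G)) := S.isPGroup'.center_nontrivial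
  obtain ⟨z, hz⟩ := exists_prime_orderOf_dvd_card' (G := center (S : Subgroup G)) 2
    (Isolated.prime_dvd_card (S.isPGroup'.to_subgroup (center _)))
  obtain ⟨u, hu, huz⟩ : ∃ u : (S : Subgroup G), orderOf u = 2 ∧ u ≠ (z : (S : Subgroup G)) := by
    by_contra hno
    push_neg at hno
    have : ∀ X : Subgroup (S : Subgroup G), Nat.card X = 2 →
        X = zpowers (z : (S : Subgroup G)) := by
      intro X hX
      obtain ⟨x, hx⟩ := exists_prime_orderOf_dvd_card' (G := X) 2 (by rw [hX])
      have hxz : (x : (S : Subgroup G)) = z := hno _ (by rw [orderOf_coe]; exact hx)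
      refine (Subgroup.eq_of_le_of_card_ge (zpowers_le.2 (hxz ▸ x.2)) ?_).symm
      rw [hX, Nat.card_zpowers, orderOf_coe, hz]
    exact hHK ((this H hH).trans (this K hK).symm)
  set a : G := ((z : (S : Subgroup G)) : G)
  set b : G := (u : G)
  have ha : orderOf a = 2 := by rw [orderOf_coe, orderOf_coe]; exact hz
  have hb : orderOf b = 2 := by rw [orderOf_coe]; exact hu
  have hab : a * b = b * a :=
    congrArg Subtype.val (mem_center_iff.1 z.2 u).symm
  have hane : a ≠ b := fun h => huz (Subtype.ext h).symm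
  obtain ⟨e, -, -⟩ := Involution.card_closure_pair ha hb hane
  set W := closure ({a, b} : Set G)
  have hab2 : orderOf (a * b) = 2 := by
    refine Involution.orderOf_of_sq ?_ fun h => hane ?_
    · calc a * b * (a * b) = a * a * (b * b) := by rw [mul_assoc, ← mul_assoc b, ← hab]; group
        _ = 1 := by rw [Involution.mul_self ha, Involution.mul_self hb, one_mul]
    · rw [eq_inv_of_mul_eq_one_left h, Involution.inv_eq hb]
  have hW : Nat.card W = 4 := by
    rw [Nat.card_congr e.symm.toEquiv, DihedralGroup.nat_card, hab2]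
  have hWsq : ∀ w : W, w * w = 1 := by
    intro w
    refine Subtype.ext ?_
    obtain ⟨k, hk | hk⟩ := (Involution.mem_closure_pair_iff ha hb).1 w.2
    · show (w : G) * w = 1
      rw [hk, ← zpow_add, ← two_mul, zpow_mul, zpow_ofNat, ← hab2, pow_orderOf_eq_one, one_zpow]
    · show (w : G) * w = 1
      rw [hk, Involution.mul_zpow_sq ha hb]
  intro s hs
  by_contra hne
  obtain ⟨k, hk⟩ := IsPGroup.iff_orderOf.1 S.isPGroup' ⟨s, hs⟩
  rw [← orderOf_coe] at hk
  change orderOf s = 2 ^ k at hk
  rcases k with _ | _ | k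
  · have h1 : s = 1 := orderOf_eq_one_iff.1 (by simpa using hk)
    exact hne (by rw [h1, one_mul])
  · exact hne (Involution.mul_self (by simpa using hk))
  have hy : orderOf (s ^ 2 ^ k) = 4 := by
    rw [orderOf_pow, hk, Nat.gcd_eq_right (pow_dvd_pow 2 (by omega)),
      show 2 ^ (k + 1 + 1) = 4 * 2 ^ k by ring, Nat.mul_div_cancel _ (by positivity)]
  obtain ⟨f⟩ := hC.nonempty_equiv (p := 2) (k := 2) Nat.prime_two (H := zpowers (s ^ 2 ^ k))
    (K := W) (by rw [Nat.card_zpowers, hy]; norm_num) (by rw [hW]; norm_num)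
  have h1 : (⟨_, mem_zpowers (s ^ 2 ^ k)⟩ : zpowers (s ^ 2 ^ k)) *
      ⟨_, mem_zpowers (s ^ 2 ^ k)⟩ = 1 := f.injective (by rw [map_mul, map_one, hWsq])
  have h2 : s ^ 2 ^ k * s ^ 2 ^ k = 1 := congrArg Subtype.val h1
  have := orderOf_dvd_of_pow_eq_one (show (s ^ 2 ^ k) ^ 2 = 1 by rw [pow_two, h2])
  rw [hy] at this
  norm_num at this

theorem SubgroupConj.sylow_two_cases (hC : SubgroupConj G) (S : Sylow 2 G) :
    (∀ s ∈ (S : Subgroup G), s * s = 1) ∨ IsCyclic (S : Subgroup G) ∨
      Nonempty ((S : Subgroup G) ≃* QuaternionGroup 2) :=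
  hC.pConj.sylow_two_cases S

section elementary

variable (hC : SubgroupConj G) (S : Sylow 2 G) (hS : ∀ s ∈ (S : Subgroup G), s * s = 1)
include hC hS

/-- The centraliser of an involution of `S` normalises `S`. -/
theorem SubgroupConj.centralizer_le_normalizer {t : G} (ht : orderOf t = 2) (htS : t ∈ S) :
    centralizer ({t} : Set G) ≤ normalizer ((S : Subgroup G) : Set G) := by
  haveI : Fact (Nat.Prime 2) := ⟨Nat.prime_two⟩
  set C := centralizer ({t} : Set G)
  have hSC : (S : Subgroup G) ≤ C := fun s hs => mem_centralizer_singleton_iff.2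
    (commute_of_sq hS hs htS)
  set O := (Cfsg.pCore 2 C).map C.subtype with hO
  have hinv : ∀ u : C, orderOf u = 2 → u ∈ Cfsg.pCore 2 C := by
    intro u hu
    by_contra hnot
    obtain ⟨r, hr1, hro, hur⟩ := Involution.exists_inverted_odd hu
      fun N hN hNp hmem => hnot (Cores.le_pCore hN hNp hmem)
    refine hr1 (Subtype.ext (hC.no_inverted (u := (u : G)) ht ?_ ?_ ?_ ?_))
    · rw [orderOf_coe, hu]
    · exact (mem_centralizer_singleton_iff.1 r.2).symm
    · rw [orderOf_coe]; exact hro
    · exact congrArg Subtype.val hur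
  have hle : (S : Subgroup G) ≤ O := fun s hs => by
    rcases eq_or_ne s 1 with rfl | hs1
    · exact one_mem _
    exact ⟨⟨s, hSC hs⟩, hinv _ (by
      rw [← orderOf_coe]; exact Involution.orderOf_of_sq (hS s hs) hs1), rfl⟩
  have heq : O = (S : Subgroup G) :=
    S.is_maximal' ((Cores.isPGroup_pCore 2 C).map C.subtype) hle
  rw [← heq]
  refine le_trans ?_ (Cores.normalizer_le_normalizer_map (Cfsg.pCore 2 C))
  exact le_normalizer

theorem SubgroupConj.centralizer_solvable {t : G} (ht : orderOf t = 2) :
    Group.IsSolvable ↥(centralizer ({t} : Set G)) := by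
  haveI : Fact (Nat.Prime 2) := ⟨Nat.prime_two⟩
  obtain ⟨g, hg⟩ : ∃ g : G, g * t * g⁻¹ ∈ S := Involution.exists_conj_mem_sylow S ht
  set t' := g * t * g⁻¹
  have ht' : orderOf t' = 2 := by rw [Involution.orderOf_conj, ht]
  have hle := hC.centralizer_le_normalizer S hS ht' hg
  have hN : Group.IsSolvable ↥(normalizer ((S : Subgroup G) : Set G)) := by
    set N := normalizer ((S : Subgroup G) : Set G)
    set T := (S : Subgroup G).subgroupOf N
    haveI : T.Normal := Subgroup.normal_in_normalizer
    haveI : Group.IsSolvable T := Group.isSolvable_of_comm fun a b => Subtype.ext (Subtype.ext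
      (commute_of_sq hS (mem_subgroupOf.1 a.2) (mem_subgroupOf.1 b.2)))
    haveI : Group.IsSolvable (N ⧸ T) := OddOrderTheorem.oddSolvable (N ⧸ T) (by
      rw [← Subgroup.index_eq_card]
      exact Nat.not_even_iff_odd.1 fun h => S.not_dvd_index
        ((even_iff_two_dvd.1 h).trans (relIndex_dvd_index_of_le le_normalizer)))
    exact Group.isSolvable_of_ker_le_range T.subtype (QuotientGroup.mk' T) (by simp)
  haveI := hN
  haveI : Group.IsSolvable ↥(centralizer ({t'} : Set G)) :=
    Group.isSolvable_of_isSolvable_injective (Subgroup.inclusion_injective hle)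
  refine Group.isSolvable_of_isSolvable_injective (f := ((MulAut.conj g).toMonoidHom.comp
    (centralizer ({t} : Set G)).subtype).codRestrict (centralizer ({t'} : Set G)) fun x => ?_) ?_
  · have := mem_centralizer_singleton_iff.1 x.2
    rw [mem_centralizer_singleton_iff]
    show g * x * g⁻¹ * (g * t * g⁻¹) = g * t * g⁻¹ * (g * x * g⁻¹)
    calc g * x * g⁻¹ * (g * t * g⁻¹) = g * ((x : G) * t) * g⁻¹ := by group
      _ = g * (t * x) * g⁻¹ := by rw [this]
      _ = _ := by group
  · exact fun a b h => Subtype.ext ((MulAut.conj g).injective (congrArg Subtype.val h))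

end elementary

end Cfsg.Agent.SameOrderConj
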