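/-
Groups in which subgroups of the same order are conjugate: the soluble core-free groups with an
elementary abelian Sylow 2-subgroup.

Main results (namespace `Cfsg.Agent.SameOrderConj`):
* `pair_bound` : `(|S| - 1)(|S| - 2) ≤ 6 |N(S) : C(S)|`
* `solvable_models` : `A₄`, `AGL₁(8)`, `AΓL₁(8)`, `AΓL₁(32)`
-/
import Cfsg.Agent.EqLemmas
import Cfsg.Prelude.Def_Perm
import Cfsg.Agent.Lib.SameOrderConj.Sylow
import Cfsg.Agent.S0228

set_option autoImplicit false
set_option linter.unusedSectionVars false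
set_option linter.style.haveILetI false

namespace Cfsg.Agent.SameOrderConj

open Subgroup

universe u v

variable {G : Type u} [Group G] [Finite G]

theorem conj_exists_normalizer (S : Sylow 2 G) (hab : ∀ x ∈ (S : Subgroup G), ∀ y ∈ (S : Subgroup G),
    x * y = y * x) {A : Subgroup G} (hA : A ≤ S) (g : G)
    (hgA : A.map (MulAut.conj g).toMonoidHom ≤ S) :
    ∃ n ∈ normalizer ((S : Subgroup G) : Set G), ∀ a ∈ A, n * a * n⁻¹ = g * a * g⁻¹ := by
  haveI : Fact (Nat.Prime 2) := ⟨Nat.prime_two⟩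
  set B := A.map (MulAut.conj g).toMonoidHom
  have hle : ∀ {X : Subgroup G}, X ≤ S → (S : Subgroup G) ≤ centralizer (X : Set G) :=
    fun hX s hs => mem_centralizer_iff.2 fun x hx => hab x (hX hx) s hs
  have h1 : ↑(g • S) ≤ centralizer (B : Set G) := by
    rintro _ ⟨s, hs, rfl⟩
    refine mem_centralizer_iff.2 ?_
    rintro _ ⟨a, ha, rfl⟩
    show g * a * g⁻¹ * (g * s * g⁻¹) = g * s * g⁻¹ * (g * a * g⁻¹)
    calc g * a * g⁻¹ * (g * s * g⁻¹) = g * (a * s) * g⁻¹ := by group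
      _ = g * (s * a) * g⁻¹ := by rw [hab a (hA ha) s hs]
      _ = _ := by group
  obtain ⟨c, hc⟩ := MulAction.exists_smul_eq (centralizer (B : Set G)) ((g • S).subtype h1)
    (S.subtype (hle hgA))
  simp_rw [Sylow.smul_subtype, Subgroup.smul_def, smul_smul] at hc
  refine ⟨c * g, Sylow.smul_eq_iff_mem_normalizer.mp (Sylow.subtype_injective hc), fun a ha => ?_⟩
  have hcomm := mem_centralizer_iff.1 c.2 (g * a * g⁻¹) ⟨a, ha, rfl⟩
  calc (c : G) * g * a * ((c : G) * g)⁻¹ = (c : G) * (g * a * g⁻¹) * (c : G)⁻¹ := by group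
    _ = g * a * g⁻¹ := by rw [← hcomm, mul_inv_cancel_right]

section pairs

variable (hC : PSubgroupConj G) (S : Sylow 2 G) (hS : ∀ s ∈ (S : Subgroup G), s * s = 1)
include hC hS

theorem pair_bound (h4 : 4 ≤ Nat.card (S : Subgroup G)) :
    (Nat.card (S : Subgroup G) - 1) * (Nat.card (S : Subgroup G) - 2) ≤
      6 * (centralizer ((S : Subgroup G) : Set G)).relIndex
        (normalizer ((S : Subgroup G) : Set G)) := by
  classical
  haveI : Fact (Nat.Prime 2) := ⟨Nat.prime_two⟩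
  obtain ⟨k, hk⟩ := IsPGroup.iff_card.1 S.isPGroup'
  have hk2 : 2 ≤ k := by
    by_contra hk'
    interval_cases k <;> omega
  obtain ⟨W, hW4, hWS⟩ : ∃ W : Subgroup G, Nat.card W = 4 ∧ W ≤ S := by
    obtain ⟨W, hW⟩ := Sylow.exists_subgroup_card_pow_prime (G := (S : Subgroup G)) 2 (n := 2)
      (hk ▸ pow_dvd_pow 2 hk2)
    exact ⟨W.map (S : Subgroup G).subtype, by rw [Cores.card_map_subtype, hW]; rfl,
      map_subtype_le W⟩
  set N := normalizer ((S : Subgroup G) : Set G)
  set C := centralizer ((S : Subgroup G) : Set G)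
  let T := N ⧸ C.subgroupOf N
  let PS := {x : G × G // x.1 ∈ (S : Subgroup G) ∧ x.2 ∈ (S : Subgroup G) ∧ x.1 ≠ 1 ∧ x.2 ≠ 1 ∧
    x.1 ≠ x.2}
  let PW := {x : G × G // x.1 ∈ W ∧ x.2 ∈ W ∧ x.1 ≠ 1 ∧ x.2 ≠ 1 ∧ x.1 ≠ x.2}
  have hcount : ∀ X : Subgroup G, Nat.card {x : G × G // x.1 ∈ X ∧ x.2 ∈ X ∧ x.1 ≠ 1 ∧ x.2 ≠ 1 ∧
      x.1 ≠ x.2} = (Nat.card X - 1) * (Nat.card X - 2) := by
    intro X
    haveI : Fintype X := Fintype.ofFinite X
    let e : {x : G × G // x.1 ∈ X ∧ x.2 ∈ X ∧ x.1 ≠ 1 ∧ x.2 ≠ 1 ∧ x.1 ≠ x.2} ≃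
        ↥((Finset.univ.erase (1 : X)).offDiag) :=
      { toFun := fun x => ⟨(⟨x.1.1, x.2.1⟩, ⟨x.1.2, x.2.2.1⟩), Finset.mem_offDiag.2
          ⟨Finset.mem_erase.2 ⟨fun h => x.2.2.2.1 (congrArg Subtype.val h), Finset.mem_univ _⟩,
            Finset.mem_erase.2 ⟨fun h => x.2.2.2.2.1 (congrArg Subtype.val h), Finset.mem_univ _⟩,
            fun h => x.2.2.2.2.2 (congrArg Subtype.val h)⟩⟩
        invFun := fun y => ⟨((y.1.1 : G), (y.1.2 : G)), y.1.1.2, y.1.2.2,
          fun h => (Finset.mem_erase.1 (Finset.mem_offDiag.1 y.2).1).1 (Subtype.ext h),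
          fun h => (Finset.mem_erase.1 (Finset.mem_offDiag.1 y.2).2.1).1 (Subtype.ext h),
          fun h => (Finset.mem_offDiag.1 y.2).2.2 (Subtype.ext h)⟩
        left_inv := fun _ => rfl
        right_inv := fun _ => rfl }
    rw [Nat.card_congr e, Nat.card_eq_finsetCard, Finset.offDiag_card,
      Finset.card_erase_of_mem (Finset.mem_univ _), Finset.card_univ, ← Nat.card_eq_fintype_card]
    rw [← Nat.mul_sub_one]
    rfl
  have hPW : Nat.card PW = 6 := by rw [hcount W, hW4]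
  have hTN : Nat.card T = C.relIndex N := rfl
  have hab : ∀ x ∈ (S : Subgroup G), ∀ y ∈ (S : Subgroup G), x * y = y * x :=
    fun x hx y hy => commute_of_sq hS hx hy
  let F : T × PW → G × G := fun p =>
    ((Quotient.out p.1 : N).1 * p.2.1.1 * (Quotient.out p.1 : N).1⁻¹,
      (Quotient.out p.1 : N).1 * p.2.1.2 * (Quotient.out p.1 : N).1⁻¹)
  have hmem : ∀ p, (F p).1 ∈ (S : Subgroup G) ∧ (F p).2 ∈ (S : Subgroup G) ∧ (F p).1 ≠ 1 ∧
      (F p).2 ≠ 1 ∧ (F p).1 ≠ (F p).2 := fun p => by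
    have hn := (Quotient.out p.1 : N).2
    refine ⟨(mem_normalizer_iff.1 hn _).1 (hWS p.2.2.1), (mem_normalizer_iff.1 hn _).1 (hWS p.2.2.2.1),
      ?_, ?_, ?_⟩
    · simpa [F] using p.2.2.2.2.1
    · simpa [F] using p.2.2.2.2.2.1
    · simpa [F] using p.2.2.2.2.2.2
  let F' : T × PW → PS := fun p => ⟨F p, hmem p⟩
  have hF : Function.Surjective F' := by
    rintro ⟨⟨a, b⟩, ha, hb, ha1, hb1, hab'⟩
    obtain ⟨W', hW'4, haW, hbW, hW'S⟩ : ∃ W' : Subgroup G, Nat.card W' = 4 ∧ a ∈ W' ∧ b ∈ W' ∧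
        W' ≤ S := by
      have ha2 : orderOf a = 2 := Involution.orderOf_of_sq (hS a ha) ha1
      have hb2 : orderOf b = 2 := Involution.orderOf_of_sq (hS b hb) hb1
      obtain ⟨e, -, -⟩ := Involution.card_closure_pair ha2 hb2 hab'
      refine ⟨closure ({a, b} : Set G), ?_, subset_closure (by simp), subset_closure (by simp),
        (closure_le _).2 (Set.insert_subset ha (Set.singleton_subset_iff.2 hb))⟩
      have hab2 : orderOf (a * b) = 2 := by
        refine Involution.orderOf_of_sq (hS _ (mul_mem ha hb)) fun h => hab' ?_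
        rw [eq_inv_of_mul_eq_one_left h, Involution.inv_eq hb2]
      rw [Nat.card_congr e.symm.toEquiv, DihedralGroup.nat_card, hab2]
    obtain ⟨g, hg⟩ := hC 2 Nat.prime_two W W' (IsPGroup.of_card (n := 2) (by rw [hW4]; norm_num))
      (IsPGroup.of_card (n := 2) (by rw [hW'4]; norm_num)) (by rw [hW4, hW'4])
    obtain ⟨n, hn, hng⟩ := conj_exists_normalizer S hab hWS g (hg ▸ hW'S)
    have hpre : ∀ x ∈ W', ∃ w ∈ W, g * w * g⁻¹ = x := by
      intro x hx
      rw [hg] at hx
      obtain ⟨w, hw, rfl⟩ := hx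
      exact ⟨w, hw, rfl⟩
    obtain ⟨wa, hwa, hga⟩ := hpre a haW
    obtain ⟨wb, hwb, hgb⟩ := hpre b hbW
    let τ : T := QuotientGroup.mk ⟨n, hn⟩
    obtain ⟨c, hc⟩ := QuotientGroup.mk_out_eq_mul (C.subgroupOf N) ⟨n, hn⟩
    have hout : ∀ w ∈ W, (Quotient.out τ : N).1 * w * (Quotient.out τ : N).1⁻¹ = g * w * g⁻¹ := by
      intro w hw
      rw [show (Quotient.out τ : N) = ⟨n, hn⟩ * c from hc, Subgroup.coe_mul, mul_inv_rev,
        ← hng w hw]
      have h := mem_centralizer_iff.1 (mem_subgroupOf.1 c.2) w (hWS hw)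
      calc n * (c : N).1 * w * ((c : N).1⁻¹ * n⁻¹) = n * ((c : N).1 * w * (c : N).1⁻¹) * n⁻¹ := by
            group
        _ = n * w * n⁻¹ := by rw [← h, mul_inv_cancel_right]
    refine ⟨(τ, ⟨(wa, wb), hwa, hwb, ?_, ?_, ?_⟩), Subtype.ext (Prod.ext ?_ ?_)⟩
    · intro h; exact ha1 (by rw [← hga, show wa = 1 from h]; group)
    · intro h; exact hb1 (by rw [← hgb, show wb = 1 from h]; group)
    · intro h; exact hab' (by rw [← hga, ← hgb, show wa = wb from h])
    · exact (hout wa hwa).trans hga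
    · exact (hout wb hwb).trans hgb
  have := Nat.card_le_card_of_surjective _ hF
  rw [Nat.card_prod, hPW, hTN, hcount (S : Subgroup G)] at this
  linarith

end pairs

theorem two_pow_sub_two_le {n : ℕ} (h : 2 ^ n - 2 ≤ 6 * n) : n ≤ 5 := by
  by_contra hn
  have : ∀ m, 6 * (m + 6) + 3 ≤ 2 ^ (m + 6) := fun m => by
    induction m with
    | zero => norm_num
    | succ m ih => rw [show m + 1 + 6 = (m + 6) + 1 from rfl, pow_succ]; omega
  have := this (n - 6)
  rw [show n - 6 + 6 = n by omega] at this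
  omega

theorem eq_two_three_five {n h : ℕ} (hn : 2 ≤ n) (hodd : Odd h) (hdvd : h ∣ (2 ^ n - 1) * n)
    (hlow : 2 ^ n - 1 ≤ h) (hb : (2 ^ n - 1) * (2 ^ n - 2) ≤ 6 * h) :
    (n = 2 ∧ h = 3) ∨ (n = 3 ∧ (h = 7 ∨ h = 21)) ∨ (n = 5 ∧ h = 155) := by
  have h4 : 4 ≤ 2 ^ n := le_trans (by norm_num) (Nat.pow_le_pow_right (by norm_num : 1 ≤ 2) hn)
  have hle : h ≤ (2 ^ n - 1) * n :=
    Nat.le_of_dvd (Nat.mul_pos (by omega) (by omega)) hdvd
  have hn5 : n ≤ 5 := two_pow_sub_two_le <| Nat.le_of_mul_le_mul_left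
    (show (2 ^ n - 1) * (2 ^ n - 2) ≤ (2 ^ n - 1) * (6 * n) by
      calc _ ≤ 6 * h := hb
        _ ≤ 6 * ((2 ^ n - 1) * n) := by omega
        _ = _ := by ring) (by omega)
  rcases hodd with ⟨k, rfl⟩
  interval_cases n
  · norm_num at hdvd hb hlow hle
    have : k ≤ 2 := by omega
    interval_cases k <;> first | omega | exact absurd hdvd (by decide)
  · norm_num at hdvd hb hlow hle
    have : k ≤ 10 := by omega
    interval_cases k <;> first | omega | exact absurd hdvd (by decide)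
  · norm_num at hdvd hb hlow hle
    have : k ≤ 30 := by omega
    interval_cases k <;> first | omega | exact absurd hdvd (by decide)
  · norm_num at hdvd hb hlow hle
    omega

section models

open Cfsg

theorem card_semiaffine_le (F : Type) [Field F] [Finite F] :
    Nat.card (semiaffineGroup F) ≤ Nat.card Fˣ * Nat.card F * Nat.card (F ≃+* F) := by
  haveI : Finite (F ≃+* F) := Finite.of_injective (fun τ : F ≃+* F => (τ : F → F))
    DFunLike.coe_injective
  rw [← Nat.card_prod, ← Nat.card_prod]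
  refine Nat.card_le_card_of_surjective (fun p : (Fˣ × F) × (F ≃+* F) =>
    (⟨p.2.toEquiv.trans ((Equiv.mulLeft₀ (p.1.1 : F) p.1.1.ne_zero).trans (Equiv.addRight p.1.2)),
      p.1.1, p.1.2, p.2, fun x => rfl⟩ : semiaffineGroup F)) ?_
  rintro ⟨σ, a, b, φ, hσ⟩
  exact ⟨((a, b), φ), Subtype.ext (Equiv.ext fun x => (hσ x).symm)⟩

theorem card_affine_le (F : Type) [Field F] [Finite F] :
    Nat.card (affineGroup F) ≤ Nat.card Fˣ * Nat.card F := by
  rw [← Nat.card_prod]
  refine Nat.card_le_card_of_surjective (fun p : Fˣ × F =>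
    (⟨(Equiv.mulLeft₀ (p.1 : F) p.1.ne_zero).trans (Equiv.addRight p.2), p.1, p.2, fun x => rfl⟩ :
      affineGroup F)) ?_
  rintro ⟨σ, a, b, hσ⟩
  exact ⟨(a, b), Subtype.ext (Equiv.ext fun x => (hσ x).symm)⟩

/-- Moving a semilinear model to the standard field. -/
theorem galois_model {H : Type u} [Group H] [Finite H] {V : Type v} [AddCommGroup V]
    [DistribMulAction H V] {n : ℕ} (hn : n ≠ 0) {K : Type v} [Field K] [Finite K] (e : K ≃+ V)
    (hK : Nat.card K = 2 ^ n)
    (hform : ∀ h : H, ∃ (a : K) (τ : K ≃+* K), a ≠ 0 ∧ orderOf τ ∣ Nat.card H ∧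
      ∀ k : K, h • e k = e (a * τ k)) :
    ∃ E : GaloisField 2 n ≃+ V, ∀ h : H, ∃ (a : (GaloisField 2 n)ˣ)
      (φ : GaloisField 2 n ≃+* GaloisField 2 n), orderOf φ ∣ Nat.card H ∧
        ∀ x, h • E x = E ((a : GaloisField 2 n) * φ x) := by
  haveI : Fact (Nat.Prime 2) := ⟨Nat.prime_two⟩
  haveI : Fintype K := Fintype.ofFinite K
  haveI : Fintype (GaloisField 2 n) := Fintype.ofFinite _
  obtain ⟨ψ⟩ : Nonempty (GaloisField 2 n ≃+* K) := ⟨FiniteField.ringEquivOfCardEq (by
    rw [← Nat.card_eq_fintype_card, ← Nat.card_eq_fintype_card, hK, GaloisField.card 2 n hn])⟩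
  refine ⟨ψ.toAddEquiv.trans e, fun h => ?_⟩
  obtain ⟨a, τ, ha0, hτ, hτf⟩ := hform h
  let c : (K ≃+* K) →* (GaloisField 2 n ≃+* GaloisField 2 n) :=
    { toFun := fun σ => (ψ.trans σ).trans ψ.symm
      map_one' := RingEquiv.ext fun y => ψ.symm_apply_apply y
      map_mul' := fun σ σ' => RingEquiv.ext fun y => by
        show ψ.symm (σ (σ' (ψ y))) = ψ.symm (σ (ψ (ψ.symm (σ' (ψ y)))))
        rw [ψ.apply_symm_apply] }
  refine ⟨Units.mk0 (ψ.symm a) (by simpa using ha0), c τ, (orderOf_map_dvd c τ).trans hτ,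
    fun x => ?_⟩
  show h • e (ψ x) = e (ψ (ψ.symm a * ψ.symm (τ (ψ x))))
  rw [map_mul, ψ.apply_symm_apply, ψ.apply_symm_apply, hτf]

/-- A core-free complement gives an action on the normal subgroup. -/
theorem perm_model {F : Type} [AddGroup F] (T : Subgroup G) [T.Normal] (H : Subgroup G)
    (hH : T.IsComplement' H) (hab : ∀ x ∈ T, ∀ y ∈ T, x * y = y * x) (hcore : H.normalCore = ⊥)
    (E : F → G) (hET : ∀ x, E x ∈ T) (hEinj : Function.Injective E)
    (hEsurj : ∀ t ∈ T, ∃ x, E x = t) (hEadd : ∀ x y, E (x + y) = E x * E y)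
    (ρ : H → F → F) (hρ : ∀ (h : H) x, E (ρ h x) = (h : G) * E x * (h : G)⁻¹) :
    ∃ f : G →* Equiv.Perm F, Function.Injective f ∧
      ∀ g : G, ∃ (h : H) (b : F), ∀ x, f g x = ρ h x + b := by
  let β : F → G ⧸ H := fun x => ((E x : G) : G ⧸ H)
  have hβ : Function.Bijective β := by
    refine ⟨fun x y hxy => hEinj ?_, fun q => ?_⟩
    · have h1 := QuotientGroup.eq.1 hxy
      exact inv_mul_eq_one.1 (hH.disjoint.le_bot ⟨T.mul_mem (T.inv_mem (hET x)) (hET y), h1⟩)
    · induction q using QuotientGroup.induction_on with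
      | H g =>
        obtain ⟨⟨t, h⟩, hg⟩ := hH.2 g
        change (t : G) * (h : G) = g at hg
        obtain ⟨x, hx⟩ := hEsurj t t.2
        refine ⟨x, QuotientGroup.eq.2 ?_⟩
        rw [hx, ← hg, inv_mul_cancel_left]
        exact h.2
  let B := Equiv.ofBijective β hβ
  let f : G →* Equiv.Perm F :=
    B.symm.permCongrHom.toMonoidHom.comp (MulAction.toPermHom G (G ⧸ H))
  refine ⟨f, ?_, fun g => ?_⟩
  · rw [← MonoidHom.ker_eq_bot_iff, ← hcore, Subgroup.normalCore_eq_ker]
    ext x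
    simp [f, MonoidHom.mem_ker]
  obtain ⟨⟨t, h⟩, hg⟩ := hH.2 g
  change (t : G) * (h : G) = g at hg
  obtain ⟨b, hb⟩ := hEsurj t t.2
  refine ⟨h, b, fun x => hβ.1 (Eq.trans (B.apply_symm_apply _) ?_)⟩
  show ((g * E x : G) : G ⧸ H) = ((E (ρ h x + b) : G) : G ⧸ H)
  rw [hEadd, hρ, hb, QuotientGroup.eq, ← hg,
    hab _ (Subgroup.Normal.conj_mem inferInstance _ (hET x) h) _ t.2]
  have h3 : ((t : G) * h * E x)⁻¹ * ((t : G) * ((h : G) * E x * (h : G)⁻¹)) = (h : G)⁻¹ := by
    group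
  rw [h3]
  exact inv_mem h.2

variable (hC : PSubgroupConj G) (S : Sylow 2 G) (hS : ∀ s ∈ (S : Subgroup G), s * s = 1)
include hC hS

set_option maxHeartbeats 800000 in
/-- The soluble core-free groups with elementary abelian Sylow 2-subgroups of order at least 4. -/
theorem solvable_models (hO : Cfsg.oddCore G = ⊥) (h4 : 4 ≤ Nat.card (S : Subgroup G))
    (hsol : Group.IsSolvable G) :
    Nonempty (G ≃* alternatingGroup (Fin 4)) ∨
      Nat.card (S : Subgroup G) ≠ 4 ∧ (Nonempty (G ≃* affineGroup (GaloisField 2 3)) ∨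
      Nonempty (G ≃* semiaffineGroup (GaloisField 2 3)) ∨
      Nonempty (G ≃* semiaffineGroup (GaloisField 2 5))) := by
  classical
  haveI : Fact (Nat.Prime 2) := ⟨Nat.prime_two⟩
  haveI := hsol
  have hab : ∀ x ∈ (S : Subgroup G), ∀ y ∈ (S : Subgroup G), x * y = y * x :=
    fun x hx y hy => commute_of_sq hS hx hy
  have hcore : Cfsg.pCore 2 G = (S : Subgroup G) := le_antisymm (Cores.pCore_le_sylow S)
    fun s hs => Solvable.centralizer_pCore_le_of_isSolvable (p := 2) hO
      (mem_centralizer_iff.2 fun y hy => hab y (Cores.pCore_le_sylow S hy) s hs)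
  haveI hSn : (S : Subgroup G).Normal := by rw [← hcore]; infer_instance
  have hCS : centralizer ((S : Subgroup G) : Set G) = (S : Subgroup G) := by
    refine le_antisymm ?_ fun s hs => mem_centralizer_iff.2 fun y hy => hab y hy s hs
    have := Solvable.centralizer_pCore_le_of_isSolvable (p := 2) (G := G) hO
    rwa [hcore] at this
  obtain ⟨H, hH⟩ := exists_right_complement'_of_coprime S.card_coprime_index
  have hcardG : Nat.card (S : Subgroup G) * Nat.card H = Nat.card G := hH.card_mul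
  have hidx : Nat.card H = (S : Subgroup G).index := hH.symm.index_eq_card.symm
  have hodd : Odd (Nat.card H) := by
    rw [hidx]
    exact Nat.not_even_iff_odd.1 fun h => S.not_dvd_index (even_iff_two_dvd.1 h)
  have hCH : PSubgroupConj H := (hC.quotient (S : Subgroup G)).of_mulEquiv
    hH.symm.QuotientMulEquiv
  -- the module
  letI : CommGroup (S : Subgroup G) :=
    { (inferInstance : Group (S : Subgroup G)) with
      mul_comm := fun a b => Subtype.ext (hab a a.2 b b.2) }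
  let cj : H → ↥(S : Subgroup G) → ↥(S : Subgroup G) := fun h v =>
    ⟨(h : G) * v * (h : G)⁻¹, hSn.conj_mem v v.2 h⟩
  letI : DistribMulAction H (Additive (S : Subgroup G)) :=
    { smul := fun h v => Additive.ofMul (cj h v.toMul)
      one_smul := fun v => congrArg Additive.ofMul (Subtype.ext (by simp [cj]; rfl))
      mul_smul := fun g h v => congrArg Additive.ofMul (Subtype.ext (by
        show (g * h : G) * (v.toMul : G) * (g * h : G)⁻¹ = g * (h * v.toMul * (h : G)⁻¹) * (g : G)⁻¹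
        group))
      smul_zero := fun h => congrArg Additive.ofMul (Subtype.ext (by simp [cj]))
      smul_add := fun h v w => congrArg Additive.ofMul (Subtype.ext (by
        show (h : G) * ((v.toMul : G) * w.toMul) * (h : G)⁻¹ =
          h * (v.toMul : G) * (h : G)⁻¹ * (h * w.toMul * (h : G)⁻¹)
        group)) }
  have hsmul : ∀ (h : H) (v : Additive (S : Subgroup G)),
      (((h • v).toMul : (S : Subgroup G)) : G) = h * (v.toMul : G) * (h : G)⁻¹ := fun _ _ => rfl
  haveI : Nontrivial (S : Subgroup G) := Finite.one_lt_card_iff_nontrivial.1 (by omega)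
  haveI : FaithfulSMul H (Additive (S : Subgroup G)) := ⟨fun {a b} hab' => by
    have hmem : (b⁻¹ * a : H).1 ∈ centralizer ((S : Subgroup G) : Set G) := by
      refine mem_centralizer_iff.2 fun y hy => ?_
      have h1 : (a : G) * y * (a : G)⁻¹ = (b : G) * y * (b : G)⁻¹ := congrArg
        (fun v : Additive (S : Subgroup G) => (v.toMul : G)) (hab' (Additive.ofMul ⟨y, hy⟩))
      show y * ((b : G)⁻¹ * a) = (b : G)⁻¹ * a * y
      calc y * ((b : G)⁻¹ * a) = (b : G)⁻¹ * ((b : G) * y * (b : G)⁻¹) * a := by group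
        _ = _ := by rw [← h1]; group
    rw [hCS] at hmem
    have h1 : (b⁻¹ * a : H).1 = 1 := hH.disjoint.le_bot ⟨hmem, (b⁻¹ * a : H).2⟩
    exact (inv_mul_eq_one.1 (Subtype.ext h1)).symm⟩
  have hconjS : ∀ g : G, ∀ v ∈ (S : Subgroup G), ∃ h : H, g * v * g⁻¹ = (h : G) * v * (h : G)⁻¹ := by
    intro g v hv
    obtain ⟨⟨s, h⟩, hg⟩ := hH.2 g
    change (s : G) * (h : G) = g at hg
    refine ⟨h, ?_⟩
    have hw := hSn.conj_mem v hv h
    calc g * v * g⁻¹ = (s : G) * ((h : G) * v * (h : G)⁻¹) * (s : G)⁻¹ := by rw [← hg]; group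
      _ = (h : G) * v * (h : G)⁻¹ := by rw [hab _ s.2 _ hw, mul_inv_cancel_right]
  have htr : ∀ v w : Additive (S : Subgroup G), v ≠ 0 → w ≠ 0 → ∃ h : H, h • v = w := by
    intro v w hv hw
    have hv1 : (v.toMul : G) ≠ 1 := fun h => hv (congrArg Additive.ofMul (Subtype.ext h))
    have hw1 : (w.toMul : G) ≠ 1 := fun h => hw (congrArg Additive.ofMul (Subtype.ext h))
    have hv2 := Involution.orderOf_of_sq (hS _ v.toMul.2) hv1
    have hw2 := Involution.orderOf_of_sq (hS _ w.toMul.2) hw1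
    obtain ⟨g, hg⟩ := hC.primeConj 2 Nat.prime_two (zpowers (v.toMul : G)) (zpowers (w.toMul : G))
      (by rw [Nat.card_zpowers, hv2]) (by rw [Nat.card_zpowers, hw2])
    rw [MonoidHom.map_zpowers] at hg
    have h1 : (w.toMul : G) ∈ zpowers (g * (v.toMul : G) * g⁻¹) := by
      have h := mem_zpowers (w.toMul : G)
      rw [hg] at h
      exact h
    obtain ⟨i, hi⟩ := mem_zpowers_iff.1 h1
    have ho : orderOf (g * (v.toMul : G) * g⁻¹) = 2 := by rw [Involution.orderOf_conj, hv2]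
    rw [← zpow_mod_orderOf, ho] at hi
    obtain ⟨h, hh⟩ := hconjS g _ v.toMul.2
    refine ⟨h, congrArg Additive.ofMul (Subtype.ext ?_)⟩
    show (h : G) * (v.toMul : G) * (h : G)⁻¹ = (w.toMul : G)
    rcases Int.emod_two_eq i with h2 | h2 <;> norm_num [h2] at hi
    · exact absurd hi.symm hw1
    · rw [← hh, hi]
  obtain ⟨n, K, hK1, hK2, e, hn1, hKn, hdvd, hlow, hform⟩ := exists_semilinear
    (fun v => congrArg Additive.ofMul (Subtype.ext (hS _ v.toMul.2))) htr hodd inferInstance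
    hCH.primeConj
  have hScard : Nat.card (S : Subgroup G) = 2 ^ n := by
    rw [← hKn, Nat.card_congr e.toEquiv]
    rfl
  have hn2 : 2 ≤ n := by
    by_contra hn'
    have : 2 ^ n ≤ 2 := Nat.pow_le_pow_right (by norm_num : 1 ≤ 2) (by omega : n ≤ 1) |>.trans_eq
      (pow_one 2)
    omega
  have hb := pair_bound hC S hS h4
  rw [hScard, hCS, normalizer_eq_top, relIndex_top_right, ← hidx] at hb
  have hcases := eq_two_three_five hn2 hodd hdvd hlow hb
  -- the action on the field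
  have key : ∀ m : ℕ, n = m → ∃ f : G →* Equiv.Perm (GaloisField 2 m), Function.Injective f ∧
      ∀ g : G, ∃ (a : (GaloisField 2 m)ˣ) (b : GaloisField 2 m) (φ : GaloisField 2 m ≃+* GaloisField 2 m),
        (orderOf φ ∣ Nat.card H) ∧ ∀ x, f g x = (a : GaloisField 2 m) * φ x + b := by
    rintro m rfl
    obtain ⟨E, hE⟩ := galois_model (by omega) e hKn hform
    choose a φ hφ haφ using hE
    obtain ⟨f, hf, hff⟩ := perm_model (S : Subgroup G) H hH hab (by
        rw [eq_bot_iff, ← hO]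
        refine Cores.le_pPrimeCore inferInstance (Nat.coprime_two_right.2 (hodd.of_dvd_nat ?_))
        exact card_dvd_of_le (normalCore_le H))
      (fun x => (((E x).toMul : (S : Subgroup G)) : G)) (fun x => (E x).toMul.2)
      (fun x y h => E.injective (congrArg Additive.ofMul (Subtype.ext h)))
      (fun t ht => ⟨E.symm (Additive.ofMul ⟨t, ht⟩), by rw [E.apply_symm_apply]; rfl⟩)
      (fun x y => by rw [map_add]; rfl)
      (fun h x => (a h : GaloisField 2 n) * φ h x) (fun h x => by rw [← haφ]; rfl)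
    refine ⟨f, hf, fun g => ?_⟩
    obtain ⟨h, b, hb⟩ := hff g
    exact ⟨a h, b, φ h, hφ h, hb⟩
  have hcG : Nat.card G = 2 ^ n * Nat.card H := by rw [← hcardG, hScard]
  have hmodel : ∀ {F : Type} [Finite F] (f : G →* Equiv.Perm F) (X : Subgroup (Equiv.Perm F)),
      Function.Injective f → (∀ g, f g ∈ X) → Nat.card X ≤ Nat.card G → Nonempty (G ≃* X) := by
    intro F _ f X hf hX hc
    haveI : Finite (Equiv.Perm F) := inferInstance
    have hinj : Function.Injective (f.codRestrict X hX) := fun a b h =>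
      hf (congrArg Subtype.val h)
    exact ⟨MulEquiv.ofBijective _
      ((Nat.bijective_iff_injective_and_card _).2
        ⟨hinj, le_antisymm (Nat.card_le_card_of_injective _ hinj) hc⟩)⟩
  have hgal : ∀ m : ℕ, m ≠ 0 → Nat.card (GaloisField 2 m) = 2 ^ m ∧
      Nat.card (GaloisField 2 m)ˣ = 2 ^ m - 1 ∧
      Nat.card (GaloisField 2 m ≃+* GaloisField 2 m) = m := fun m hm => by
    haveI : Fintype (GaloisField 2 m) := Fintype.ofFinite _
    refine ⟨GaloisField.card 2 m hm, by rw [Nat.card_units, GaloisField.card 2 m hm], ?_⟩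
    exact (AutPSL.fieldAut_facts 2 m (Nat.one_le_iff_ne_zero.2 hm)
      (by rw [← Nat.card_eq_fintype_card, GaloisField.card 2 m hm])).2
  rcases hcases with ⟨rfl, h3⟩ | ⟨rfl, h3⟩ | ⟨rfl, h3⟩
  · refine Or.inl (S0228.result (by rw [hcG, h3]; norm_num) fun z hz hzc => ?_)
    obtain ⟨g, hg⟩ := Involution.exists_conj_mem_sylow S hz
    rw [show g * z * g⁻¹ = z by rw [mem_center_iff.1 hzc g, mul_inv_cancel_right]] at hg
    obtain ⟨y, hy⟩ : ∃ y : (S : Subgroup G), y ≠ 1 ∧ (y : G) ≠ z := by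
      by_contra hno
      push_neg at hno
      have : Nat.card (S : Subgroup G) ≤ 2 := by
        refine le_trans (Nat.card_le_card_of_injective (fun y => decide (y = 1)) fun a b hab' => ?_)
          (Nat.card_eq_fintype_card.trans Fintype.card_bool).le
        by_cases ha : a = 1 <;> by_cases hb : b = 1 <;> simp [ha, hb] at hab'
        · rw [ha, hb]
        · exact Subtype.ext ((hno a ha).trans (hno b hb).symm)
      omega
    obtain ⟨h, hh⟩ := htr (Additive.ofMul ⟨z, hg⟩) (Additive.ofMul y)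
      (fun h => (Involution.ne_one hz) (congrArg (fun v : Additive (S : Subgroup G) => (v.toMul : G)) h))
      (fun h => hy.1 (congrArg Additive.toMul h))
    refine hy.2 ?_
    have h1 := congrArg (fun v : Additive (S : Subgroup G) => (v.toMul : G)) hh
    simp only [hsmul, toMul_ofMul] at h1
    rw [← h1, mem_center_iff.1 hzc, mul_inv_cancel_right]
  · obtain ⟨f, hf, hform'⟩ := key 3 rfl
    obtain ⟨c1, c2, c3⟩ := hgal 3 (by norm_num)
    rcases h3 with h3 | h3
    · refine Or.inr ⟨by rw [hScard]; norm_num, Or.inl (hmodel f _ hf (fun g => ?_) ?_)⟩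
      · obtain ⟨a, b, φ, hφ, hfx⟩ := hform' g
        haveI : Finite (GaloisField 2 3 ≃+* GaloisField 2 3) :=
          Nat.finite_of_card_ne_zero (by rw [c3]; norm_num)
        have h33 := _root_.orderOf_dvd_natCard φ
        rw [c3] at h33
        rw [h3] at hφ
        have h37 : orderOf φ ∣ Nat.gcd 7 3 := Nat.dvd_gcd hφ h33
        have hφ1 : φ = 1 := orderOf_eq_one_iff.1 (Nat.dvd_one.1 h37)
        exact ⟨a, b, fun x => by rw [hfx, hφ1]; rfl⟩
      · refine (card_affine_le _).trans_eq ?_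
        rw [hcG, c1, c2, h3]; norm_num
    · refine Or.inr ⟨by rw [hScard]; norm_num, Or.inr (Or.inl (hmodel f _ hf (fun g => ?_) ?_))⟩
      · obtain ⟨a, b, φ, -, hfx⟩ := hform' g
        exact ⟨a, b, φ, hfx⟩
      · refine (card_semiaffine_le _).trans_eq ?_
        rw [hcG, c1, c2, c3, h3]; norm_num
  · obtain ⟨f, hf, hform'⟩ := key 5 rfl
    obtain ⟨c1, c2, c3⟩ := hgal 5 (by norm_num)
    refine Or.inr ⟨by rw [hScard]; norm_num, Or.inr (Or.inr (hmodel f _ hf (fun g => ?_) ?_))⟩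
    · obtain ⟨a, b, φ, -, hfx⟩ := hform' g
      exact ⟨a, b, φ, hfx⟩
    · refine (card_semiaffine_le _).trans_eq ?_
      rw [hcG, c1, c2, c3, h3]; norm_num

end models

end Cfsg.Agent.SameOrderConj
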