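/-
Groups in which subgroups of the same order are conjugate: the insoluble core-free groups with an
elementary abelian Sylow 2-subgroup.

Main results (namespace `Cfsg.Agent.SameOrderConj`):
* `nonsolvable_models` : `A₅`, `PSL₂(8)`, `Aut PSL₂(32)`
-/
import Cfsg.Agent.EqLemmas
import Cfsg.Agent.Lib.SameOrderConj.Solvable
import Cfsg.Agent.S3188
import Cfsg.Agent.S0252
import Cfsg.Agent.S0253
import Cfsg.Agent.Lib.PSL2.KleinCentre
import Cfsg.Agent.Lib.PSL2.EvenSylow
import Cfsg.Agent.Lib.PSL2.Centralizers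
import Cfsg.Agent.Lib.ThreeOrders.Elements
import Cfsg.Agent.Lib.SmallOrders.Order5616.Main

set_option autoImplicit false
set_option linter.unusedSectionVars false
set_option linter.style.haveILetI false

namespace Cfsg.Agent.SameOrderConj

open Subgroup

universe u v

/-- The order of `Aut PSL₂(q)`. -/
theorem card_mulAut_psl {F : Type} [Field F] [Finite F] {p f : ℕ} [Fact p.Prime] (hf : 1 ≤ f)
    (hF : Nat.card F = p ^ f) :
    Nat.card (MulAut (PSL2.PSL2 F)) = f * (Nat.card F * (Nat.card F ^ 2 - 1)) := by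
  haveI : Fintype F := Fintype.ofFinite F
  have h := AutPSL.card_mulAut (F := F) (m := 0) p f hf hF
  simp only [if_pos, one_mul] at h
  rw [show Nat.card (MulAut (PSL2.PSL2 F)) =
    Nat.card (MulAut (Matrix.ProjectiveSpecialLinearGroup (Fin (0 + 2)) F)) from rfl, h]
  exact congrArg (f * ·) GLOrder.card_PGL_two

variable {G : Type u} [Group G] [Finite G]

theorem card_le_stab {F : Type} [Field F] [Finite F] (he : Even (Nat.card F))
    (Q : Sylow 2 (PSL2.PSL2 F)) :
    Nat.card (normalizer ((Q : Subgroup (PSL2.PSL2 F)) : Set (PSL2.PSL2 F))) ≤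
      Nat.card F * (Nat.card F - 1) := by
  haveI : Fact (Nat.Prime 2) := ⟨Nat.prime_two⟩
  haveI : CharP F 2 := by
    obtain ⟨c, hc⟩ := CharP.exists F
    haveI := Fintype.ofFinite F
    obtain ⟨k, hcp, hk⟩ := FiniteField.card F c
    rw [Nat.card_eq_fintype_card, hk] at he
    have : c = 2 := hcp.eq_two_or_odd.resolve_right fun h => by
      have h2 := (Nat.odd_iff.2 h).pow (n := (k : ℕ))
      exact Nat.not_even_iff_odd.2 h2 he
    exact this ▸ hc
  obtain ⟨P, hP⟩ := PSL2.normalizer_sylow_le 2 Q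
  refine (Nat.le_of_dvd Nat.card_pos (card_dvd_of_le hP)).trans (le_of_eq ?_)
  have h1 := (MulAction.stabilizer (PSL2.PSL2 F) P).card_mul_index
  rw [PSL2.index_borel] at h1
  have h2 := PSL2.card_psl_mul (F := F)
  have hq : 2 ≤ Nat.card F := Finite.one_lt_card
  have hd : Nat.gcd 2 (Nat.card F - 1) = 1 :=
    Nat.prime_two.coprime_iff_not_dvd.2 fun h => by rw [Nat.even_iff] at he; omega
  rw [hd, one_mul, ← h1] at h2
  refine Nat.eq_of_mul_eq_mul_right (show 0 < Nat.card F + 1 by omega) (h2.trans ?_)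
  ring

theorem eq_three_five {n i : ℕ} (hn : 2 ≤ n) (hi : Odd i) (hdvd : i ∣ n)
    (hb : (2 ^ n - 1) * (2 ^ n - 2) ≤ 6 * ((2 ^ n - 1) * i)) :
    (n = 2 ∧ i = 1) ∨ (n = 3 ∧ (i = 1 ∨ i = 3)) ∨ (n = 5 ∧ i = 5) := by
  have h4 : 4 ≤ 2 ^ n := le_trans (by norm_num) (Nat.pow_le_pow_right (by norm_num : 1 ≤ 2) hn)
  rw [mul_left_comm] at hb
  have hb' := Nat.le_of_mul_le_mul_left hb (by omega)
  have hile : i ≤ n := Nat.le_of_dvd (by omega) hdvd
  have hn5 : n ≤ 5 := two_pow_sub_two_le (by omega)
  rcases hi with ⟨k, rfl⟩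
  interval_cases n
  · norm_num at hdvd hb' hile
    have : k ≤ 0 := by omega
    interval_cases k <;> simp
  · norm_num at hdvd hb' hile
    have : k ≤ 1 := by omega
    interval_cases k <;> simp
  · norm_num at hdvd hb' hile
    have : k ≤ 1 := by omega
    interval_cases k <;> first | omega | exact absurd hdvd (by decide)
  · norm_num at hdvd hb' hile
    have : k = 2 := by omega
    subst this
    simp

set_option maxHeartbeats 800000 in
/-- The insoluble core-free groups with elementary abelian Sylow 2-subgroups. -/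
theorem nonsolvable_models (hC : SubgroupConj G) (S : Sylow 2 G)
    (hS : ∀ s ∈ (S : Subgroup G), s * s = 1) (hO : Cfsg.oddCore G = ⊥)
    (hns : ¬ Group.IsSolvable G) :
    Nonempty (G ≃* alternatingGroup (Fin 5)) ∨
      Nat.card (S : Subgroup G) ≠ 4 ∧
        (Nonempty (G ≃* Matrix.ProjectiveSpecialLinearGroup (Fin 2) (GaloisField 2 3)) ∨
        Nonempty (G ≃* MulAut (Matrix.ProjectiveSpecialLinearGroup (Fin 2) (GaloisField 2 5)))) := by
  classical
  haveI : Fact (Nat.Prime 2) := ⟨Nat.prime_two⟩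
  have hab : ∀ x ∈ (S : Subgroup G), ∀ y ∈ (S : Subgroup G), x * y = y * x :=
    fun x hx y hy => commute_of_sq hS hx hy
  obtain ⟨F, iF, iFt, hq, N, hNn, ⟨eN⟩, hCN⟩ := (S3188.result S
    ⟨⟨fun a b => Subtype.ext (hab a a.2 b b.2)⟩⟩
    fun t ht => hC.centralizer_solvable S hS ht).resolve_left hns
  let e0 : G ⧸ Cfsg.oddCore G ≃* G :=
    (QuotientGroup.quotientMulEquivOfEq hO).trans QuotientGroup.quotientBot
  set L := N.map e0.toMonoidHom with hL
  haveI : L.Normal := hNn.map _ e0.surjective
  have hCL : centralizer (L : Set G) = ⊥ := by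
    rw [eq_bot_iff]
    intro g hg
    have h1 : e0.symm g ∈ centralizer (N : Set (G ⧸ Cfsg.oddCore G)) :=
      mem_centralizer_iff.2 fun n hn => e0.injective (by
        rw [map_mul, map_mul, e0.apply_symm_apply]
        exact mem_centralizer_iff.1 hg _ ⟨n, hn, rfl⟩)
    rw [hCN, mem_bot] at h1
    rw [mem_bot, ← e0.apply_symm_apply g, h1, map_one]
  let e : L ≃* PSL2.PSL2 F :=
    (N.equivMapOfInjective e0.toMonoidHom e0.injective).symm.trans eN
  -- all involutions lie in `L`
  obtain ⟨t₀, ht₀⟩ : ∃ t : L, orderOf t = 2 := by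
    refine exists_prime_orderOf_dvd_card' 2 ?_
    rw [Nat.card_congr e.toEquiv]
    have h := PSL2.card_psl_mul (F := F)
    rcases hq with ⟨hq, hq5⟩ | ⟨n, hn, hq⟩
    · have hq' : Nat.card F % 2 = 1 := by
        rw [Nat.card_eq_fintype_card]; omega
      haveI := Fintype.ofFinite F
      have h2 := GLOrder.card_PSL_two_of_odd (F := F) (Nat.odd_iff.2 hq')
      have h8 : 4 ∣ Nat.card F ^ 2 - 1 := by
        obtain ⟨m, hm⟩ : ∃ m, Nat.card F = 2 * m + 1 := ⟨Nat.card F / 2, by omega⟩
        refine ⟨m * (m + 1), ?_⟩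
        rw [hm, show (2 * m + 1) ^ 2 = 4 * (m * (m + 1)) + 1 by ring, Nat.add_sub_cancel]
      obtain ⟨j, hj⟩ := h8
      exact ⟨Nat.card F * j, by rw [hj] at h2; linarith⟩
    · have he : 2 ∣ Nat.card F := by
        rw [Nat.card_eq_fintype_card, hq]; exact dvd_pow_self 2 (by omega)
      haveI : CharP F 2 := charP_of_card_eq_prime_pow hq
      exact PSL2.dvd_card_psl 2
  have hinvL : ∀ x : G, orderOf x = 2 → x ∈ L := fun x hx =>
    hC.pConj.le_of_normal Nat.prime_two (by rw [orderOf_coe, ht₀]) t₀.2 hx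
  have hSL : (S : Subgroup G) ≤ L := fun s hs => by
    rcases eq_or_ne s 1 with rfl | hs1
    · exact one_mem _
    exact hinvL s (Involution.orderOf_of_sq (hS s hs) hs1)
  have hi : Odd L.index := Nat.not_even_iff_odd.1 fun h =>
    S.not_dvd_index ((even_iff_two_dvd.1 h).trans (index_dvd_of_le hSL))
  -- the embedding in the automorphism group
  let c : G →* MulAut (PSL2.PSL2 F) := (MulAut.congr e).toMonoidHom.comp MulAut.conjNormal
  have hc : Function.Injective c := (MulAut.congr e).injective.comp (by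
    rw [← MonoidHom.ker_eq_bot_iff, eq_bot_iff, ← hCL]
    intro g hg
    refine mem_centralizer_iff.2 fun l hl => ?_
    have h1 := congrArg Subtype.val (DFunLike.congr_fun (MonoidHom.mem_ker.1 hg) (⟨l, hl⟩ : L))
    rw [MulAut.conjNormal_apply] at h1
    change g * l * g⁻¹ = l at h1
    exact (mul_inv_eq_iff_eq_mul.1 h1).symm)
  have hcG : Nat.card G = Nat.card (PSL2.PSL2 F) * L.index := by
    rw [← Nat.card_congr e.toEquiv, L.card_mul_index]
  have hdvdA : Nat.card G ∣ Nat.card (MulAut (PSL2.PSL2 F)) := Subgroup.card_dvd_of_injective c hc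
  rcases hq with ⟨hq8, hq5⟩ | ⟨n, hn, hq⟩
  · -- the odd case
    rw [← Nat.card_eq_fintype_card] at hq8 hq5
    have hodd : Odd (Nat.card F) := by rw [Nat.odd_iff]; omega
    have habL : ∀ P : Sylow 2 (PSL2.PSL2 F), IsMulCommutative (P : Subgroup (PSL2.PSL2 F)) := by
      intro P
      have hsq : ∀ x ∈ (P : Subgroup (PSL2.PSL2 F)), x * x = 1 := by
        intro x hx
        obtain ⟨Q, hQ⟩ := (((P.isPGroup').map e.symm.toMonoidHom).map L.subtype).exists_le_sylow
        obtain ⟨g, hg⟩ := MulAction.exists_smul_eq G Q S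
        set y : G := ((e.symm x : L) : G)
        have hy : g * y * g⁻¹ ∈ S := by
          rw [← hg]
          exact ⟨y, hQ ⟨e.symm x, ⟨x, hx, rfl⟩, rfl⟩, rfl⟩
        have h := hS _ hy
        refine e.symm.injective (Subtype.ext ?_)
        rw [map_mul, map_one, Subgroup.coe_mul, Subgroup.coe_one]
        calc y * y = g⁻¹ * (g * y * g⁻¹ * (g * y * g⁻¹)) * g := by group
          _ = 1 := by rw [h, mul_one, inv_mul_cancel]
      exact ⟨⟨fun a b => Subtype.ext (commute_of_sq hsq a.2 b.2)⟩⟩
    have D := PSL2.fourData hodd habL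
    -- the Klein four group
    let T : Sylow 2 L := S.subtype hSL
    let P : Sylow 2 (PSL2.PSL2 F) := T.mapSurjective (f := e.toMonoidHom) e.surjective
    have hV := D.sylow P
    obtain ⟨⟨v, hv⟩, hv2⟩ := exists_prime_orderOf_dvd_card' (G := (P : Subgroup (PSL2.PSL2 F))) 2
      (by rw [hV.card_four]; norm_num)
    rw [Subgroup.orderOf_mk] at hv2
    set C := centralizer ({v} : Set (PSL2.PSL2 F))
    have hCpow : IsPGroup 2 C := by
      intro x
      refine ⟨2, Subtype.ext ?_⟩
      have hpre : ∀ w ∈ (P : Subgroup (PSL2.PSL2 F)), ((e.symm w : L) : G) ∈ S := by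
        rintro _ ⟨z, hz, rfl⟩
        have hz' : z ∈ (T : Subgroup L) := hz
        simp only [T, Sylow.coe_subtype, mem_subgroupOf] at hz'
        rw [show e.symm (e.toMonoidHom z) = z from e.symm_apply_apply z]
        exact hz'
      set y : G := ((e.symm (x : PSL2.PSL2 F) : L) : G)
      set t : G := ((e.symm v : L) : G)
      have ht : orderOf t = 2 := by rw [orderOf_coe, MulEquiv.orderOf_eq, hv2]
      have hyN : y ∈ normalizer ((S : Subgroup G) : Set G) := by
        refine hC.centralizer_le_normalizer S hS ht (hpre v hv) (mem_centralizer_singleton_iff.2 ?_)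
        exact congrArg (fun l : L => (l : G))
          ((map_mul e.symm _ _).symm.trans ((congrArg e.symm
            (mem_centralizer_singleton_iff.1 x.2)).trans (map_mul e.symm _ _)))
      have hxN : ∀ w ∈ (P : Subgroup (PSL2.PSL2 F)),
          (x : PSL2.PSL2 F) * w * (x : PSL2.PSL2 F)⁻¹ ∈ (P : Subgroup (PSL2.PSL2 F)) := by
        intro w hw
        refine ⟨e.symm (x * w * (x : PSL2.PSL2 F)⁻¹), ?_, e.apply_symm_apply _⟩
        show e.symm (x * w * (x : PSL2.PSL2 F)⁻¹) ∈ ((T : Subgroup L) : Set L)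
        simp only [T, Sylow.coe_subtype, SetLike.mem_coe, mem_subgroupOf, map_mul, map_inv,
          Subgroup.coe_mul, InvMemClass.coe_inv]
        exact (mem_normalizer_iff.1 hyN _).1 (hpre w hw)
      have hxv : (x : PSL2.PSL2 F) * v * (x : PSL2.PSL2 F)⁻¹ = v := by
        rw [mem_centralizer_singleton_iff.1 x.2, mul_inv_cancel_right]
      have hcase : ∀ w ∈ (P : Subgroup (PSL2.PSL2 F)),
          Commute ((x : PSL2.PSL2 F) ^ 2) w := by
        intro w hw
        rcases eq_or_ne w 1 with rfl | hw1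
        · exact Commute.one_right _
        rcases eq_or_ne w v with rfl | hwv
        · exact Commute.pow_left (mem_centralizer_singleton_iff.1 x.2) 2
        have hmem : ∀ u ∈ (P : Subgroup (PSL2.PSL2 F)), u ≠ 1 → u ≠ v → u = w ∨ u = w * v := by
          intro u hu hu1 huv
          haveI := hV
          by_cases h : u = w
          · exact Or.inl h
          · exact Or.inr (Involution.klein_eq_mul P hw hw1 hv (Involution.ne_one hv2) hwv hu hu1 h huv)
        have hx1 : (x : PSL2.PSL2 F) * w * (x : PSL2.PSL2 F)⁻¹ ≠ 1 := fun h =>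
          hw1 (conj_eq_one_iff.1 h)
        have hxv' : (x : PSL2.PSL2 F) * w * (x : PSL2.PSL2 F)⁻¹ ≠ v := fun h =>
          hwv ((MulAut.conj (x : PSL2.PSL2 F)).injective (h.trans hxv.symm))
        show (x : PSL2.PSL2 F) ^ 2 * w = w * (x : PSL2.PSL2 F) ^ 2
        rw [← mul_inv_eq_iff_eq_mul, pow_two, mul_inv_rev]
        rw [show (x : PSL2.PSL2 F) * x * w * ((x : PSL2.PSL2 F)⁻¹ * (x : PSL2.PSL2 F)⁻¹) =
          x * (x * w * (x : PSL2.PSL2 F)⁻¹) * (x : PSL2.PSL2 F)⁻¹ by group]
        rcases hmem _ (hxN w hw) hx1 hxv' with h | h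
        · rw [h, h]
        · rw [h]
          calc (x : PSL2.PSL2 F) * (w * v) * (x : PSL2.PSL2 F)⁻¹
              = (x * w * (x : PSL2.PSL2 F)⁻¹) * (x * v * (x : PSL2.PSL2 F)⁻¹) := by group
            _ = w * v * v := by rw [h, hxv]
            _ = w := by rw [mul_assoc, Involution.mul_self hv2, mul_one]
      have hx2 := D.cent _ hV ((x : PSL2.PSL2 F) ^ 2) hcase
      have h4 : ((x : PSL2.PSL2 F) ^ 2) * ((x : PSL2.PSL2 F) ^ 2) = 1 := by
        haveI := hV
        exact congrArg Subtype.val (IsKleinFour.mul_self (⟨_, hx2⟩ : (P : Subgroup (PSL2.PSL2 F))))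
      show (x : PSL2.PSL2 F) ^ 2 ^ 2 = 1
      rw [show (2 : ℕ) ^ 2 = 2 + 2 from rfl, pow_add]
      exact h4
    obtain ⟨k, hk⟩ := IsPGroup.iff_card.1 hCpow
    obtain ⟨h1, h3⟩ := PSL2.card_centralizer_involution hodd hv2
    have hF5 : Fintype.card F = 5 := by
      rw [← Nat.card_eq_fintype_card]
      have hk' : (Nat.card F + 1 = 2 ^ k ∨ Nat.card F - 1 = 2 ^ k) ∧ 2 ^ k % 8 = 4 := by
        rcases hq8 with h | h
        · have := (h3 (by omega)).symm.trans hk
          exact ⟨Or.inl this, by omega⟩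
        · have := (h1 (by omega)).symm.trans hk
          exact ⟨Or.inr this, by omega⟩
      have hk2 : k = 2 := by
        by_contra hne
        rcases Nat.lt_or_ge k 2 with hlt | hge
        · interval_cases k <;> omega
        · have : 8 ∣ 2 ^ k := by
            calc (8 : ℕ) = 2 ^ 3 := rfl
              _ ∣ 2 ^ k := pow_dvd_pow 2 (by omega)
          omega
      subst hk2
      omega
    obtain ⟨e5⟩ := S0253.result hF5
    left
    have hF5' : Nat.card F = 5 := by rw [Nat.card_eq_fintype_card, hF5]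
    haveI : Fact (Nat.Prime 5) := ⟨by norm_num⟩
    have hA := card_mulAut_psl (F := F) (p := 5) le_rfl (by rw [hF5', pow_one])
    rw [hA, hcG, Nat.card_congr e5.toEquiv, PSL2.card_alt_five, hF5'] at hdvdA
    norm_num at hdvdA
    have hi1 : L.index = 1 := by
      have h2 : L.index ∣ 2 := Nat.dvd_of_mul_dvd_mul_left (by norm_num : 0 < 60)
        (by simpa using hdvdA)
      rcases (Nat.dvd_prime Nat.prime_two).1 h2 with h | h
      · exact h
      · exact absurd (h ▸ hi) (by decide)
    have hLtop : L = ⊤ := index_eq_one.1 hi1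
    exact ⟨(Subgroup.topEquiv.symm.trans (MulEquiv.subgroupCongr hLtop.symm)).trans (e.trans e5)⟩
  · -- characteristic two
    rw [← Nat.card_eq_fintype_card] at hq
    have heven : Even (Nat.card F) := by rw [hq]; exact Nat.even_pow.2 ⟨even_two, by omega⟩
    haveI : CharP F 2 := charP_of_card_eq_prime_pow (Nat.card_eq_fintype_card.symm.trans hq)
    have hA := card_mulAut_psl (F := F) (p := 2) (f := n) (by omega) hq
    have hpsl : Nat.card (PSL2.PSL2 F) = Nat.card F * (Nat.card F ^ 2 - 1) := by
      have h := PSL2.card_psl_mul (F := F)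
      rw [show Nat.gcd 2 (Nat.card F - 1) = 1 from Nat.prime_two.coprime_iff_not_dvd.2 fun h => by
        rw [Nat.even_iff] at heven
        have := Finite.one_lt_card (α := F)
        omega, one_mul] at h
      rw [h, show Nat.card F ^ 2 - 1 = (Nat.card F + 1) * (Nat.card F - 1) by
        rw [← Nat.sq_sub_sq, one_pow]]
    have hin : L.index ∣ n := by
      have h := hdvdA
      rw [hA, hcG, ← hpsl, mul_comm n] at h
      exact Nat.dvd_of_mul_dvd_mul_left Nat.card_pos h
    -- the Sylow subgroup and its normaliser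
    let T : Sylow 2 L := S.subtype hSL
    let P : Sylow 2 (PSL2.PSL2 F) := T.mapSurjective (f := e.toMonoidHom) e.surjective
    have hScard : Nat.card (S : Subgroup G) = 2 ^ n := by
      have h1 := S.card_eq_multiplicity
      rw [h1, hcG, hpsl, hq]
      congr 1
      have hi2 : ¬ 2 ∣ L.index := hi.not_two_dvd_nat
      have hodd' : ¬ 2 ∣ (2 ^ n) ^ 2 - 1 := by
        intro h
        have h2 : 2 ∣ (2 ^ n) ^ 2 := dvd_pow (dvd_pow_self 2 (by omega)) (by norm_num)
        have h3 : 1 ≤ (2 ^ n) ^ 2 := Nat.one_le_pow _ _ (by positivity)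
        omega
      have h0 : (2 ^ n) ^ 2 - 1 ≠ 0 := fun h => hodd' (h ▸ dvd_zero 2)
      rw [Nat.factorization_mul (Nat.mul_ne_zero (by positivity) h0) hi.pos.ne',
        Nat.factorization_mul (by positivity) h0, Finsupp.add_apply, Finsupp.add_apply,
        Nat.Prime.factorization_pow Nat.prime_two, Nat.factorization_eq_zero_of_not_dvd hi2,
        Nat.factorization_eq_zero_of_not_dvd hodd']
      simp
    set N' := normalizer ((S : Subgroup G) : Set G)
    set C' := centralizer ((S : Subgroup G) : Set G)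
    have hN'L : Nat.card (L.subgroupOf N') ≤ Nat.card F * (Nat.card F - 1) := by
      refine le_trans ?_ (card_le_stab heven P)
      refine Nat.card_le_card_of_injective (fun x => ⟨e ⟨((x : N') : G), x.2⟩, ?_⟩) ?_
      · refine mem_normalizer_iff.2 fun w => ?_
        obtain ⟨z, rfl⟩ := e.surjective w
        have hPe : ∀ l : L, e l ∈ (P : Subgroup (PSL2.PSL2 F)) ↔ (l : G) ∈ S := fun l =>
          (mem_map_iff_mem e.injective).trans (by simp only [T, Sylow.coe_subtype, mem_subgroupOf]; rfl)
        rw [← map_inv, ← map_mul, ← map_mul]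
        rw [hPe, hPe]
        exact mem_normalizer_iff.1 (x : N').2 _
      · intro a b hab'
        exact Subtype.ext (Subtype.ext
          (congrArg (fun l : L => (l : G)) (e.injective (congrArg Subtype.val hab'))))
    have hrel : C'.relIndex N' ≤ (Nat.card F - 1) * L.index := by
      have h1 : Nat.card (C'.subgroupOf N') * C'.relIndex N' = Nat.card N' :=
        (C'.subgroupOf N').card_mul_index
      have h2 : Nat.card F ≤ Nat.card (C'.subgroupOf N') := by
        rw [hq, ← hScard]
        refine Nat.card_le_card_of_injective (fun s => ⟨⟨(s : G), le_normalizer s.2⟩,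
          mem_centralizer_iff.2 fun y hy => hab y hy s s.2⟩) fun a b h => ?_
        exact Subtype.ext (congrArg (fun z : C'.subgroupOf N' => ((z : N') : G)) h)
      have h3 : Nat.card N' ≤ Nat.card F * (Nat.card F - 1) * L.index := by
        rw [← (L.subgroupOf N').card_mul_index]
        refine Nat.mul_le_mul hN'L (Nat.le_of_dvd hi.pos ?_)
        exact relIndex_dvd_index_of_normal L N'
      refine Nat.le_of_mul_le_mul_left ?_ (Nat.card_pos (α := F))
      calc Nat.card F * C'.relIndex N' ≤ Nat.card (C'.subgroupOf N') * C'.relIndex N' :=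
            Nat.mul_le_mul_right _ h2
        _ = Nat.card N' := h1
        _ ≤ _ := h3.trans_eq (by ring)
    have hb := pair_bound hC.pConj S hS (by
      rw [hScard]; exact le_trans (by norm_num) (Nat.pow_le_pow_right (by norm_num : 1 ≤ 2) hn))
    rw [hScard] at hb
    rw [hq] at hrel
    have hb' := hb.trans (Nat.mul_le_mul_left 6 hrel)
    haveI := Fintype.ofFinite F
    have hbij : L.index = n → Function.Bijective c := fun h =>
      (Nat.bijective_iff_injective_and_card _).2 ⟨hc, by rw [hA, hcG, ← hpsl, h, mul_comm]⟩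
    rcases eq_three_five hn hi hin hb' with ⟨rfl, h1⟩ | ⟨rfl, h1 | h3⟩ | ⟨rfl, h5⟩
    · obtain ⟨e4⟩ := S0252.result (F := F) (by rw [← Nat.card_eq_fintype_card, hq]; norm_num)
      exact Or.inl ⟨(Subgroup.topEquiv.symm.trans
        (MulEquiv.subgroupCongr (index_eq_one.1 h1).symm)).trans (e.trans e4)⟩
    · haveI : Fintype (GaloisField 2 3) := Fintype.ofFinite _
      obtain ⟨e8⟩ := SmallOrders.Order5616.nonempty_pslCongr (n := Fin 2)
        (FiniteField.ringEquivOfCardEq (K := F) (K' := GaloisField 2 3) (by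
          rw [← Nat.card_eq_fintype_card, ← Nat.card_eq_fintype_card, hq,
            GaloisField.card 2 3 (by norm_num)]))
      exact Or.inr ⟨by rw [hScard]; norm_num, Or.inl ⟨(Subgroup.topEquiv.symm.trans
        (MulEquiv.subgroupCongr (index_eq_one.1 h1).symm)).trans (e.trans e8)⟩⟩
    · -- a field automorphism of order three lies outside the inner automorphisms
      exfalso
      let ψ : G ≃* MulAut (PSL2.PSL2 F) := MulEquiv.ofBijective c (hbij h3)
      have hCA := hC.pConj.of_mulEquiv ψ
      haveI hInn : ((MulAut.conj : PSL2.PSL2 F →* MulAut (PSL2.PSL2 F)).range).Normal := ⟨by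
        rintro _ ⟨x, rfl⟩ α
        exact ⟨α x, MulEquiv.ext fun y => by simp⟩⟩
      haveI : Fact (Nat.Prime 3) := ⟨Nat.prime_three⟩
      have hautF : Nat.card (F ≃+* F) = 3 :=
        (AutPSL.fieldAut_facts 2 3 (by norm_num) (by rw [← Nat.card_eq_fintype_card, hq])).2
      haveI : Finite (F ≃+* F) := Nat.finite_of_card_ne_zero (by rw [hautF]; norm_num)
      obtain ⟨τ, hτ⟩ := exists_prime_orderOf_dvd_card' (G := F ≃+* F) 3 (by rw [hautF])
      have hσ : orderOf (ThreeOrders.semiOne (F := F) τ) = 3 := by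
        rw [orderOf_injective _ ThreeOrders.semiOne_injective, hτ]
      obtain ⟨x, hx⟩ := exists_prime_orderOf_dvd_card' (G := PSL2.PSL2 F) 3 (by
        rw [hpsl, hq]; norm_num)
      have hconjinj : Function.Injective (MulAut.conj : PSL2.PSL2 F →* MulAut (PSL2.PSL2 F)) := by
        intro a b hab'
        have : ∀ y, (b⁻¹ * a) * y = y * (b⁻¹ * a) := fun y => by
          have h := DFunLike.congr_fun hab' y
          rw [MulAut.conj_apply, MulAut.conj_apply] at h
          calc b⁻¹ * a * y = b⁻¹ * (a * y * a⁻¹) * a := by group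
            _ = b⁻¹ * (b * y * b⁻¹) * a := by rw [h]
            _ = y * (b⁻¹ * a) := by group
        have hz : b⁻¹ * a ∈ center (PSL2.PSL2 F) := mem_center_iff.2 fun y => (this y).symm
        haveI := PSL2.isSimpleGroup_psl (L := F) (by rw [hq]; norm_num)
        rcases (inferInstance : (center (PSL2.PSL2 F)).Normal).eq_bot_or_eq_top with h | h
        · rw [h, mem_bot] at hz
          exact (inv_mul_eq_one.1 hz).symm
        · exfalso
          exact PSL2.not_comm_psl (L := F) (by rw [hq]; norm_num) fun a b =>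
            (mem_center_iff.1 (h ▸ mem_top a : a ∈ center (PSL2.PSL2 F)) b).symm
      have hmem := hCA.le_of_normal (N := (MulAut.conj : PSL2.PSL2 F →* _).range) Nat.prime_three
        (by rw [orderOf_injective _ hconjinj, hx]) ⟨x, rfl⟩ hσ
      obtain ⟨y, hy⟩ := hmem
      obtain ⟨s, rfl⟩ := AutPSL.proj_surjective (n := Fin (0 + 2)) (F := F) y
      have h := (AutPSL.conj_eq_semi s).symm.trans hy
      have hτ1 : RingEquiv.refl F = τ := (AutPSL.semi_eq_semi.1 h).1
      rw [← hτ1] at hτ
      have : orderOf (1 : F ≃+* F) = 3 := hτ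
      rw [orderOf_one] at this
      omega
    · haveI : Fintype (GaloisField 2 5) := Fintype.ofFinite _
      obtain ⟨e32⟩ := SmallOrders.Order5616.nonempty_pslCongr (n := Fin 2)
        (FiniteField.ringEquivOfCardEq (K := F) (K' := GaloisField 2 5) (by
          rw [← Nat.card_eq_fintype_card, ← Nat.card_eq_fintype_card, hq,
            GaloisField.card 2 5 (by norm_num)]))
      exact Or.inr ⟨by rw [hScard]; norm_num,
        Or.inr ⟨(MulEquiv.ofBijective c (hbij h5)).trans (MulAut.congr e32)⟩⟩

end Cfsg.Agent.SameOrderConj
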