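/-
A simple normal subgroup with elementary abelian Sylow 2-subgroups in a group with fused small
subgroups: the single families.

Main results (namespace `Cfsg.Agent.SameOrderConj`):
* `SimpleShape` : the list of the simple groups with elementary abelian Sylow 2-subgroups
* `even_bound`, `odd_bound`, `index_dvd_psl`, `field_aut_false`, `j1_index`, `ree_normal_false`
-/
import Cfsg.Agent.EqLemmas
import Cfsg.Agent.Lib.SameOrderConj.Normal
import Cfsg.Agent.Lib.SameOrderConj.PSLFacts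
import Cfsg.Agent.Lib.SameOrderConj.ReeExclusion
import Cfsg.Agent.Lib.SameOrderConj.Simple
import Cfsg.Agent.Lib.JankoOne.Aut
import Cfsg.Agent.Lib.JankoOne.Order

set_option autoImplicit false
set_option linter.unusedSectionVars false
set_option linter.style.haveILetI false

namespace Cfsg.Agent.SameOrderConj

open Subgroup

universe u v

/-- The simple groups with elementary abelian Sylow 2-subgroups. -/
def SimpleShape : Prop :=
  ∀ (T : Type u) [Group T] [Finite T], IsSimpleGroup T → ¬ IsMulCommutative T →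
    (∀ P : Sylow 2 T, ∀ x ∈ (P : Subgroup T), x * x = 1) →
    (∃ (F : Type) (_ : Field F) (_ : Fintype F) (n : ℕ), 2 ≤ n ∧ Fintype.card F = 2 ^ n ∧
        Nonempty (T ≃* PSL2.PSL2 F)) ∨
    (∃ (F : Type) (_ : Field F) (_ : Fintype F), 5 ≤ Fintype.card F ∧
        (Fintype.card F % 8 = 3 ∨ Fintype.card F % 8 = 5) ∧ Nonempty (T ≃* PSL2.PSL2 F)) ∨
    Cfsg.Spor.IsoJ1 T ∨
    ∃ (t : T) (F : Type) (_ : Field F) (_ : Fintype F), AbelianSylow.JTData T t F ∧ ∃ m : ℕ, 1 ≤ m ∧
      Fintype.card F = 3 ^ (2 * m + 1) ∧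
      Nat.card T = (3 ^ (2 * m + 1)) ^ 3 * ((3 ^ (2 * m + 1)) ^ 3 + 1) * (3 ^ (2 * m + 1) - 1)

theorem sylow_facts_of_equiv {M : Type u} [Group M] [Finite M] {F : Type} [Field F] [Finite F]
    (e : M ≃* PSL2.PSL2 F) {p f : ℕ} [Fact p.Prime] (hf : 1 ≤ f) (hF : Nat.card F = p ^ f) :
    ∃ P : Sylow p M, Nat.card (P : Subgroup M) = Nat.card F ∧
      (∀ x ∈ (P : Subgroup M), x ^ p = 1) ∧ IsMulCommutative (P : Subgroup M) ∧
      Nat.gcd 2 (Nat.card F - 1) * (P : Subgroup M).relIndex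
        (normalizer ((P : Subgroup M) : Set M)) ∣ Nat.card F - 1 := by
  haveI : CharP F p := by
    haveI := Fintype.ofFinite F
    exact charP_of_card_eq_prime_pow (Nat.card_eq_fintype_card.symm.trans hF)
  obtain ⟨U⟩ : Nonempty (Sylow p (PSL2.PSL2 F)) := inferInstance
  obtain ⟨hc, he, hab, hN⟩ := sylow_char_facts hf hF U
  let P : Sylow p M := U.mapSurjective (f := e.symm.toMonoidHom) e.symm.surjective
  have hPU : (P : Subgroup M) = (U : Subgroup (PSL2.PSL2 F)).map e.symm.toMonoidHom := rfl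
  refine ⟨P, ?_, ?_, ⟨⟨?_⟩⟩, ?_⟩
  · rw [hPU, ← hc]
    exact (Nat.card_congr ((U : Subgroup (PSL2.PSL2 F)).equivMapOfInjective _
      e.symm.injective).toEquiv).symm
  · rw [hPU]
    rintro _ ⟨a, ha, rfl⟩
    rw [← map_pow, he a ha, map_one]
  · intro a b
    obtain ⟨a', ha, hae⟩ := a.2
    obtain ⟨b', hb, hbe⟩ := b.2
    refine Subtype.ext ?_
    show (a : M) * b = b * a
    rw [← hae, ← hbe, ← map_mul, ← map_mul]
    exact congrArg _ (congrArg Subtype.val (hab.1.comm ⟨a', ha⟩ ⟨b', hb⟩))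
  · have : normalizer ((P : Subgroup M) : Set M) = (normalizer
        ((U : Subgroup (PSL2.PSL2 F)) : Set (PSL2.PSL2 F))).map e.symm.toMonoidHom := by
      rw [hPU]
      exact (map_equiv_normalizer_eq (U : Subgroup (PSL2.PSL2 F)) e.symm).symm
    rw [this, hPU, relIndex_map_map_of_injective _ _ e.symm.injective]
    exact hN

variable {G : Type u} [Group G] [Finite G] (M : Subgroup G) [M.Normal]

theorem normal_fusion {p : ℕ} [Fact p.Prime] (P : Sylow p M) (hP : IsMulCommutative (P : Subgroup M))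
    (hfus : ∀ W W' : Subgroup G, W ≤ M → W' ≤ M → Nat.card W = p ^ 2 → Nat.card W' = p ^ 2 →
      ∃ g : G, W' = W.map (MulAut.conj g).toMonoidHom) :
    ∀ W W' : Subgroup G, W ≤ (P : Subgroup M).map M.subtype → W' ≤ (P : Subgroup M).map M.subtype →
      Nat.card W = p ^ 2 → Nat.card W' = p ^ 2 →
      ∃ n ∈ normalizer (((P : Subgroup M).map M.subtype : Subgroup G) : Set G),
        W' = W.map (MulAut.conj n).toMonoidHom := by
  intro W W' hW hW' hWc hW'c
  obtain ⟨g, hg⟩ := hfus W W' (hW.trans (map_subtype_le _)) (hW'.trans (map_subtype_le _)) hWc hW'c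
  obtain ⟨n, hn, hng⟩ := conj_exists_normalizer_normal M P hP hW g (hg ▸ hW')
  refine ⟨n, hn, hg.trans (SetLike.coe_injective ?_)⟩
  rw [coe_map, coe_map]
  exact Set.image_congr fun a ha => (hng a ha).symm

theorem psl_pair_dvd {F : Type} [Field F] [Finite F] (e : M ≃* PSL2.PSL2 F) {p f : ℕ} [Fact p.Prime]
    (hf : 2 ≤ f) (hF : Nat.card F = p ^ f)
    (hfus : ∀ W W' : Subgroup G, W ≤ M → W' ≤ M → Nat.card W = p ^ 2 → Nat.card W' = p ^ 2 →
      ∃ g : G, W' = W.map (MulAut.conj g).toMonoidHom) :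
    Nat.gcd 2 (Nat.card F - 1) * (Nat.card F - p) ∣
      (p ^ 2 - 1) * (p ^ 2 - p) * (M ⊔ centralizer (M : Set G)).index := by
  obtain ⟨P, hPc, hexp, hab, hN⟩ := sylow_facts_of_equiv e (p := p) (f := f) (by omega) hF
  have habP : ∀ x ∈ (P : Subgroup M), ∀ y ∈ (P : Subgroup M), x * y = y * x := fun x hx y hy =>
    congrArg Subtype.val (hab.1.comm ⟨x, hx⟩ ⟨y, hy⟩)
  have h1 := pair_dvd (p := p) ((P : Subgroup M).map M.subtype)
    (by rintro _ ⟨x, hx, rfl⟩; rw [← map_pow, hexp x hx, map_one])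
    (by rintro _ ⟨x, hx, rfl⟩ _ ⟨y, hy, rfl⟩; rw [← map_mul, ← map_mul, habP x hx y hy])
    (by rw [Cores.card_map_subtype, hPc, hF]; exact pow_dvd_pow p hf)
    (normal_fusion M P hab hfus)
  rw [Cores.card_map_subtype, hPc] at h1
  have h2 := h1.trans (mul_dvd_mul_left _ (relIndex_dvd M (P : Subgroup M) habP))
  have hq : 1 < Nat.card F := Finite.one_lt_card
  refine Nat.dvd_of_mul_dvd_mul_left (show 0 < Nat.card F - 1 by omega) ?_
  rw [mul_left_comm]
  refine (mul_dvd_mul_left _ h2).trans ?_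
  rw [show ∀ a b c d : ℕ, a * (b * (c * d)) = b * c * (a * d) by intros; ring, mul_comm (Nat.card F - 1)]
  exact mul_dvd_mul_left _ hN

theorem index_dvd_psl {F : Type} [Field F] [Finite F] (e : M ≃* PSL2.PSL2 F) (h4 : 4 ≤ Nat.card F)
    {p f : ℕ} [Fact p.Prime] (hf : 1 ≤ f) (hF : Nat.card F = p ^ f) :
    (M ⊔ centralizer (M : Set G)).index ∣ Nat.gcd 2 (Nat.card F - 1) * f := by
  haveI := PSL2.isSimpleGroup_psl (L := F) h4
  haveI : IsSimpleGroup M := e.isSimpleGroup
  have hna : ¬ IsMulCommutative M := fun h => PSL2.not_comm_psl (L := F) (by omega) fun a b =>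
    e.symm.injective (by rw [map_mul, map_mul]; exact h.1.comm _ _)
  have h := index_mul_card_dvd M hna
  rw [Nat.card_congr (MulAut.congr e).toEquiv, card_mulAut_psl hf hF] at h
  refine Nat.dvd_of_mul_dvd_mul_left (Nat.card_pos (α := M)) ?_
  rw [mul_comm]
  refine h.trans (dvd_of_eq ?_)
  have h2 := PSL2.card_psl_mul (F := F)
  rw [Nat.card_congr e.toEquiv, mul_comm (Nat.card (PSL2.PSL2 F)), mul_right_comm, h2, mul_comm f,
    show Nat.card F ^ 2 - 1 = (Nat.card F + 1) * (Nat.card F - 1) by rw [← Nat.sq_sub_sq, one_pow]]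

theorem even_bound {F : Type} [Field F] [Finite F] (e : M ≃* PSL2.PSL2 F) {n : ℕ} (hn : 2 ≤ n)
    (hF : Nat.card F = 2 ^ n)
    (hfus : ∀ W W' : Subgroup G, W ≤ M → W' ≤ M → Nat.card W = 2 ^ 2 → Nat.card W' = 2 ^ 2 →
      ∃ g : G, W' = W.map (MulAut.conj g).toMonoidHom) :
    2 ^ n - 2 ∣ 6 * (M ⊔ centralizer (M : Set G)).index ∧
      (M ⊔ centralizer (M : Set G)).index ∣ n := by
  haveI : Fact (Nat.Prime 2) := ⟨Nat.prime_two⟩
  have h4 : 4 ≤ Nat.card F := hF ▸ Nat.pow_le_pow_right (by norm_num : 0 < 2) hn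
  have hg : Nat.gcd 2 (Nat.card F - 1) = 1 := Nat.prime_two.coprime_iff_not_dvd.2 fun h => by
    have : 2 ∣ Nat.card F := hF ▸ dvd_pow_self 2 (by omega)
    omega
  have h1 := psl_pair_dvd M e hn hF hfus
  have h2 := index_dvd_psl M e h4 (by omega : 1 ≤ n) hF
  rw [hg, one_mul] at h1 h2
  rw [hF] at h1
  norm_num at h1
  exact ⟨h1, h2⟩

theorem odd_arith {p f r : ℕ} (hp : 3 ≤ p) (hf : 5 ≤ f) (hr : r ≤ f) (hr0 : 1 ≤ r)
    (h : 2 * (p ^ f - p) ∣ (p ^ 2 - 1) * (p ^ 2 - p) * r) : False := by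
  have key : ∀ k, p ^ 4 * (k + 5) + 2 * p ≤ 2 * p ^ (k + 5) := by
    intro k
    induction k with
    | zero =>
      have : 3 * p ^ 4 ≤ p * p ^ 4 := Nat.mul_le_mul_right _ hp
      have : 2 * p ≤ p ^ 4 := by
        calc 2 * p ≤ p * p := Nat.mul_le_mul_right _ (by omega)
          _ = p ^ 2 := (pow_two p).symm
          _ ≤ p ^ 4 := Nat.pow_le_pow_right (by omega) (by norm_num)
      have h0 : p ^ (0 + 5) = p * p ^ 4 := pow_succ' p 4
      omega
    | succ k ih =>
      have h1 : 3 * p ^ (k + 5) ≤ p * p ^ (k + 5) := Nat.mul_le_mul_right _ hp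
      have h0 : p ^ (k + 1 + 5) = p * p ^ (k + 5) := by
        rw [← pow_succ']
      have h00 : p ^ 4 * (k + 1 + 5) = p ^ 4 * (k + 5) + p ^ 4 := by ring
      have : p ^ 4 ≤ p ^ (k + 5) := Nat.pow_le_pow_right (by omega) (by omega)
      omega
  have h4 : (p ^ 2 - 1) * (p ^ 2 - p) < p ^ 4 := by
    have h2 : 0 < p ^ 2 := by positivity
    calc (p ^ 2 - 1) * (p ^ 2 - p) ≤ (p ^ 2 - 1) * p ^ 2 := Nat.mul_le_mul_left _ (Nat.sub_le _ _)
      _ < p ^ 2 * p ^ 2 := Nat.mul_lt_mul_of_pos_right (by omega) h2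
      _ = p ^ 4 := by ring
  have h5 : 0 < (p ^ 2 - 1) * (p ^ 2 - p) * r := by
    have : p < p ^ 2 := by nlinarith
    exact Nat.mul_pos (Nat.mul_pos (by omega) (by omega)) hr0
  have h6 := Nat.le_of_dvd h5 h
  have h7 := key (f - 5)
  rw [show f - 5 + 5 = f by omega] at h7
  have h8 : (p ^ 2 - 1) * (p ^ 2 - p) * r < p ^ 4 * f :=
    lt_of_lt_of_le (Nat.mul_lt_mul_of_pos_right h4 hr0) (Nat.mul_le_mul_left _ hr)
  omega

theorem field_aut_false (hD : PSubgroupConj G) (hC : centralizer (M : Set G) = ⊥)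
    {F : Type} [Field F] [Finite F] (e : M ≃* PSL2.PSL2 F) (h4 : 4 ≤ Nat.card F) {p : ℕ}
    [Fact p.Prime] (hF : Nat.card F = p ^ 3) (hM : M.index = 3) : False := by
  haveI : Fact (Nat.Prime 3) := ⟨Nat.prime_three⟩
  haveI := Fintype.ofFinite F
  let c : G →* MulAut (PSL2.PSL2 F) := (MulAut.congr e).toMonoidHom.comp MulAut.conjNormal
  have hc : Function.Injective c := (MulAut.congr e).injective.comp (by
    rw [← MonoidHom.ker_eq_bot_iff, eq_bot_iff, ← hC]
    intro g hg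
    refine mem_centralizer_iff.2 fun l hl => ?_
    have h1 := congrArg Subtype.val (DFunLike.congr_fun (MonoidHom.mem_ker.1 hg) (⟨l, hl⟩ : M))
    rw [MulAut.conjNormal_apply] at h1
    change g * l * g⁻¹ = l at h1
    exact (mul_inv_eq_iff_eq_mul.1 h1).symm)
  have hautF : Nat.card (F ≃+* F) = 3 :=
    (AutPSL.fieldAut_facts p 3 (by norm_num) (by rw [← Nat.card_eq_fintype_card, hF])).2
  haveI : Finite (F ≃+* F) := Nat.finite_of_card_ne_zero (by rw [hautF]; norm_num)
  obtain ⟨τ, hτ⟩ := exists_prime_orderOf_dvd_card' (G := F ≃+* F) 3 (by rw [hautF])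
  set σ := ThreeOrders.semiOne (F := F) τ
  have hσ : orderOf σ = 3 := by rw [orderOf_injective _ ThreeOrders.semiOne_injective, hτ]
  -- `σ` lies in the image
  have hidx : c.range.index * (3 * Nat.card (PSL2.PSL2 F)) =
      3 * (Nat.gcd 2 (Nat.card F - 1) * Nat.card (PSL2.PSL2 F)) := by
    have h := c.range.index_mul_card
    rw [show Nat.card c.range = Nat.card G from (Nat.card_congr (MonoidHom.ofInjective hc).toEquiv).symm,
      ← M.index_mul_card, hM, Nat.card_congr e.toEquiv, card_mulAut_psl (by norm_num) hF] at h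
    rw [h, PSL2.card_psl_mul, show Nat.card F ^ 2 - 1 = (Nat.card F + 1) * (Nat.card F - 1) by
      rw [← Nat.sq_sub_sq, one_pow]]
  have hidx2 : c.range.index = Nat.gcd 2 (Nat.card F - 1) := by
    refine Nat.eq_of_mul_eq_mul_right (show 0 < 3 * Nat.card (PSL2.PSL2 F) from
      Nat.mul_pos (by norm_num) Nat.card_pos) (hidx.trans ?_)
    ring
  obtain ⟨g, hg⟩ : σ ∈ c.range := by
    rcases (Nat.dvd_prime Nat.prime_two).1 (hidx2 ▸ Nat.gcd_dvd_left 2 _) with h | h
    · rw [index_eq_one.1 h]; exact mem_top _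
    · have h3 : σ = (σ * σ) * (σ * σ) := by
        calc σ = σ * σ ^ 3 := by rw [← hσ, pow_orderOf_eq_one, mul_one]
          _ = _ := by simp only [pow_succ, pow_zero, one_mul, mul_assoc]
      rw [h3]
      exact mul_self_mem_of_index_two h _
  have hgo : orderOf g = 3 := by rw [← orderOf_injective c hc, hg, hσ]
  obtain ⟨x, hx⟩ := exists_prime_orderOf_dvd_card' (G := M) 3 (by
    rw [Nat.card_congr e.toEquiv]
    have h := PSL2.card_psl_mul (F := F)
    refine (Nat.Coprime.dvd_mul_left ?_).1 (h ▸ ?_ : 3 ∣ Nat.gcd 2 (Nat.card F - 1) * _)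
    · exact Nat.Coprime.coprime_dvd_right (Nat.gcd_dvd_left 2 _) (by norm_num)
    · generalize Nat.card F = q
      rcases (by omega : q % 3 = 0 ∨ q % 3 = 1 ∨ q % 3 = 2) with hq | hq | hq
      · exact dvd_mul_of_dvd_left (by omega) _
      · exact dvd_mul_of_dvd_right (dvd_mul_of_dvd_right (by omega) _) _
      · exact dvd_mul_of_dvd_right (dvd_mul_of_dvd_left (by omega) _) _)
  have hgM : g ∈ M := hD.le_of_normal Nat.prime_three (by rw [orderOf_coe, hx]) x.2 hgo
  have hconj : c g = MulAut.conj (e ⟨g, hgM⟩) := by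
    refine MulEquiv.ext fun y => ?_
    obtain ⟨m, rfl⟩ := e.surjective y
    show e (MulAut.conjNormal g (e.symm (e m))) = e ⟨g, hgM⟩ * e m * (e ⟨g, hgM⟩)⁻¹
    rw [e.symm_apply_apply, ← map_inv, ← map_mul, ← map_mul]
    exact congrArg e (Subtype.ext (by rw [MulAut.conjNormal_apply]; rfl))
  rw [hg] at hconj
  obtain ⟨s, hs⟩ := AutPSL.proj_surjective (n := Fin (0 + 2)) (F := F) (e ⟨g, hgM⟩)
  rw [← hs] at hconj
  have h := (AutPSL.conj_eq_semi s).symm.trans hconj.symm
  have hτ1 : RingEquiv.refl F = τ := (AutPSL.semi_eq_semi.1 h).1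
  rw [← hτ1] at hτ
  have : orderOf (1 : F ≃+* F) = 3 := hτ
  rw [orderOf_one] at this
  omega

theorem j1_index (e : M ≃* ↥Cfsg.Spor.J1) : (M ⊔ centralizer (M : Set G)).index = 1 := by
  haveI := JankoOne.isSimpleGroup_j1
  haveI : IsSimpleGroup M := e.isSimpleGroup
  have hna : ¬ IsMulCommutative M := by
    intro h
    letI : CommGroup M := { (inferInstance : Group M) with mul_comm := fun a b => h.1.comm a b }
    obtain ⟨q, hq, hc⟩ : ∃ q, q.Prime ∧ Nat.card M = q :=
      ⟨_, (IsSimpleGroup.prime_card (α := M)), rfl⟩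
    rw [Nat.card_congr e.toEquiv, JankoOne.natCard_j1] at hc
    rw [← hc] at hq
    norm_num at hq
  haveI : Finite (↥Cfsg.Spor.J1) := Finite.of_equiv M e.toEquiv
  have h := index_mul_card_dvd M hna
  rw [Nat.card_congr (MulAut.congr e).toEquiv, Nat.card_congr e.toEquiv] at h
  have h2 : Nat.card (MulAut ↥Cfsg.Spor.J1) ∣ Nat.card ↥Cfsg.Spor.J1 := by
    rw [← (Cfsg.Inn ↥Cfsg.Spor.J1).card_mul_index, index_eq_card,
      show Nat.card (MulAut ↥Cfsg.Spor.J1 ⧸ Cfsg.Inn ↥Cfsg.Spor.J1) = 1 from JankoOne.natCard_out_j1,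
      mul_one]
    exact card_range_dvd _
  exact Nat.dvd_one.1 (Nat.dvd_of_mul_dvd_mul_left Nat.card_pos
    (by rw [mul_one, mul_comm]; exact h.trans h2))

theorem ree_normal_false {F : Type} [Field F] [Fintype F] {t : M} (hJ : AbelianSylow.JTData M t F)
    {m : ℕ} (hm : 1 ≤ m) (hq : Fintype.card F = 3 ^ (2 * m + 1))
    (hT : Nat.card M = (3 ^ (2 * m + 1)) ^ 3 * ((3 ^ (2 * m + 1)) ^ 3 + 1) * (3 ^ (2 * m + 1) - 1))
    (hconj : ∀ H K : Subgroup G, IsPGroup 3 H → IsPGroup 3 K → IsMulCommutative H →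
      IsMulCommutative K → Nat.card H = Nat.card K → ∃ g : G, K = H.map (MulAut.conj g).toMonoidHom) :
    False := by
  haveI : Fact (Nat.Prime 3) := ⟨Nat.prime_three⟩
  haveI : CharP F 3 := charP_of_card_eq_prime_pow hq
  refine ree_exclusion hJ hm hq hT ?_ ?_
  · intro x hx
    by_contra hx3
    have hox : orderOf (x : G) = 3 ^ (1 + 1) := by
      rw [orderOf_coe]
      exact orderOf_eq_prime_pow (by rwa [pow_one]) hx
    obtain ⟨W, hW9, hWc, hW3⟩ := three_square_le (F := F) (n := 2 * m + 1) (by omega)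
      (by rw [Nat.card_eq_fintype_card, hq])
    obtain ⟨e⟩ := hJ.cent
    let ι : PSL2.PSL2 F →* G := M.subtype.comp ((centralizer ({t} : Set M)).subtype.comp
      (e.symm.toMonoidHom.comp (MonoidHom.inr _ _)))
    have hι : Function.Injective ι := M.subtype_injective.comp ((subtype_injective _).comp
      (e.symm.injective.comp fun a b h => (Prod.mk.inj h).2))
    set K := W.map ι
    have hK9 : Nat.card K = 3 ^ (1 + 1) := by
      rw [← Nat.card_congr (W.equivMapOfInjective ι hι).toEquiv, hW9]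
      rfl
    haveI hKc : IsMulCommutative K := ⟨⟨by
      rintro ⟨_, a, ha, rfl⟩ ⟨_, b, hb, rfl⟩
      refine Subtype.ext ?_
      show ι a * ι b = ι b * ι a
      rw [← map_mul, ← map_mul]
      exact congrArg ι (congrArg Subtype.val (hWc.1.comm ⟨a, ha⟩ ⟨b, hb⟩))⟩⟩
    haveI : IsMulCommutative (zpowers (x : G)) := IsCyclic.isMulCommutative
    obtain ⟨g, hg⟩ := hconj (zpowers (x : G)) K (IsPGroup.of_card (by rw [Nat.card_zpowers, hox]))
      (IsPGroup.of_card hK9) inferInstance hKc (by rw [Nat.card_zpowers, hox, hK9])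
    have hmem : g * x * g⁻¹ ∈ K := by
      rw [hg]
      exact ⟨x, mem_zpowers _, rfl⟩
    obtain ⟨w, hw, hwe⟩ := hmem
    have h1 : orderOf (g * x * g⁻¹) = 3 ^ (1 + 1) := by
      rw [← hox]
      exact MulEquiv.orderOf_eq (MulAut.conj g) (x : G)
    have h2 : orderOf (g * x * g⁻¹) ∣ 3 := by
      rw [← hwe]
      exact orderOf_dvd_of_pow_eq_one (by rw [← map_pow, hW3 w hw, map_one])
    rw [h1] at h2
    norm_num at h2
  · intro x y hx hy
    obtain ⟨g, hg⟩ := hconj (zpowers (x : G)) (zpowers (y : G))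
      (IsPGroup.of_card (n := 1) (by rw [Nat.card_zpowers, orderOf_coe, hx, pow_one]))
      (IsPGroup.of_card (n := 1) (by rw [Nat.card_zpowers, orderOf_coe, hy, pow_one]))
      IsCyclic.isMulCommutative IsCyclic.isMulCommutative
      (by rw [Nat.card_zpowers, Nat.card_zpowers, orderOf_coe, orderOf_coe, hx, hy])
    exact exists_mulAut_of_conj M hg

end Cfsg.Agent.SameOrderConj
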