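/-
Groups in which abelian subgroups of the same order are conjugate: their simple normal subgroups,
modulo the list of simple groups with elementary abelian Sylow 2-subgroups.

Main results (namespace `Cfsg.Agent.SameOrderConj`):
* `sylow_sq_of_abelianConj`, `simple_normal_cases`
-/
import Cfsg.Agent.EqLemmas
import Cfsg.Agent.Lib.SameOrderConj.Shape
import Cfsg.Agent.Lib.CentFour.Sylow

set_option autoImplicit false
set_option linter.unusedSectionVars false
set_option linter.style.haveILetI false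

namespace Cfsg.Agent.SameOrderConj

open Subgroup

universe u

/-- Any two abelian subgroups of the same order are conjugate. -/
def AbelianConj (G : Type u) [Group G] : Prop :=
  ∀ A B : Subgroup G, IsMulCommutative ↥A → IsMulCommutative ↥B → Nat.card ↥A = Nat.card ↥B →
    ∃ g : G, B = A.map (MulAut.conj g).toMonoidHom

variable {G : Type u} [Group G] [Finite G]

theorem AbelianConj.no_four {P : Subgroup G} (hB : AbelianConj G) {a b x : G}
    (ha : orderOf a = 2) (hb : orderOf b = 2) (hab : a ≠ b) (hcomm : Commute a b) (hx : x ∈ P)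
    (h4 : orderOf x = 4) : False := by
  haveI : Fact (Nat.Prime 2) := ⟨Nat.prime_two⟩
  have hd : Disjoint (zpowers a) (zpowers b) := by
    haveI : Fact (Nat.card (zpowers b)).Prime := ⟨by rw [Nat.card_zpowers, hb]; exact Nat.prime_two⟩
    rcases (zpowers a |>.subgroupOf (zpowers b)).eq_bot_or_eq_top_of_prime_card with h | h
    · exact subgroupOf_eq_bot.1 h
    · exfalso
      have hmem : b ∈ zpowers a := subgroupOf_eq_top.1 h (mem_zpowers b)
      obtain ⟨k, hk⟩ := mem_zpowers_iff.1 hmem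
      rw [← zpow_mod_orderOf, ha] at hk
      rcases Int.emod_two_eq k with h2 | h2 <;> norm_num [h2] at hk
      · exact Involution.ne_one hb hk.symm
      · exact hab hk
  have hc : ∀ (u : zpowers a) (v : zpowers b), Commute ((zpowers a).subtype u) ((zpowers b).subtype v) := by
    rintro ⟨u, i, rfl⟩ ⟨v, j, rfl⟩
    exact hcomm.zpow_zpow i j
  let φ := (zpowers a).subtype.noncommCoprod (zpowers b).subtype hc
  have hinj : Function.Injective φ :=
    (MonoidHom.noncommCoprod_injective _ _ _).2 ⟨subtype_injective _, subtype_injective _, by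
      simpa using hd⟩
  have hcard : Nat.card φ.range = 4 := by
    rw [← Nat.card_congr (MonoidHom.ofInjective hinj).toEquiv, Nat.card_prod, Nat.card_zpowers,
      Nat.card_zpowers, ha, hb]
  have hsq : ∀ w ∈ φ.range, w * w = 1 := by
    rintro _ ⟨⟨⟨u, hu⟩, ⟨v, hv⟩⟩, rfl⟩
    have h1 : ∀ {c : G}, orderOf c = 2 → ∀ y ∈ zpowers c, y * y = 1 := by
      rintro c hc' _ ⟨i, rfl⟩
      show c ^ i * c ^ i = 1
      rw [← zpow_add, ← two_mul, mul_comm, zpow_mul', zpow_ofNat, ← hc', pow_orderOf_eq_one, one_zpow]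
    show u * v * (u * v) = 1
    have huv : Commute u v := hc ⟨u, hu⟩ ⟨v, hv⟩
    rw [mul_assoc, ← mul_assoc v, ← huv.eq, mul_assoc u v, h1 hb v hv, mul_one, h1 ha u hu]
  haveI hW : IsMulCommutative φ.range := ⟨⟨fun u v => Subtype.ext (commute_of_sq hsq u.2 v.2)⟩⟩
  haveI : IsMulCommutative (zpowers x) := IsCyclic.isMulCommutative
  obtain ⟨g, hg⟩ := hB (zpowers x) φ.range inferInstance hW (by rw [Nat.card_zpowers, h4, hcard])
  have hmem : g * x * g⁻¹ ∈ φ.range := by
    rw [hg]
    exact ⟨x, mem_zpowers _, rfl⟩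
  have h2 : orderOf (g * x * g⁻¹) ∣ 2 :=
    orderOf_dvd_of_pow_eq_one (by rw [pow_two]; exact hsq _ hmem)
  rw [show orderOf (g * x * g⁻¹) = orderOf x from MulEquiv.orderOf_eq (MulAut.conj g) x, h4] at h2
  norm_num at h2

theorem sylow_sq_of_abelianConj (hB : AbelianConj G) (M : Subgroup G) [IsSimpleGroup M]
    (hna : ¬ IsMulCommutative M) (P : Sylow 2 M) : ∀ x ∈ (P : Subgroup M), x * x = 1 := by
  haveI : Fact (Nat.Prime 2) := ⟨Nat.prime_two⟩
  have h2 : 2 ∣ Nat.card M := by
    by_contra h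
    haveI := OddOrderTheorem.oddSolvable M (Nat.not_even_iff_odd.1 fun he => h (even_iff_two_dvd.1 he))
    exact hna ⟨⟨(IsSimpleGroup.comm_iff_isSolvable (G := M)).2 inferInstance⟩⟩
  intro x hx
  by_contra hx2
  obtain ⟨j, hj⟩ := P.isPGroup' ⟨x, hx⟩
  have hd : orderOf x ∣ 2 ^ j := orderOf_dvd_of_pow_eq_one (congrArg Subtype.val hj)
  obtain ⟨i, -, hi⟩ := (Nat.dvd_prime_pow Nat.prime_two).1 hd
  have hi2 : 2 ≤ i := by
    by_contra h
    refine hx2 ?_
    rw [← pow_two, ← orderOf_dvd_iff_pow_eq_one, hi]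
    exact dvd_trans (pow_dvd_pow 2 (show i ≤ 1 by omega)) (by norm_num)
  have h4 : orderOf ((x ^ 2 ^ (i - 2) : M) : G) = 4 := by
    rw [orderOf_coe, orderOf_pow' _ (by positivity : 2 ^ (i - 2) ≠ 0), hi,
      Nat.gcd_eq_right (pow_dvd_pow 2 (by omega)), Nat.pow_div (by omega) (by norm_num),
      show i - (i - 2) = 2 by omega]
  have hnc := CentFour.not_cyclic_sylow hna h2 P
  by_cases huniq : ∀ H K : Subgroup (P : Subgroup M), Nat.card H = 2 → Nat.card K = 2 → H = K
  · rcases S0016.result 2 P.isPGroup' huniq with h | ⟨-, n, ⟨e⟩⟩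
    · exact hnc h
    rcases n with _ | n
    · haveI := QuaternionGroup.quaternionGroup_one_isCyclic
      exact hnc (isCyclic_of_surjective e.symm.toMonoidHom e.symm.surjective)
    · exact CentFour.not_quaternion hna P e
  simp only [not_forall] at huniq
  obtain ⟨H, K, hH, hK, hHK⟩ := huniq
  haveI : Nontrivial (P : Subgroup M) := by
    rw [nontrivial_iff_ne_bot]
    intro h
    rw [h, mem_bot] at hx
    exact hx2 (by rw [hx, one_mul])
  haveI : Nontrivial (center (P : Subgroup M)) := P.isPGroup'.center_nontrivial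
  obtain ⟨z, hz⟩ := exists_prime_orderOf_dvd_card' (G := center (P : Subgroup M)) 2
    (Isolated.prime_dvd_card (P.isPGroup'.to_subgroup (center _)))
  obtain ⟨w, hw, hwz⟩ : ∃ w : (P : Subgroup M), orderOf w = 2 ∧ w ≠ (z : (P : Subgroup M)) := by
    by_contra hno
    push Not at hno
    have : ∀ X : Subgroup (P : Subgroup M), Nat.card X = 2 →
        X = zpowers (z : (P : Subgroup M)) := by
      intro X hX
      obtain ⟨y, hy⟩ := exists_prime_orderOf_dvd_card' (G := X) 2 (by rw [hX])
      have hyz : (y : (P : Subgroup M)) = z := hno _ (by rw [orderOf_coe]; exact hy)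
      refine (Subgroup.eq_of_le_of_card_ge (zpowers_le.2 (hyz ▸ y.2)) ?_).symm
      rw [hX, Nat.card_zpowers, orderOf_coe, hz]
    exact hHK ((this H hH).trans (this K hK).symm)
  refine hB.no_four (P := M) (a := ((((z : (P : Subgroup M)) : M)) : G)) (b := ((w : M) : G))
    (by rw [orderOf_coe, orderOf_coe, orderOf_coe]; exact hz) (by rw [orderOf_coe, orderOf_coe]; exact hw)
    (fun h => hwz (Subtype.ext (Subtype.ext h.symm))) ?_ (x ^ 2 ^ (i - 2) : M).2 h4
  exact congrArg (fun v : (P : Subgroup M) => ((v : M) : G)) (mem_center_iff.1 z.2 w).symm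

/-- The simple normal subgroups. -/
theorem simple_normal_cases (hshape : SimpleShape.{u}) (hB : AbelianConj G) (M : Subgroup G)
    [M.Normal] (hs : IsSimpleGroup M) (hna : ¬ IsMulCommutative M) :
    (∃ (F : Type) (_ : Field F) (_ : Fintype F),
      (Fintype.card F = 2 ^ 2 ∨ Fintype.card F = 2 ^ 3 ∨ Fintype.card F = 2 ^ 5) ∧
        Nonempty (↥M ≃* Matrix.SpecialLinearGroup (Fin 2) F)) ∨
    (∃ (F : Type) (_ : Field F) (_ : Fintype F), 5 ≤ Fintype.card F ∧
        (Fintype.card F % 8 = 3 ∨ Fintype.card F % 8 = 5) ∧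
        Nonempty (↥M ≃* Matrix.ProjectiveSpecialLinearGroup (Fin 2) F)) ∨
    Cfsg.Spor.IsoJ1 ↥M := by
  haveI := hs
  haveI : Fact (Nat.Prime 2) := ⟨Nat.prime_two⟩
  have hcomm : ∀ W : Subgroup G, Nat.card W = 2 ^ 2 → IsMulCommutative W := fun W hW =>
    ⟨⟨fun a b => (IsPGroup.isMulCommutative_of_card_eq_prime_sq hW).is_comm.comm a b⟩⟩
  rcases hshape M hs hna (sylow_sq_of_abelianConj hB M hna) with ⟨F, iF, iFt, n, hn, hq, ⟨e⟩⟩ | h | h |
    ⟨t, F, iF, iFt, hJT, m, hm, hq, hT⟩
  · have hqN : Nat.card F = 2 ^ n := by rw [Nat.card_eq_fintype_card, hq]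
    obtain ⟨hb, hr⟩ := even_bound M e hn hqN fun W W' _ _ hW hW' =>
      hB W W' (hcomm W hW) (hcomm W' hW') (hW.trans hW'.symm)
    have hrle := Nat.le_of_dvd (by omega) hr
    have hd : 2 ^ n - 2 ∣ 6 * n := hb.trans (Nat.mul_dvd_mul_left 6 hr)
    have hn5 : n ≤ 5 := two_pow_sub_two_le (Nat.le_of_dvd (by omega) hd)
    have hn' : n = 2 ∨ n = 3 ∨ n = 5 := by
      interval_cases n <;> simp_all
    have hcen : center (Matrix.SpecialLinearGroup (Fin 2) F) = ⊥ := by
      haveI : CharP F 2 := charP_of_card_eq_prime_pow hq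
      rw [eq_bot_iff]
      intro z hz
      obtain ⟨c, hc, hcz⟩ := Matrix.SpecialLinearGroup.mem_center_iff.1 hz
      rw [Fintype.card_fin] at hc
      have hc1 : c = 1 := by
        have h0 : (c - 1) ^ 2 = 0 := by
          rw [sub_sq, hc, CharTwo.two_eq_zero (R := F)]
          ring_nf
          rw [CharTwo.two_eq_zero (R := F)]
        exact sub_eq_zero.1 (pow_eq_zero_iff (n := 2) (by norm_num) |>.1 h0)
      rw [mem_bot]
      apply Subtype.ext
      rw [← hcz, hc1]
      simp
    refine Or.inl ⟨F, iF, iFt, ?_, ⟨e.trans ((QuotientGroup.quotientMulEquivOfEq hcen).trans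
      QuotientGroup.quotientBot)⟩⟩
    rcases hn' with rfl | rfl | rfl
    · exact Or.inl hq
    · exact Or.inr (Or.inl hq)
    · exact Or.inr (Or.inr hq)
  · exact Or.inr (Or.inl h)
  · exact Or.inr (Or.inr h)
  · exact (ree_normal_false M hJT hm hq hT fun H K _ _ hH hK h => hB H K hH hK h).elim

end Cfsg.Agent.SameOrderConj
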