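/-
Groups in which subgroups of the same order are conjugate: the quaternion case and the classification.

Main results (namespace `Cfsg.Agent.SameOrderConj`):
* `classification` : the list for `G/O(G)`
-/
import Cfsg.Agent.EqLemmas
import Cfsg.Prelude.Def_CaseTheorems
import Cfsg.Agent.Lib.SameOrderConj.Simple
import Cfsg.Agent.Lib.QGroup.SLCover
import Cfsg.Agent.S0106
import Cfsg.Agent.S0201
import Cfsg.Agent.S0253
import Cfsg.Agent.Lib.SolvBlockBound.Small
import Cfsg.Agent.Lib.PSL2.Facts

set_option autoImplicit false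
set_option linter.unusedSectionVars false
set_option linter.style.haveILetI false

namespace Cfsg.Agent.SameOrderConj

open Subgroup

universe u

variable {G : Type u} [Group G] [Finite G]

/-- Burnside: a core-free group with a cyclic Sylow 2-subgroup is a 2-group. -/
theorem isPGroup_of_cyclic (S : Sylow 2 G) (hc : IsCyclic (S : Subgroup G))
    (hO : Cfsg.oddCore G = ⊥) : IsPGroup 2 G := by
  haveI : Fact (Nat.Prime 2) := ⟨Nat.prime_two⟩
  by_cases h2 : 2 ∣ Nat.card G
  · have hp : (Nat.card G).minFac = 2 := (Nat.minFac_eq_two_iff _).2 h2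
    have hC := IsCyclic.isComplement' hp hc
    set φ := MonoidHom.transferSylow S (IsCyclic.normalizer_le_centralizer hp hc)
    have hodd : Odd (Nat.card φ.ker) := by
      rw [← hC.index_eq_card]
      exact Nat.not_even_iff_odd.1 fun h => S.not_dvd_index (even_iff_two_dvd.1 h)
    have hker : φ.ker = ⊥ := by
      rw [eq_bot_iff, ← hO]
      exact Cores.le_pPrimeCore inferInstance (Nat.coprime_two_right.2 hodd)
    exact S.isPGroup'.of_injective φ ((MonoidHom.ker_eq_bot_iff φ).1 hker)
  · refine IsPGroup.of_card (n := 0) ?_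
    have h := Cores.le_pPrimeCore (G := G) (p := 2) (N := ⊤) inferInstance
      (Nat.coprime_two_right.2 (by rw [card_top, ← Nat.not_even_iff_odd, even_iff_two_dvd]; exact h2))
    rw [show Cfsg.pPrimeCore 2 G = ⊥ from hO, top_le_iff] at h
    rw [pow_zero, ← card_top (G := G), ← h, card_bot]

theorem sylow_eq_top {p : ℕ} (S : Sylow p G) (hp : IsPGroup p G) : (S : Subgroup G) = ⊤ :=
  (S.is_maximal' (hp.to_subgroup ⊤) le_top).symm

section central

variable (hC : SubgroupConj G)
include hC

theorem eq_of_involution {z y : G} (hz : z ∈ center G) (hz2 : orderOf z = 2) (hy : orderOf y = 2) :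
    y = z := by
  obtain ⟨g, hg⟩ := hC (zpowers z) (zpowers y) (by rw [Nat.card_zpowers, Nat.card_zpowers, hz2, hy])
  have h := mem_zpowers y
  rw [hg, MonoidHom.map_zpowers] at h
  obtain ⟨k, hk⟩ := mem_zpowers_iff.1 h
  rw [show (MulAut.conj g).toMonoidHom z = z from by
    show g * z * g⁻¹ = z
    rw [mem_center_iff.1 hz g, mul_inv_cancel_right], ← zpow_mod_orderOf, hz2] at hk
  rcases Int.emod_two_eq k with h2 | h2 <;> norm_num [h2] at hk
  · exact absurd hk.symm (Involution.ne_one hy)
  · exact hk.symm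

end central

set_option maxHeartbeats 400000 in
/-- The quaternion case. -/
theorem quaternion_models (hC : SubgroupConj G) (S : Sylow 2 G)
    (e : (S : Subgroup G) ≃* QuaternionGroup 2) (hO : Cfsg.oddCore G = ⊥) :
    Nonempty (G ≃* Matrix.SpecialLinearGroup (Fin 2) (ZMod 3)) ∨
      Nonempty (G ≃* Matrix.SpecialLinearGroup (Fin 2) (ZMod 5)) := by
  classical
  haveI : Fact (Nat.Prime 2) := ⟨Nat.prime_two⟩
  have hS8 : Nat.card (S : Subgroup G) = 8 := by
    rw [Nat.card_congr e.toEquiv, Nat.card_eq_fintype_card, QuaternionGroup.card]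
  have hZ := S0201.result S 0 e fun N hN hodd => by
    rw [eq_bot_iff, ← hO]
    exact Cores.le_pPrimeCore hN (Nat.coprime_two_right.2 hodd)
  obtain ⟨⟨z, hzc⟩, hz⟩ := exists_prime_orderOf_dvd_card' (G := center G) 2 (by rw [hZ])
  rw [Subgroup.orderOf_mk] at hz
  set Z := center G
  set π := QuotientGroup.mk' Z
  have hπ : Function.Surjective π := QuotientGroup.mk'_surjective Z
  have hCb : SubgroupConj (G ⧸ Z) := hC.quotient Z
  have hOb : Cfsg.oddCore (G ⧸ Z) = ⊥ := by
    haveI hn : (Cfsg.oddCore (G ⧸ Z)).Normal := Cores.pPrimeCore_normal 2 _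
    set N := Cfsg.oddCore (G ⧸ Z) with hN
    set M := N.comap π
    have hMc : Nat.card M = Nat.card N * 2 := by
      rw [← Cores.card_map_mul_ker π M (by
        intro x hx; rw [mem_comap, MonoidHom.mem_ker.1 hx]; exact one_mem N),
        map_comap_eq_self_of_surjective hπ, QuotientGroup.ker_mk', hZ]
    have hNodd : Odd (Nat.card N) := Nat.coprime_two_right.1 (Cores.coprime_card_pPrimeCore (G := G ⧸ Z) 2)
    obtain ⟨P⟩ : Nonempty (Sylow 2 M) := inferInstance
    have hP : Nat.card (P : Subgroup M) = 2 := by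
      rw [P.card_eq_multiplicity, hMc, Nat.factorization_mul Nat.card_pos.ne' two_ne_zero,
        Finsupp.add_apply, Nat.factorization_eq_zero_of_not_dvd hNodd.not_two_dvd_nat, zero_add,
        Nat.prime_two.factorization_self, pow_one]
    haveI : Fact (Nat.card (P : Subgroup M)).Prime := ⟨by rw [hP]; exact Nat.prime_two⟩
    have hcyc : IsCyclic (P : Subgroup M) := isCyclic_of_prime_card hP
    have hOM : Cfsg.oddCore M = ⊥ := by
      have h := Cores.pPrimeCore_map_subtype M 2
      rw [show Cfsg.pPrimeCore 2 G = ⊥ from hO, bot_inf_eq, map_eq_bot_iff_of_injective _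
        M.subtype_injective] at h
      exact h
    obtain ⟨k, hk⟩ := IsPGroup.iff_card.1 (isPGroup_of_cyclic P hcyc hOM)
    rw [hMc] at hk
    refine eq_bot_of_card_eq _ ?_
    rcases k with _ | k
    · omega
    · rw [pow_succ] at hk
      have h1 := Nat.eq_of_mul_eq_mul_right two_pos hk
      rcases k with _ | k
      · simpa using h1
      · exact absurd (h1 ▸ dvd_pow_self 2 (Nat.succ_ne_zero k)) hNodd.not_two_dvd_nat
  let T : Sylow 2 (G ⧸ Z) := S.mapSurjective hπ
  have hZS : Z ≤ S := by
    intro x hx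
    have : IsPGroup 2 Z := IsPGroup.of_card (n := 1) (by rw [hZ, pow_one])
    exact this.le_sylow_of_normal S hx
  have hT4 : Nat.card (T : Subgroup (G ⧸ Z)) = 4 := by
    have h := Cores.card_map_mul_ker π (S : Subgroup G) (by rwa [QuotientGroup.ker_mk'])
    rw [QuotientGroup.ker_mk', hZ, hS8] at h
    show Nat.card ((S : Subgroup G).map π) = 4
    omega
  have hTsq : ∀ s ∈ (T : Subgroup (G ⧸ Z)), s * s = 1 := by
    rcases hCb.sylow_two_cases T with h | h | hf
    · exact h
    · exfalso
      obtain ⟨k, hk⟩ := IsPGroup.iff_card.1 (isPGroup_of_cyclic T h hOb)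
      have hT : (T : Subgroup (G ⧸ Z)) = ⊤ :=
        sylow_eq_top T (isPGroup_of_cyclic T h hOb)
      haveI : IsCyclic (G ⧸ Z) := isCyclic_of_surjective (T : Subgroup (G ⧸ Z)).subtype
        fun x => ⟨⟨x, hT ▸ mem_top x⟩, rfl⟩
      have hcomm := (MonoidHom.isMulCommutative_of_isCyclic_of_ker_le_center π
        (by rw [QuotientGroup.ker_mk'])).is_comm.comm
      have key : ∃ a b : QuaternionGroup 2, a * b ≠ b * a := by decide
      obtain ⟨a, b, hab⟩ := key
      refine hab (e.symm.injective (Subtype.ext ?_))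
      rw [map_mul, map_mul, Subgroup.coe_mul, Subgroup.coe_mul]
      exact hcomm _ _
    · obtain ⟨f⟩ := hf
      have := Nat.card_congr f.toEquiv
      rw [hT4, Nat.card_eq_fintype_card, QuaternionGroup.card] at this
      omega
  by_cases hsol : Group.IsSolvable (G ⧸ Z)
  · obtain ⟨e4⟩ := (solvable_models hCb.pConj T hTsq hOb hT4.ge hsol).resolve_right fun h => h.1 hT4
    have hG : Nat.card G = 24 := by
      rw [← card_mul_index Z, hZ, index_eq_card, Nat.card_congr e4.toEquiv, PSL2.card_alt_four]
    rcases S0106.result S 1 le_rfl ⟨e⟩ with ⟨P, K, hKn, hKc⟩ | ⟨H, K, hK, ⟨f⟩⟩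
    · exfalso
      have hc := hKc.card_mul
      have hP8 : Nat.card (P : Subgroup G) = 8 := by
        rw [← Sylow.card_eq_multiplicity S |>.trans (Sylow.card_eq_multiplicity P).symm, hS8]
      rw [hP8, hG] at hc
      have hK3 : Nat.card K = 3 := by omega
      have hK1 : K = ⊥ := by
        rw [eq_bot_iff, ← hO]
        exact Cores.le_pPrimeCore hKn (by rw [hK3]; norm_num)
      rw [hK1, card_bot] at hK3
      omega
    · left
      have h24 : Nat.card (Matrix.SpecialLinearGroup (Fin 2) (ZMod 3)) = 24 :=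
        SolvBlockBound.card_slTwoThree
      have hq := (K.subgroupOf H).card_mul_index
      rw [index_eq_card, Nat.card_congr f.toEquiv, h24] at hq
      have hH : Nat.card H ≤ 24 := hG ▸ card_le_card_group H
      have hK1 : K.subgroupOf H = ⊥ := by
        refine eq_bot_of_card_eq _ ?_
        have : 0 < Nat.card (K.subgroupOf H) := Nat.card_pos
        nlinarith
      have hHtop : H = ⊤ := by
        refine eq_top_of_card_eq _ ?_
        rw [hK1, card_bot, one_mul] at hq
        rw [← hq, hG]
      let q : G →* Matrix.SpecialLinearGroup (Fin 2) (ZMod 3) :=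
        (f.toMonoidHom.comp (QuotientGroup.mk' (K.subgroupOf H))).comp
          ((MulEquiv.subgroupCongr hHtop).symm.toMonoidHom.comp Subgroup.topEquiv.symm.toMonoidHom)
      have hqs : Function.Surjective q :=
        (f.surjective.comp (QuotientGroup.mk'_surjective _)).comp
          ((MulEquiv.subgroupCongr hHtop).symm.surjective.comp Subgroup.topEquiv.symm.surjective)
      exact ⟨MulEquiv.ofBijective q
        ((Nat.bijective_iff_surjective_and_card q).2 ⟨hqs, by rw [hG, h24]⟩)⟩
  · obtain ⟨e5⟩ := (nonsolvable_models hCb T hTsq hOb hsol).resolve_right fun h => h.1 hT4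
    haveI : Fact (Nat.Prime 5) := ⟨by norm_num⟩
    have h5 : Fintype.card (ZMod 5) = 5 := ZMod.card 5
    obtain ⟨eP⟩ := S0253.result (F := ZMod 5) h5
    let g : G ⧸ Z ≃* Matrix.ProjectiveSpecialLinearGroup (Fin 2) (ZMod 5) := e5.trans eP.symm
    let f := g.toMonoidHom.comp π
    have hfs : Function.Surjective f := g.surjective.comp hπ
    have hfk : f.ker = Z := by
      rw [MonoidHom.ker_comp_of_injective _ _ g.injective, QuotientGroup.ker_mk']
    haveI hperf : Group.IsPerfect G := by
      haveI := PSL2.isSimpleGroup_psl (L := ZMod 5) (by rw [Nat.card_eq_fintype_card, h5]; norm_num)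
      have hne := PSL2.not_comm_psl (L := ZMod 5) (by rw [Nat.card_eq_fintype_card, h5]; norm_num)
      set D := commutator G
      have hD : D.map f = ⊤ := by
        haveI : (D.map f).Normal := Subgroup.Normal.map inferInstance f hfs
        refine ((inferInstance : (D.map f).Normal).eq_bot_or_eq_top).resolve_left fun h => hne ?_
        intro a b
        obtain ⟨a, rfl⟩ := hfs a
        obtain ⟨b, rfl⟩ := hfs b
        have hc : a * b * a⁻¹ * b⁻¹ ∈ D := commutator_mem_commutator (mem_top a) (mem_top b)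
        have h1 : f (a * b * a⁻¹ * b⁻¹) = 1 := by
          rw [← mem_bot, ← h]; exact mem_map_of_mem f hc
        rw [map_mul, map_mul, map_mul, map_inv, map_inv, mul_inv_eq_one, mul_inv_eq_iff_eq_mul] at h1
        exact h1
      have hsup : D ⊔ Z = ⊤ := by
        rw [← hfk, ← comap_map_eq, hD, comap_top]
      have hev : 2 ∣ Nat.card D := by
        have h2 : 2 ∣ Nat.card (D.map f) := by
          rw [hD, card_top, ← Nat.card_congr g.toEquiv]
          exact (show 2 ∣ Nat.card (T : Subgroup (G ⧸ Z)) by rw [hT4]; norm_num).trans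
            (card_subgroup_dvd_card _)
        exact h2.trans (card_map_dvd _ f)
      obtain ⟨y, hy⟩ := exists_prime_orderOf_dvd_card' (G := D) 2 hev
      have hyz : (y : G) = z := eq_of_involution hC hzc hz (by rw [orderOf_coe, hy])
      have hZD : Z ≤ D := by
        have hZz : zpowers z = Z := Subgroup.eq_of_le_of_card_ge (zpowers_le.2 hzc)
          (by rw [hZ, Nat.card_zpowers, hz])
        rw [← hZz, zpowers_le, ← hyz]
        exact y.2
      rw [sup_eq_left.2 hZD] at hsup
      exact ⟨hsup⟩
    obtain ⟨eX⟩ := QGroup.sl_two_of_double_cover (F := ZMod 5)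
      (by rw [h5]; decide) (by rw [h5]; norm_num) f hfs (by rw [hfk]) (by rw [hfk, hZ])
    exact Or.inr ⟨eX⟩

/-- The classification of the groups in which subgroups of equal order are conjugate. -/
theorem classification (hC : SubgroupConj G) (hO : Cfsg.oddCore G = ⊥) :
    (IsCyclic G ∧ IsPGroup 2 G) ∨
    Nonempty (G ≃* Cfsg.affineGroup (GaloisField 2 3)) ∨
    Nonempty (G ≃* Cfsg.semiaffineGroup (GaloisField 2 3)) ∨
    Nonempty (G ≃* Cfsg.semiaffineGroup (GaloisField 2 5)) ∨
    Nonempty (G ≃* Matrix.ProjectiveSpecialLinearGroup (Fin 2) (GaloisField 2 3)) ∨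
    Nonempty (G ≃* MulAut (Matrix.ProjectiveSpecialLinearGroup (Fin 2) (GaloisField 2 5))) ∨
    Nonempty (G ≃* alternatingGroup (Fin 4)) ∨
    Nonempty (G ≃* alternatingGroup (Fin 5)) ∨
    Nonempty (G ≃* Matrix.SpecialLinearGroup (Fin 2) (ZMod 3)) ∨
    Nonempty (G ≃* Matrix.SpecialLinearGroup (Fin 2) (ZMod 5)) := by
  haveI : Fact (Nat.Prime 2) := ⟨Nat.prime_two⟩
  obtain ⟨S⟩ : Nonempty (Sylow 2 G) := inferInstance
  have hcyc : IsCyclic (S : Subgroup G) → IsCyclic G ∧ IsPGroup 2 G := fun hc => by
    have hp := isPGroup_of_cyclic S hc hO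
    have hT : (S : Subgroup G) = ⊤ := sylow_eq_top S hp
    exact ⟨isCyclic_of_surjective (S : Subgroup G).subtype fun x => ⟨⟨x, hT ▸ mem_top x⟩, rfl⟩, hp⟩
  rcases hC.sylow_two_cases S with hS | hc | he
  · by_cases h4 : 4 ≤ Nat.card (S : Subgroup G)
    · by_cases hsol : Group.IsSolvable G
      · rcases solvable_models hC.pConj S hS hO h4 hsol with h | ⟨-, h | h | h⟩
        · exact Or.inr (Or.inr (Or.inr (Or.inr (Or.inr (Or.inr (Or.inl h))))))
        · exact Or.inr (Or.inl h)
        · exact Or.inr (Or.inr (Or.inl h))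
        · exact Or.inr (Or.inr (Or.inr (Or.inl h)))
      · rcases nonsolvable_models hC S hS hO hsol with h | ⟨-, h | h⟩
        · exact Or.inr (Or.inr (Or.inr (Or.inr (Or.inr (Or.inr (Or.inr (Or.inl h)))))))
        · exact Or.inr (Or.inr (Or.inr (Or.inr (Or.inl h))))
        · exact Or.inr (Or.inr (Or.inr (Or.inr (Or.inr (Or.inl h)))))
    · obtain ⟨k, hk⟩ := IsPGroup.iff_card.1 S.isPGroup'
      refine Or.inl (hcyc ?_)
      rcases k with _ | _ | k
      · rw [pow_zero] at hk
        haveI := (Nat.card_eq_one_iff_unique.1 hk).1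
        exact isCyclic_of_subsingleton
      · exact isCyclic_of_prime_card (p := 2) (by rw [hk, pow_one])
      · exfalso
        have : 4 ≤ 2 ^ (k + 1 + 1) := le_trans (by norm_num : 4 ≤ 2 ^ 2)
          (Nat.pow_le_pow_right (by norm_num) (by omega))
        omega
  · exact Or.inl (hcyc hc)
  · obtain ⟨e⟩ := he
    rcases quaternion_models hC S e hO with h | h
    · exact Or.inr (Or.inr (Or.inr (Or.inr (Or.inr (Or.inr (Or.inr (Or.inr (Or.inl h))))))))
    · exact Or.inr (Or.inr (Or.inr (Or.inr (Or.inr (Or.inr (Or.inr (Or.inr (Or.inr h))))))))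

end Cfsg.Agent.SameOrderConj
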