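/-
Core-free groups with conjugate equal-order prime-power subgroups and elementary abelian Sylow
2-subgroups, modulo the list of simple groups with such Sylow subgroups.

Main results (namespace `Cfsg.Agent.SameOrderConj`):
* `exists_simple_normal`
* `elementary_models`
-/
import Cfsg.Agent.EqLemmas
import Cfsg.Prelude.Def_CaseTheorems
import Cfsg.Prelude.Def_Sporadic
import Cfsg.Agent.Lib.SameOrderConj.Shape
import Cfsg.Agent.Lib.Linear.PSLTwoSmall
import Cfsg.Agent.S0252
import Cfsg.Agent.S0253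

set_option autoImplicit false
set_option linter.unusedSectionVars false
set_option linter.style.haveILetI false

namespace Cfsg.Agent.SameOrderConj

open Subgroup

universe u

variable {G : Type u} [Group G] [Finite G]

theorem pCore_two_eq_bot (hD : PSubgroupConj G) (S : Sylow 2 G)
    (hS : ∀ s ∈ (S : Subgroup G), s * s = 1) (hns : ¬ Group.IsSolvable G) :
    Cfsg.pCore 2 G = ⊥ := by
  haveI : Fact (Nat.Prime 2) := ⟨Nat.prime_two⟩
  by_contra hne
  haveI := Cores.pCore_normal 2 G
  haveI : Nontrivial (Cfsg.pCore 2 G) := (nontrivial_iff_ne_bot _).2 hne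
  obtain ⟨x, hx⟩ := exists_prime_orderOf_dvd_card' (G := Cfsg.pCore 2 G) 2
    (Isolated.prime_dvd_card (Cores.isPGroup_pCore 2 G))
  have hle : (S : Subgroup G) ≤ Cfsg.pCore 2 G := fun s hs => by
    rcases eq_or_ne s 1 with rfl | hs1
    · exact one_mem _
    exact hD.le_of_normal Nat.prime_two (by rw [orderOf_coe, hx]) x.2
      (Involution.orderOf_of_sq (hS s hs) hs1)
  have heq : Cfsg.pCore 2 G = (S : Subgroup G) := le_antisymm (Cores.pCore_le_sylow S) hle
  haveI : (S : Subgroup G).Normal := heq ▸ Cores.pCore_normal 2 G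
  haveI : Group.IsSolvable (G ⧸ (S : Subgroup G)) :=
    OddOrderTheorem.oddSolvable (G ⧸ (S : Subgroup G)) (by
      rw [← Subgroup.index_eq_card]
      exact Nat.not_even_iff_odd.1 fun h => S.not_dvd_index (even_iff_two_dvd.1 h))
  haveI : Group.IsSolvable (S : Subgroup G) := by
    letI : CommGroup (S : Subgroup G) :=
      { (inferInstance : Group (S : Subgroup G)) with
        mul_comm := fun a b => Subtype.ext (commute_of_sq hS a.2 b.2) }
    infer_instance
  exact hns (Group.isSolvable_of_ker_le_range (S : Subgroup G).subtype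
    (QuotientGroup.mk' (S : Subgroup G)) (by simp))

theorem exists_simple_normal (hD : PSubgroupConj G) (hO : Cfsg.oddCore G = ⊥) (S : Sylow 2 G)
    (hS : ∀ s ∈ (S : Subgroup G), s * s = 1) (hns : ¬ Group.IsSolvable G) :
    ∃ L : Subgroup G, L.Normal ∧ IsSimpleGroup L ∧ ¬ IsMulCommutative L ∧
      centralizer (L : Set G) = ⊥ ∧ (S : Subgroup G) ≤ L ∧ Odd L.index := by
  classical
  haveI : Fact (Nat.Prime 2) := ⟨Nat.prime_two⟩
  have hO2 := pCore_two_eq_bot hD S hS hns
  haveI : Nontrivial G := by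
    by_contra h
    rw [not_nontrivial_iff_subsingleton] at h
    exact hns inferInstance
  obtain ⟨N, ⟨hN1, hNn⟩, hNmin⟩ := Set.Finite.exists_minimal (α := Subgroup G)
    (s := {N | N ≠ ⊥ ∧ N.Normal}) (Set.toFinite _) ⟨⊤, top_ne_bot, inferInstance⟩
  haveI := hNn
  set 𝒯 := {T : Subgroup G | T ≠ ⊥ ∧ T ≤ N ∧ N ≤ normalizer (T : Set G)}
  obtain ⟨T, hT, hTmin⟩ := Set.Finite.exists_minimal (s := 𝒯) (Set.toFinite _)
    ⟨N, hN1, le_rfl, le_normalizer⟩
  obtain ⟨hT1, hTN, hTn⟩ := hT
  have hOdd : ∀ (M : Subgroup G) [M.Normal], Cfsg.oddCore M = ⊥ := by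
    intro M _
    have h := Cores.pPrimeCore_map_subtype M 2
    rw [show Cfsg.pPrimeCore 2 G = ⊥ from hO, bot_inf_eq, map_eq_bot_iff_of_injective _
      M.subtype_injective] at h
    exact h
  have hTnorm : (T.subgroupOf N).Normal := normal_subgroupOf_iff_le_normalizer hTN |>.2 hTn
  -- `T` has even order and is not commutative
  obtain ⟨a, haT, ha⟩ : ∃ a ∈ T, orderOf a = 2 := by
    by_contra hno
    push Not at hno
    have h2 : ¬ 2 ∣ Nat.card T := fun h => by
      obtain ⟨a, ha⟩ := exists_prime_orderOf_dvd_card' (G := T) 2 h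
      exact hno a a.2 (by rw [orderOf_coe, ha])
    have hle := Cores.le_pPrimeCore (p := 2) hTnorm (Nat.coprime_two_right.2 (by
      rw [Nat.card_congr (subgroupOfEquivOfLe hTN).toEquiv, ← Nat.not_even_iff_odd, even_iff_two_dvd]
      exact h2))
    rw [show Cfsg.pPrimeCore 2 N = ⊥ from hOdd N, le_bot_iff, subgroupOf_eq_bot] at hle
    exact hT1 (disjoint_self.1 (hle.mono_right hTN))
  have hncomm : ¬ ∀ x ∈ T, ∀ y ∈ T, x * y = y * x := by
    intro hab
    let W : Subgroup G :=
      { carrier := {x | x ∈ T ∧ x * x = 1}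
        one_mem' := ⟨one_mem _, one_mul 1⟩
        mul_mem' := fun {x y} hx hy => ⟨mul_mem hx.1 hy.1, by
          rw [mul_assoc, ← mul_assoc y, hab y hy.1 x hx.1, mul_assoc x y, hy.2, mul_one, hx.2]⟩
        inv_mem' := fun {x} hx => ⟨inv_mem hx.1, by rw [← mul_inv_rev, hx.2, inv_one]⟩ }
    have haW : a ∈ W := ⟨haT, Involution.mul_self ha⟩
    have hW : W ∈ 𝒯 := by
      refine ⟨fun h => Involution.ne_one ha (by rw [← mem_bot, ← h]; exact haW),
        fun x hx => hTN hx.1, fun n hn => mem_normalizer_fintype ?_⟩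
      rintro x ⟨hx, hx2⟩
      refine ⟨(mem_normalizer_iff.1 (hTn hn) x).1 hx, ?_⟩
      calc n * x * n⁻¹ * (n * x * n⁻¹) = n * (x * x) * n⁻¹ := by group
        _ = 1 := by rw [hx2, mul_one, mul_inv_cancel]
    have hTW : T ≤ W := hTmin hW fun x hx => hx.1
    have hp : IsPGroup 2 (T.subgroupOf N) := by
      intro x
      refine ⟨1, Subtype.ext (Subtype.ext ?_)⟩
      show ((x : N) : G) ^ 2 ^ 1 = 1
      rw [pow_one, pow_two]
      exact (hTW x.2).2
    have hle := Cores.le_pCore hTnorm hp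
    have h0 : Cfsg.pCore 2 N = ⊥ := by
      have h := Cores.pCore_map_subtype N 2
      rwa [hO2, bot_inf_eq, map_eq_bot_iff_of_injective _ N.subtype_injective] at h
    rw [h0, le_bot_iff, subgroupOf_eq_bot] at hle
    exact hT1 (disjoint_self.1 (hle.mono_right hTN))
  -- the conjugates of `T`
  have hconjP : ∀ g : G, T.map (MulAut.conj g).toMonoidHom ∈ 𝒯 := by
    intro g
    refine ⟨fun h => hT1 ((map_eq_bot_iff_of_injective _ (MulAut.conj g).injective).1 h), ?_, ?_⟩
    · rintro _ ⟨x, hx, rfl⟩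
      exact hNn.conj_mem x (hTN hx) g
    · intro n hn
      refine mem_normalizer_fintype ?_
      rintro _ ⟨x, hx, rfl⟩
      refine ⟨(g⁻¹ * n * g) * x * (g⁻¹ * n * g)⁻¹,
        (mem_normalizer_iff.1 (hTn (by simpa using hNn.conj_mem n hn g⁻¹)) x).1 hx, ?_⟩
      show g * (g⁻¹ * n * g * x * (g⁻¹ * n * g)⁻¹) * g⁻¹ = n * (g * x * g⁻¹) * n⁻¹
      group
  have hdisj : ∀ U ∈ 𝒯, ¬ T ≤ U → ∀ x ∈ T, ∀ y ∈ U, x * y = y * x ∧ (y ∈ T → y = 1) := by
    intro U hU hTU x hx y hy
    have hbot : T ⊓ U = ⊥ := by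
      by_contra h
      exact hTU ((hTmin ⟨h, inf_le_left.trans hTN, fun n hn => mem_normalizer_fintype fun z hz =>
        ⟨(mem_normalizer_iff.1 (hTn hn) z).1 hz.1, (mem_normalizer_iff.1 (hU.2.2 hn) z).1 hz.2⟩⟩
        inf_le_left).trans inf_le_right)
    refine ⟨?_, fun hyT => ?_⟩
    · have h1 : x * y * x⁻¹ * y⁻¹ ∈ T ⊓ U := by
        refine ⟨?_, ?_⟩
        · have : y * x⁻¹ * y⁻¹ ∈ T :=
            (mem_normalizer_iff.1 (hTn (hU.2.1 hy)) x⁻¹).1 (inv_mem hx)
          rw [show x * y * x⁻¹ * y⁻¹ = x * (y * x⁻¹ * y⁻¹) by group]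
          exact T.mul_mem hx this
        · have : x * y * x⁻¹ ∈ U := (mem_normalizer_iff.1 (hU.2.2 (hTN hx)) y).1 hy
          exact U.mul_mem this (U.inv_mem hy)
      rw [hbot, mem_bot, mul_inv_eq_one, mul_inv_eq_iff_eq_mul] at h1
      exact h1
    · rw [← mem_bot, ← hbot]
      exact ⟨hyT, hy⟩
  have hcover : ∀ y : G, orderOf y = 2 → ∃ g : G, y ∈ T.map (MulAut.conj g).toMonoidHom := by
    intro y hy
    obtain ⟨g, hg⟩ := hD.primeConj 2 Nat.prime_two (zpowers a) (zpowers y)
      (by rw [Nat.card_zpowers, ha]) (by rw [Nat.card_zpowers, hy])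
    refine ⟨g, ?_⟩
    have h := mem_zpowers y
    rw [hg] at h
    exact map_mono (zpowers_le.2 haT) h
  have hTeq : ∀ g : G, T ≤ T.map (MulAut.conj g).toMonoidHom := by
    intro g
    by_contra hne
    set b := g * a * g⁻¹
    have hbU : b ∈ T.map (MulAut.conj g).toMonoidHom := ⟨a, haT, rfl⟩
    have hb : orderOf b = 2 := by rw [Involution.orderOf_conj, ha]
    obtain ⟨hab, hbT⟩ := hdisj _ (hconjP g) hne a haT b hbU
    have hbnT : b ∉ T := fun h => Involution.ne_one hb (hbT h)
    have hab2 : orderOf (a * b) = 2 := by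
      refine Involution.orderOf_of_sq ?_ fun h => ?_
      · rw [mul_assoc, ← mul_assoc b, ← hab, mul_assoc a b, Involution.mul_self hb, mul_one,
          Involution.mul_self ha]
      · rw [eq_inv_of_mul_eq_one_right h, Involution.inv_eq ha] at hbnT
        exact hbnT haT
    obtain ⟨k, hk⟩ := hcover (a * b) hab2
    by_cases hTk : T ≤ T.map (MulAut.conj k).toMonoidHom
    · have hTk' : T = T.map (MulAut.conj k).toMonoidHom := Subgroup.eq_of_le_of_card_ge hTk
        (Nat.card_congr (T.equivMapOfInjective _ (MulAut.conj k).injective).toEquiv).symm.le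
      rw [← hTk', mul_mem_cancel_left haT] at hk
      exact hbnT hk
    · have hcent : ∀ x ∈ T, a * x = x * a := by
        intro x hx
        have h1 := (hdisj _ (hconjP g) hne x hx b hbU).1
        have h2 := (hdisj _ (hconjP k) hTk x hx (a * b) hk).1
        refine mul_right_cancel (b := b) ?_
        calc a * x * b = a * (x * b) := mul_assoc _ _ _
          _ = a * b * x := by rw [h1, ← mul_assoc]
          _ = x * (a * b) := h2.symm
          _ = x * a * b := (mul_assoc _ _ _).symm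
      have hZ : T ⊓ centralizer (T : Set G) ∈ 𝒯 := by
        refine ⟨fun h => Involution.ne_one ha (by
          rw [← mem_bot, ← h]
          exact ⟨haT, mem_centralizer_iff.2 fun x hx => (hcent x hx).symm⟩),
          inf_le_left.trans hTN, fun n hn => mem_normalizer_fintype ?_⟩
        rintro z ⟨hzT, hz⟩
        refine ⟨(mem_normalizer_iff.1 (hTn hn) z).1 hzT, mem_centralizer_iff.2 fun x hx => ?_⟩
        have hx' : n⁻¹ * x * n ∈ T := (mem_normalizer_iff''.1 (hTn hn) x).1 hx
        have h := mem_centralizer_iff.1 hz _ hx'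
        calc x * (n * z * n⁻¹) = n * (n⁻¹ * x * n * z) * n⁻¹ := by group
          _ = n * (z * (n⁻¹ * x * n)) * n⁻¹ := by rw [h]
          _ = n * z * n⁻¹ * x := by group
      refine hncomm fun x hx y hy => ?_
      exact (mem_centralizer_iff.1 (hTmin hZ inf_le_left hy).2 x hx)
  haveI hTnG : T.Normal := ⟨fun x hx g => by
    obtain ⟨y, hy, hyx⟩ := hTeq g⁻¹ hx
    have : y = g * x * g⁻¹ := by
      rw [← show g⁻¹ * y * g⁻¹⁻¹ = x from hyx]
      group
    exact this ▸ hy⟩
  obtain rfl : T = N := le_antisymm hTN (hNmin ⟨hT1, hTnG⟩ hTN)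
  have hsimple : IsSimpleGroup T := by
    haveI : Nontrivial T := (nontrivial_iff_ne_bot _).2 hT1
    refine ⟨fun K hK => ?_⟩
    by_cases hK1 : K = ⊥
    · exact Or.inl hK1
    right
    have hKP : K.map T.subtype ∈ 𝒯 := by
      refine ⟨fun h => hK1 ((map_eq_bot_iff_of_injective _ T.subtype_injective).1 h),
        map_subtype_le _, fun n hn => mem_normalizer_fintype ?_⟩
      rintro _ ⟨k, hk, rfl⟩
      exact ⟨⟨n, hn⟩ * k * ⟨n, hn⟩⁻¹, hK.conj_mem k hk _, rfl⟩
    refine eq_top_iff.2 fun x _ => ?_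
    obtain ⟨y, hy, hyx⟩ := hTmin hKP (map_subtype_le _) x.2
    exact (Subtype.ext hyx : y = x) ▸ hy
  have hna : ¬ IsMulCommutative T := fun h => hncomm fun x hx y hy =>
    congrArg Subtype.val (h.1.comm ⟨x, hx⟩ ⟨y, hy⟩)
  have hinv : ∀ y : G, orderOf y = 2 → y ∈ T := fun y hy =>
    hD.le_of_normal Nat.prime_two ha haT hy
  refine ⟨T, hTnG, hsimple, hna, ?_, fun s hs => ?_, ?_⟩
  · set C := centralizer (T : Set G)
    have hCT : ∀ x, x ∈ C → x ∈ T → x = 1 := by
      intro x hxC hxT
      rcases (inferInstance : (C.subgroupOf T).Normal).eq_bot_or_eq_top with h | h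
      · have : (⟨x, hxT⟩ : T) ∈ C.subgroupOf T := hxC
        rw [h, mem_bot] at this
        exact congrArg Subtype.val this
      · exact absurd (fun u hu v hv =>
          mem_centralizer_iff.1 (subgroupOf_eq_top.1 h hv) u hu) hncomm
    have h2 : ¬ 2 ∣ Nat.card C := fun h => by
      obtain ⟨y, hy⟩ := exists_prime_orderOf_dvd_card' (G := C) 2 h
      have hy' : orderOf (y : G) = 2 := by rw [orderOf_coe, hy]
      exact Involution.ne_one hy' (hCT y y.2 (hinv _ hy'))
    rw [eq_bot_iff, ← hO]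
    exact Cores.le_pPrimeCore inferInstance
      (Nat.coprime_two_right.2 (Nat.not_even_iff_odd.1 fun h => h2 (even_iff_two_dvd.1 h)))
  · rcases eq_or_ne s 1 with rfl | hs1
    · exact one_mem _
    exact hinv s (Involution.orderOf_of_sq (hS s hs) hs1)
  · refine Nat.not_even_iff_odd.1 fun h => S.not_dvd_index ((even_iff_two_dvd.1 h).trans
      (index_dvd_of_le fun s hs => ?_))
    rcases eq_or_ne s 1 with rfl | hs1
    · exact one_mem _
    exact hinv s (Involution.orderOf_of_sq (hS s hs) hs1)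

/-- The groups `PSL₂(p)` and `PSL₂(p³)`, `p ≡ ±3 (mod 8)`. -/
def IsOddPSL (G : Type u) [Group G] : Prop :=
  ∃ (p : ℕ) (_ : Fact p.Prime), (p % 8 = 3 ∨ p % 8 = 5) ∧
    (Nonempty (G ≃* Matrix.ProjectiveSpecialLinearGroup (Fin 2) (ZMod p)) ∨
      Nonempty (G ≃* Matrix.ProjectiveSpecialLinearGroup (Fin 2) (GaloisField p 3)))

theorem isOddPSL_of_equiv {F : Type} [Field F] [Finite F] (e : G ≃* PSL2.PSL2 F) {p f : ℕ}
    [Fact p.Prime] (hf : f = 1 ∨ f = 3) (hF : Nat.card F = p ^ f)
    (h8 : Nat.card F % 8 = 3 ∨ Nat.card F % 8 = 5) : IsOddPSL G := by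
  haveI := Fintype.ofFinite F
  refine ⟨p, inferInstance, ?_, ?_⟩
  · rw [hF] at h8
    rcases hf with rfl | rfl
    · rwa [pow_one] at h8
    · rw [Nat.pow_mod] at h8
      have := Nat.mod_lt p (by norm_num : 8 > 0)
      interval_cases p % 8 <;> simp_all
  · rcases hf with rfl | rfl
    · obtain ⟨e'⟩ := SmallOrders.Order5616.nonempty_pslCongr (n := Fin 2)
        (FiniteField.ringEquivOfCardEq (K := F) (K' := ZMod p) (by
          rw [ZMod.card, ← Nat.card_eq_fintype_card, hF, pow_one]))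
      exact Or.inl ⟨e.trans e'⟩
    · haveI : Fintype (GaloisField p 3) := Fintype.ofFinite _
      obtain ⟨e'⟩ := SmallOrders.Order5616.nonempty_pslCongr (n := Fin 2)
        (FiniteField.ringEquivOfCardEq (K := F) (K' := GaloisField p 3) (by
          rw [← Nat.card_eq_fintype_card, ← Nat.card_eq_fintype_card, hF,
            GaloisField.card p 3 (by norm_num)]))
      exact Or.inr ⟨e.trans e'⟩

set_option maxHeartbeats 400000 in
/-- The core-free groups with elementary abelian Sylow 2-subgroups of order at least four. -/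
theorem elementary_models (hshape : SimpleShape.{u}) (hD : PSubgroupConj G)
    (hO : Cfsg.oddCore G = ⊥) (S : Sylow 2 G) (hS : ∀ s ∈ (S : Subgroup G), s * s = 1)
    (h4 : 4 ≤ Nat.card (S : Subgroup G)) :
    IsOddPSL G ∨ Nat.card (S : Subgroup G) ≠ 4 ∧
      (Nonempty (G ≃* affineGroup (GaloisField 2 3)) ∨
      Nonempty (G ≃* semiaffineGroup (GaloisField 2 3)) ∨
      Nonempty (G ≃* semiaffineGroup (GaloisField 2 5)) ∨
      Cfsg.IsJ1 G ∨
      Nonempty (G ≃* Matrix.ProjectiveSpecialLinearGroup (Fin 2) (GaloisField 2 3)) ∨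
      Nonempty (G ≃* MulAut (Matrix.ProjectiveSpecialLinearGroup (Fin 2) (GaloisField 2 5)))) := by
  classical
  haveI : Fact (Nat.Prime 2) := ⟨Nat.prime_two⟩
  by_cases hsol : Group.IsSolvable G
  · rcases solvable_models hD S hS hO h4 hsol with he | ⟨h, h1 | h1 | h1⟩
    · obtain ⟨e⟩ := he
      obtain ⟨e3⟩ := Linear.nonempty_pslTwo_three (F := ZMod 3) (Nat.card_zmod 3)
      exact Or.inl ⟨3, ⟨Nat.prime_three⟩, Or.inl rfl, Or.inl ⟨e.trans e3.symm⟩⟩
    · exact Or.inr ⟨h, Or.inl h1⟩
    · exact Or.inr ⟨h, Or.inr (Or.inl h1)⟩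
    · exact Or.inr ⟨h, Or.inr (Or.inr (Or.inl h1))⟩
  obtain ⟨L, hLn, hLs, hLna, hCL, hSL, hi⟩ := exists_simple_normal hD hO S hS hsol
  haveI := hLn
  haveI := hLs
  have hsup : (L ⊔ centralizer (L : Set G)).index = L.index := by rw [hCL, sup_bot_eq]
  have hsylow : ∀ P : Sylow 2 L, ∀ x ∈ (P : Subgroup L), x * x = 1 := by
    intro P x hx
    obtain ⟨Q, hQ⟩ := ((P.isPGroup').map L.subtype).exists_le_sylow
    obtain ⟨g, hg⟩ := MulAction.exists_smul_eq G Q S
    have hy : g * (x : G) * g⁻¹ ∈ S := by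
      rw [← hg]
      exact ⟨(x : G), hQ ⟨x, hx, rfl⟩, rfl⟩
    refine Subtype.ext ?_
    show (x : G) * x = 1
    calc (x : G) * x = g⁻¹ * (g * x * g⁻¹ * (g * x * g⁻¹)) * g := by group
      _ = 1 := by rw [hS _ hy, mul_one, inv_mul_cancel]
  have hScard : ∀ P : Sylow 2 L, Nat.card (P : Subgroup L) = Nat.card (S : Subgroup G) := fun P => by
    rw [P.card_eq_multiplicity, ← (S.subtype hSL).card_eq_multiplicity, Sylow.coe_subtype,
      Nat.card_congr (subgroupOfEquivOfLe hSL).toEquiv]
  have hfus : ∀ p : ℕ, p.Prime → ∀ W W' : Subgroup G, W ≤ L → W' ≤ L → Nat.card W = p ^ 2 →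
      Nat.card W' = p ^ 2 → ∃ g : G, W' = W.map (MulAut.conj g).toMonoidHom := by
    intro p hp W W' _ _ hW hW'
    haveI := Fact.mk hp
    exact hD p hp W W' (IsPGroup.of_card hW) (IsPGroup.of_card hW') (hW.trans hW'.symm)
  have htop : L.index = 1 → L = ⊤ := index_eq_one.1
  have eG : L = ⊤ → (G ≃* L) := fun h =>
    (Subgroup.topEquiv.symm.trans (MulEquiv.subgroupCongr h.symm))
  rcases hshape L hLs hLna hsylow with ⟨F, iF, iFt, n, hn, hq, ⟨e⟩⟩ | ⟨F, iF, iFt, hq5, hq8, ⟨e⟩⟩ |
    hJ | ⟨t, F, iF, iFt, hJT, m, hm, hq, hT⟩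
  · rw [← Nat.card_eq_fintype_card] at hq
    obtain ⟨hb, hrn⟩ := even_bound L e hn hq (hfus 2 Nat.prime_two)
    rw [hsup] at hb hrn
    have hFc : Nat.card F = 2 ^ n := hq
    have h4F : 4 ≤ Nat.card F := hFc ▸ Nat.pow_le_pow_right (by norm_num : 0 < 2) hn
    have hn5 : n ≤ 5 := two_pow_sub_two_le ((Nat.le_of_dvd (Nat.mul_pos (by norm_num) hi.pos) hb).trans
      (Nat.mul_le_mul_left 6 (Nat.le_of_dvd (by omega) hrn)))
    obtain ⟨P, hPc, -⟩ := sylow_facts_of_equiv e (p := 2) (f := n) (by omega) hq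
    rw [hScard P, hq] at hPc
    have hcase : (n = 2 ∧ L.index = 1) ∨ (n = 3 ∧ L.index = 1) ∨ (n = 3 ∧ L.index = 3) ∨
        (n = 5 ∧ L.index = 5) := by
      have hrle : L.index ≤ n := Nat.le_of_dvd (by omega) hrn
      rcases hi with ⟨k, hk⟩
      rw [hk] at hb hrle hrn ⊢
      have : k ≤ 2 := by omega
      interval_cases n <;> interval_cases k <;> simp_all
    rcases hcase with ⟨rfl, h1⟩ | ⟨rfl, h1⟩ | ⟨rfl, h3⟩ | ⟨rfl, h5⟩
    · haveI : Fact (Nat.Prime 5) := ⟨by norm_num⟩
      obtain ⟨e4⟩ := S0252.result (F := F) (by rw [← Nat.card_eq_fintype_card, hq]; norm_num)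
      obtain ⟨e5⟩ := S0253.result (F := ZMod 5) (ZMod.card 5)
      exact Or.inl ⟨5, inferInstance, Or.inr rfl, Or.inl ⟨((eG (htop h1)).trans (e.trans e4)).trans
        e5.symm⟩⟩
    · haveI : Fintype (GaloisField 2 3) := Fintype.ofFinite _
      obtain ⟨e8⟩ := SmallOrders.Order5616.nonempty_pslCongr (n := Fin 2)
        (FiniteField.ringEquivOfCardEq (K := F) (K' := GaloisField 2 3) (by
          rw [← Nat.card_eq_fintype_card, ← Nat.card_eq_fintype_card, hq,
            GaloisField.card 2 3 (by norm_num)]))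
      exact Or.inr ⟨by rw [hPc]; norm_num, Or.inr (Or.inr (Or.inr (Or.inr (Or.inl
        ⟨(eG (htop h1)).trans (e.trans e8)⟩))))⟩
    · exact (field_aut_false L hD hCL e h4F hq h3).elim
    · haveI : Fintype (GaloisField 2 5) := Fintype.ofFinite _
      obtain ⟨e32⟩ := SmallOrders.Order5616.nonempty_pslCongr (n := Fin 2)
        (FiniteField.ringEquivOfCardEq (K := F) (K' := GaloisField 2 5) (by
          rw [← Nat.card_eq_fintype_card, ← Nat.card_eq_fintype_card, hq,
            GaloisField.card 2 5 (by norm_num)]))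
      let c : G →* MulAut (PSL2.PSL2 F) := (MulAut.congr e).toMonoidHom.comp MulAut.conjNormal
      have hc : Function.Injective c := (MulAut.congr e).injective.comp (by
        rw [← MonoidHom.ker_eq_bot_iff, eq_bot_iff, ← hCL]
        intro g hg
        refine mem_centralizer_iff.2 fun l hl => ?_
        have h1 := congrArg Subtype.val (DFunLike.congr_fun (MonoidHom.mem_ker.1 hg) (⟨l, hl⟩ : L))
        rw [MulAut.conjNormal_apply] at h1
        change g * l * g⁻¹ = l at h1
        exact (mul_inv_eq_iff_eq_mul.1 h1).symm)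
      have hbij : Function.Bijective c := (Nat.bijective_iff_injective_and_card _).2 ⟨hc, by
        rw [card_mulAut_psl (F := F) (p := 2) (f := 5) (by norm_num) hq, ← L.index_mul_card, h5,
          Nat.card_congr e.toEquiv]
        have h := PSL2.card_psl_mul (F := F)
        rw [hq] at h ⊢
        norm_num at h ⊢
        omega⟩
      exact Or.inr ⟨by rw [hPc]; norm_num, Or.inr (Or.inr (Or.inr (Or.inr (Or.inr
        ⟨(MulEquiv.ofBijective c hbij).trans (MulAut.congr e32)⟩))))⟩
  · left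
    obtain ⟨p, hp⟩ := CharP.exists F
    obtain ⟨⟨f, hf0⟩, hpp, hFp⟩ := FiniteField.card F p
    haveI := Fact.mk hpp
    simp only [PNat.mk_coe] at hFp
    rw [← Nat.card_eq_fintype_card] at hq5 hq8 hFp
    have hg2 : Nat.gcd 2 (Nat.card F - 1) = 2 := Nat.gcd_eq_left (by omega)
    have hr := index_dvd_psl L e (by omega) hf0 hFp
    rw [hsup, hg2] at hr
    have hrf : L.index ∣ f :=
      (Nat.Coprime.dvd_mul_left (Nat.coprime_two_right.2 hi)).1 hr
    have hfodd : f % 2 = 1 := by
      rcases Nat.even_or_odd f with ⟨k, rfl⟩ | h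
      · exfalso
        rw [hFp, ← two_mul, pow_mul] at hq8
        rw [Nat.pow_mod, Nat.pow_mod p 2] at hq8
        have hp2 : p % 2 = 1 := by
          rcases hpp.eq_two_or_odd with rfl | h
          · exfalso
            rw [hFp, ← two_mul, pow_mul] at hg2
            have : Even ((2 ^ 2) ^ k) := Nat.even_pow.2 ⟨by decide, by omega⟩
            rw [Nat.even_iff] at this
            have h2 := Nat.gcd_dvd_right 2 ((2 ^ 2) ^ k - 1)
            rw [hg2] at h2
            have : 0 < (2 ^ 2) ^ k := by positivity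
            omega
          · exact h
        have h1 : (p % 8) ^ 2 % 8 = 1 := by
          have := Nat.mod_lt p (by norm_num : 8 > 0)
          have : p % 8 % 2 = 1 := by omega
          interval_cases p % 8 <;> simp_all
        rw [h1, one_pow] at hq8
        norm_num at hq8
      · exact Nat.odd_iff.1 h
    have hp3 : 3 ≤ p := by
      rcases hpp.eq_two_or_odd with rfl | h
      · exfalso
        have : Even (2 ^ f) := Nat.even_pow.2 ⟨even_two, by omega⟩
        rw [Nat.even_iff, ← hFp] at this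
        omega
      · have := hpp.two_le
        omega
    have hf5 : f < 5 := by
      by_contra hge
      have h := psl_pair_dvd L e (p := p) (f := f) (by omega) hFp (hfus p hpp)
      rw [hsup, hg2, hFp] at h
      exact odd_arith hp3 (by omega) (Nat.le_of_dvd (by omega) hrf) hi.pos h
    have hcases : f = 1 ∨ f = 3 := by omega
    have h1 : L.index = 1 := by
      rcases hcases with rfl | rfl
      · exact Nat.dvd_one.1 hrf
      · rcases (Nat.dvd_prime Nat.prime_three).1 hrf with h | h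
        · exact h
        · exact (field_aut_false L hD hCL e (by omega) hFp h).elim
    exact isOddPSL_of_equiv ((eG (htop h1)).trans e) hcases hFp hq8
  · obtain ⟨e⟩ := hJ
    have h1 : L.index = 1 := hsup ▸ j1_index L e
    have hcG : Nat.card G = 175560 := by
      rw [Nat.card_congr ((eG (htop h1)).trans e).toEquiv, JankoOne.natCard_j1]
    refine Or.inr ⟨fun h => ?_, Or.inr (Or.inr (Or.inr (Or.inl
      ⟨((eG (htop h1))).isSimpleGroup, hcG⟩)))⟩
    have hi2 := (S : Subgroup G).card_mul_index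
    rw [h, hcG] at hi2
    exact S.not_dvd_index ⟨21945, by omega⟩
  · exact (ree_normal_false L hJT hm hq hT fun H K hH hK _ _ h =>
      hD 3 Nat.prime_three H K hH hK h).elim

end Cfsg.Agent.SameOrderConj
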