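/-
Groups in which equal-order prime-power subgroups are conjugate: the classification, modulo the list
of simple groups with elementary abelian Sylow 2-subgroups.

Main results (namespace `Cfsg.Agent.SameOrderConj`):
* `pclassification`
-/
import Cfsg.Agent.EqLemmas
import Cfsg.Agent.Lib.SameOrderConj.Main
import Cfsg.Agent.Lib.SameOrderConj.PModels

set_option autoImplicit false
set_option linter.unusedSectionVars false
set_option linter.style.haveILetI false

namespace Cfsg.Agent.SameOrderConj

open Subgroup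

universe u

variable {G : Type u} [Group G] [Finite G]

theorem peq_of_involution (hC : PSubgroupConj G) {z y : G} (hz : z ∈ center G) (hz2 : orderOf z = 2)
    (hy : orderOf y = 2) : y = z := by
  obtain ⟨g, hg⟩ := hC.primeConj 2 Nat.prime_two (zpowers z) (zpowers y)
    (by rw [Nat.card_zpowers, hz2]) (by rw [Nat.card_zpowers, hy])
  have h := mem_zpowers y
  rw [hg, MonoidHom.map_zpowers] at h
  obtain ⟨k, hk⟩ := mem_zpowers_iff.1 h
  rw [show (MulAut.conj g).toMonoidHom z = z from by
    show g * z * g⁻¹ = z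
    rw [mem_center_iff.1 hz g, mul_inv_cancel_right], ← zpow_mod_orderOf, hz2] at hk
  rcases Int.emod_two_eq k with h2 | h2 <;> norm_num [h2] at hk
  · exact absurd hk.symm (Involution.ne_one hy)
  · exact hk.symm

theorem sl_of_cover (hC : PSubgroupConj G) {z : G} (hzc : z ∈ center G) (hz : orderOf z = 2)
    (hZ : Nat.card (center G) = 2) {F : Type} [Field F] [Fintype F] (hodd : Odd (Fintype.card F))
    (h3 : 3 < Fintype.card F) (g : G ⧸ center G ≃* Matrix.ProjectiveSpecialLinearGroup (Fin 2) F)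
    (h4 : 4 ∣ Nat.card (G ⧸ center G)) : Nonempty (G ≃* Matrix.SpecialLinearGroup (Fin 2) F) := by
  let f := g.toMonoidHom.comp (QuotientGroup.mk' (center G))
  have hfs : Function.Surjective f := g.surjective.comp (QuotientGroup.mk'_surjective _)
  have hfk : f.ker = (center G) := by
    rw [MonoidHom.ker_comp_of_injective _ _ g.injective, QuotientGroup.ker_mk']
  haveI hperf : Group.IsPerfect G := by
    haveI := PSL2.isSimpleGroup_psl (L := F) (by rw [Nat.card_eq_fintype_card]; omega)
    have hne := PSL2.not_comm_psl (L := F) (by rw [Nat.card_eq_fintype_card]; omega)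
    set D := commutator G
    have hD : D.map f = ⊤ := by
      haveI : (D.map f).Normal := Subgroup.Normal.map inferInstance f hfs
      refine ((inferInstance : (D.map f).Normal).eq_bot_or_eq_top).resolve_left fun h => hne ?_
      intro a b
      obtain ⟨a, rfl⟩ := hfs a
      obtain ⟨b, rfl⟩ := hfs b
      have hc : a * b * a⁻¹ * b⁻¹ ∈ D := commutator_mem_commutator (mem_top a) (mem_top b)
      have h1 : f (a * b * a⁻¹ * b⁻¹) = 1 := by
        rw [← mem_bot, ← h]; exact mem_map_of_mem f hc
      rw [map_mul, map_mul, map_mul, map_inv, map_inv, mul_inv_eq_one, mul_inv_eq_iff_eq_mul] at h1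
      exact h1
    have hsup : D ⊔ (center G) = ⊤ := by
      rw [← hfk, ← comap_map_eq, hD, comap_top]
    have hev : 2 ∣ Nat.card D := by
      have h2 : 2 ∣ Nat.card (D.map f) := by
        rw [hD, card_top, ← Nat.card_congr g.toEquiv]
        exact (show 2 ∣ 4 by norm_num).trans h4
      exact h2.trans (card_map_dvd _ f)
    obtain ⟨y, hy⟩ := exists_prime_orderOf_dvd_card' (G := D) 2 hev
    have hyz : (y : G) = z := peq_of_involution hC hzc hz (by rw [orderOf_coe, hy])
    have hZD : (center G) ≤ D := by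
      have hZz : zpowers z = (center G) := Subgroup.eq_of_le_of_card_ge (zpowers_le.2 hzc)
        (by rw [hZ, Nat.card_zpowers, hz])
      rw [← hZz, zpowers_le, ← hyz]
      exact y.2
    rw [sup_eq_left.2 hZD] at hsup
    exact ⟨hsup⟩
  exact QGroup.sl_two_of_double_cover (F := F) hodd h3 f hfs (by rw [hfk]) (by rw [hfk, hZ])

set_option maxHeartbeats 400000 in
/-- The quaternion case. -/
theorem quaternion_pmodels (hshape : SimpleShape.{u}) (hC : PSubgroupConj G) (S : Sylow 2 G)
    (e : (S : Subgroup G) ≃* QuaternionGroup 2) (hO : Cfsg.oddCore G = ⊥) :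
    ∃ (p : ℕ) (_ : Fact p.Prime), (p % 8 = 3 ∨ p % 8 = 5) ∧
      (Nonempty (G ≃* Matrix.SpecialLinearGroup (Fin 2) (ZMod p)) ∨
       Nonempty (G ≃* Matrix.SpecialLinearGroup (Fin 2) (GaloisField p 3))) := by
  classical
  haveI : Fact (Nat.Prime 2) := ⟨Nat.prime_two⟩
  have hS8 : Nat.card (S : Subgroup G) = 8 := by
    rw [Nat.card_congr e.toEquiv, Nat.card_eq_fintype_card, QuaternionGroup.card]
  have hZ := S0201.result S 0 e fun N hN hodd => by
    rw [eq_bot_iff, ← hO]
    exact Cores.le_pPrimeCore hN (Nat.coprime_two_right.2 hodd)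
  obtain ⟨⟨z, hzc⟩, hz⟩ := exists_prime_orderOf_dvd_card' (G := center G) 2 (by rw [hZ])
  rw [Subgroup.orderOf_mk] at hz
  set Z := center G
  set π := QuotientGroup.mk' Z
  have hπ : Function.Surjective π := QuotientGroup.mk'_surjective Z
  have hCb : PSubgroupConj (G ⧸ Z) := hC.quotient Z
  have hOb : Cfsg.oddCore (G ⧸ Z) = ⊥ := by
    haveI hn : (Cfsg.oddCore (G ⧸ Z)).Normal := Cores.pPrimeCore_normal 2 _
    set N := Cfsg.oddCore (G ⧸ Z) with hN
    set M := N.comap π
    have hMc : Nat.card M = Nat.card N * 2 := by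
      rw [← Cores.card_map_mul_ker π M (by
        intro x hx; rw [mem_comap, MonoidHom.mem_ker.1 hx]; exact one_mem N),
        map_comap_eq_self_of_surjective hπ, QuotientGroup.ker_mk', hZ]
    have hNodd : Odd (Nat.card N) := Nat.coprime_two_right.1 (Cores.coprime_card_pPrimeCore (G := G ⧸ Z) 2)
    obtain ⟨P⟩ : Nonempty (Sylow 2 M) := inferInstance
    have hP : Nat.card (P : Subgroup M) = 2 := by
      rw [P.card_eq_multiplicity, hMc, Nat.factorization_mul Nat.card_pos.ne' two_ne_zero,
        Finsupp.add_apply, Nat.factorization_eq_zero_of_not_dvd hNodd.not_two_dvd_nat, zero_add,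
        Nat.prime_two.factorization_self, pow_one]
    haveI : Fact (Nat.card (P : Subgroup M)).Prime := ⟨by rw [hP]; exact Nat.prime_two⟩
    have hcyc : IsCyclic (P : Subgroup M) := isCyclic_of_prime_card hP
    have hOM : Cfsg.oddCore M = ⊥ := by
      have h := Cores.pPrimeCore_map_subtype M 2
      rw [show Cfsg.pPrimeCore 2 G = ⊥ from hO, bot_inf_eq, map_eq_bot_iff_of_injective _
        M.subtype_injective] at h
      exact h
    obtain ⟨k, hk⟩ := IsPGroup.iff_card.1 (isPGroup_of_cyclic P hcyc hOM)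
    rw [hMc] at hk
    refine eq_bot_of_card_eq _ ?_
    rcases k with _ | k
    · omega
    · rw [pow_succ] at hk
      have h1 := Nat.eq_of_mul_eq_mul_right two_pos hk
      rcases k with _ | k
      · simpa using h1
      · exact absurd (h1 ▸ dvd_pow_self 2 (Nat.succ_ne_zero k)) hNodd.not_two_dvd_nat
  let T : Sylow 2 (G ⧸ Z) := S.mapSurjective hπ
  have hZS : Z ≤ S := by
    intro x hx
    have : IsPGroup 2 Z := IsPGroup.of_card (n := 1) (by rw [hZ, pow_one])
    exact this.le_sylow_of_normal S hx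
  have hT4 : Nat.card (T : Subgroup (G ⧸ Z)) = 4 := by
    have h := Cores.card_map_mul_ker π (S : Subgroup G) (by rwa [QuotientGroup.ker_mk'])
    rw [QuotientGroup.ker_mk', hZ, hS8] at h
    show Nat.card ((S : Subgroup G).map π) = 4
    omega
  have hTsq : ∀ s ∈ (T : Subgroup (G ⧸ Z)), s * s = 1 := by
    rcases hCb.sylow_two_cases T with h | h | hf
    · exact h
    · exfalso
      obtain ⟨k, hk⟩ := IsPGroup.iff_card.1 (isPGroup_of_cyclic T h hOb)
      have hT : (T : Subgroup (G ⧸ Z)) = ⊤ :=
        sylow_eq_top T (isPGroup_of_cyclic T h hOb)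
      haveI : IsCyclic (G ⧸ Z) := isCyclic_of_surjective (T : Subgroup (G ⧸ Z)).subtype
        fun x => ⟨⟨x, hT ▸ mem_top x⟩, rfl⟩
      have hcomm := (MonoidHom.isMulCommutative_of_isCyclic_of_ker_le_center π
        (by rw [QuotientGroup.ker_mk'])).is_comm.comm
      have key : ∃ a b : QuaternionGroup 2, a * b ≠ b * a := by decide
      obtain ⟨a, b, hab⟩ := key
      refine hab (e.symm.injective (Subtype.ext ?_))
      rw [map_mul, map_mul, Subgroup.coe_mul, Subgroup.coe_mul]
      exact hcomm _ _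
    · obtain ⟨f⟩ := hf
      have := Nat.card_congr f.toEquiv
      rw [hT4, Nat.card_eq_fintype_card, QuaternionGroup.card] at this
      omega
  obtain ⟨p, hpF, hp8, hmod⟩ := (elementary_models hshape hCb hOb T hTsq hT4.ge).resolve_right
    fun h => h.1 hT4
  haveI := hpF
  have key : ∀ (F : Type) [Field F] [Fintype F], Odd (Fintype.card F) → 3 < Fintype.card F →
      (G ⧸ Z ≃* Matrix.ProjectiveSpecialLinearGroup (Fin 2) F) →
      Nonempty (G ≃* Matrix.SpecialLinearGroup (Fin 2) F) := fun F _ _ hodd h3 g =>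
    sl_of_cover hC hzc hz hZ hodd h3 g (by
      rw [← hT4]
      exact card_subgroup_dvd_card _)
  have hp3 : 3 ≤ p := by omega
  rcases hmod with hg | hg <;> obtain ⟨g⟩ := hg
  · by_cases h3 : p = 3
    · subst h3
      let e3 := g
      obtain ⟨e4⟩ := Linear.nonempty_pslTwo_three (F := ZMod 3) (Nat.card_zmod 3)
      have hG : Nat.card G = 24 := by
        rw [← card_mul_index Z, hZ, index_eq_card, Nat.card_congr e3.toEquiv, Nat.card_congr e4.toEquiv, PSL2.card_alt_four]
      rcases S0106.result S 1 le_rfl ⟨e⟩ with ⟨P, K, hKn, hKc⟩ | ⟨H, K, hK, ⟨f⟩⟩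
      · exfalso
        have hc := hKc.card_mul
        have hP8 : Nat.card (P : Subgroup G) = 8 := by
          rw [← Sylow.card_eq_multiplicity S |>.trans (Sylow.card_eq_multiplicity P).symm, hS8]
        rw [hP8, hG] at hc
        have hK3 : Nat.card K = 3 := by omega
        have hK1 : K = ⊥ := by
          rw [eq_bot_iff, ← hO]
          exact Cores.le_pPrimeCore hKn (by rw [hK3]; norm_num)
        rw [hK1, card_bot] at hK3
        omega
      · refine ⟨3, ⟨Nat.prime_three⟩, Or.inl rfl, Or.inl ?_⟩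
        have h24 : Nat.card (Matrix.SpecialLinearGroup (Fin 2) (ZMod 3)) = 24 :=
          SolvBlockBound.card_slTwoThree
        have hq := (K.subgroupOf H).card_mul_index
        rw [index_eq_card, Nat.card_congr f.toEquiv, h24] at hq
        have hH : Nat.card H ≤ 24 := hG ▸ card_le_card_group H
        have hK1 : K.subgroupOf H = ⊥ := by
          refine eq_bot_of_card_eq _ ?_
          have : 0 < Nat.card (K.subgroupOf H) := Nat.card_pos
          nlinarith
        have hHtop : H = ⊤ := by
          refine eq_top_of_card_eq _ ?_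
          rw [hK1, card_bot, one_mul] at hq
          rw [← hq, hG]
        let q : G →* Matrix.SpecialLinearGroup (Fin 2) (ZMod 3) :=
          (f.toMonoidHom.comp (QuotientGroup.mk' (K.subgroupOf H))).comp
            ((MulEquiv.subgroupCongr hHtop).symm.toMonoidHom.comp Subgroup.topEquiv.symm.toMonoidHom)
        have hqs : Function.Surjective q :=
          (f.surjective.comp (QuotientGroup.mk'_surjective _)).comp
            ((MulEquiv.subgroupCongr hHtop).symm.surjective.comp Subgroup.topEquiv.symm.surjective)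
        exact ⟨MulEquiv.ofBijective q
          ((Nat.bijective_iff_surjective_and_card q).2 ⟨hqs, by rw [hG, h24]⟩)⟩
    · exact ⟨p, hpF, hp8, Or.inl (key (ZMod p)
        (by rw [ZMod.card, Nat.odd_iff]; omega) (by rw [ZMod.card]; omega) g)⟩
  · haveI : Fintype (GaloisField p 3) := Fintype.ofFinite _
    have hc : Fintype.card (GaloisField p 3) = p ^ 3 := by
      rw [← Nat.card_eq_fintype_card, GaloisField.card p 3 (by norm_num)]
    refine ⟨p, hpF, hp8, Or.inr (key (GaloisField p 3) ?_ ?_ g)⟩
    · rw [hc]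
      exact (Nat.odd_iff.2 (by omega)).pow
    · rw [hc]
      calc 3 < 3 ^ 3 := by norm_num
        _ ≤ p ^ 3 := Nat.pow_le_pow_left hp3 3

/-- The classification. -/
theorem pclassification (hshape : SimpleShape.{u}) (hD : PSubgroupConj G)
    (hO : Cfsg.oddCore G = ⊥) :
    (IsCyclic G ∧ IsPGroup 2 G) ∨
    Nonempty (G ≃* Cfsg.affineGroup (GaloisField 2 3)) ∨
    Nonempty (G ≃* Cfsg.semiaffineGroup (GaloisField 2 3)) ∨
    Nonempty (G ≃* Cfsg.semiaffineGroup (GaloisField 2 5)) ∨
    Cfsg.IsJ1 G ∨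
    Nonempty (G ≃* Matrix.ProjectiveSpecialLinearGroup (Fin 2) (GaloisField 2 3)) ∨
    Nonempty (G ≃* MulAut (Matrix.ProjectiveSpecialLinearGroup (Fin 2) (GaloisField 2 5))) ∨
    (∃ (p : ℕ) (_ : Fact p.Prime), (p % 8 = 3 ∨ p % 8 = 5) ∧
      (Nonempty (G ≃* Matrix.ProjectiveSpecialLinearGroup (Fin 2) (ZMod p)) ∨
       Nonempty (G ≃* Matrix.ProjectiveSpecialLinearGroup (Fin 2) (GaloisField p 3)) ∨
       Nonempty (G ≃* Matrix.SpecialLinearGroup (Fin 2) (ZMod p)) ∨
       Nonempty (G ≃* Matrix.SpecialLinearGroup (Fin 2) (GaloisField p 3)))) := by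
  haveI : Fact (Nat.Prime 2) := ⟨Nat.prime_two⟩
  obtain ⟨S⟩ : Nonempty (Sylow 2 G) := inferInstance
  have hcyc : IsCyclic (S : Subgroup G) → IsCyclic G ∧ IsPGroup 2 G := fun hc => by
    have hp := isPGroup_of_cyclic S hc hO
    have hT : (S : Subgroup G) = ⊤ := sylow_eq_top S hp
    exact ⟨isCyclic_of_surjective (S : Subgroup G).subtype fun x => ⟨⟨x, hT ▸ mem_top x⟩, rfl⟩, hp⟩
  rcases hD.sylow_two_cases S with hS | hc | he
  · by_cases h4 : 4 ≤ Nat.card (S : Subgroup G)
    · rcases elementary_models hshape hD hO S hS h4 with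
        ⟨p, hp, h8, h | h⟩ | ⟨-, h | h | h | h | h | h⟩
      · exact Or.inr (Or.inr (Or.inr (Or.inr (Or.inr (Or.inr (Or.inr ⟨p, hp, h8, Or.inl h⟩))))))
      · exact Or.inr (Or.inr (Or.inr (Or.inr (Or.inr (Or.inr (Or.inr
          ⟨p, hp, h8, Or.inr (Or.inl h)⟩))))))
      · exact Or.inr (Or.inl h)
      · exact Or.inr (Or.inr (Or.inl h))
      · exact Or.inr (Or.inr (Or.inr (Or.inl h)))
      · exact Or.inr (Or.inr (Or.inr (Or.inr (Or.inl h))))
      · exact Or.inr (Or.inr (Or.inr (Or.inr (Or.inr (Or.inl h)))))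
      · exact Or.inr (Or.inr (Or.inr (Or.inr (Or.inr (Or.inr (Or.inl h))))))
    · obtain ⟨k, hk⟩ := IsPGroup.iff_card.1 S.isPGroup'
      refine Or.inl (hcyc ?_)
      rcases k with _ | _ | k
      · rw [pow_zero] at hk
        haveI := (Nat.card_eq_one_iff_unique.1 hk).1
        exact isCyclic_of_subsingleton
      · exact isCyclic_of_prime_card (p := 2) (by rw [hk, pow_one])
      · exfalso
        have : 4 ≤ 2 ^ (k + 1 + 1) := le_trans (by norm_num : 4 ≤ 2 ^ 2)
          (Nat.pow_le_pow_right (by norm_num) (by omega))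
        omega
  · exact Or.inl (hcyc hc)
  · obtain ⟨e⟩ := he
    obtain ⟨p, hp, h8, h⟩ := quaternion_pmodels hshape hD S e hO
    exact Or.inr (Or.inr (Or.inr (Or.inr (Or.inr (Or.inr (Or.inr
      ⟨p, hp, h8, Or.inr (Or.inr h)⟩))))))

end Cfsg.Agent.SameOrderConj
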