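/-
The simple groups with elementary abelian Sylow 2-subgroups from the abelian Sylow targets, and the
consumers S4019, S3914.

Main results (namespace `Cfsg.Agent.SameOrderConj`):
* `simpleShape_of`
* `s4019_of`, `s3914_of`
-/
import Cfsg.Agent.EqLemmas
import Cfsg.Agent.Lib.AbelianSylow.SimpleCases
import Cfsg.Agent.Lib.SameOrderConj.PMain
import Cfsg.Agent.Lib.SameOrderConj.Abelian
import Cfsg.Agent.S1644

set_option autoImplicit false
set_option linter.unusedSectionVars false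
set_option linter.style.haveILetI false

namespace Cfsg.Agent.SameOrderConj

open Subgroup AbelianSylow

universe u

/-- The list of simple groups follows from the three targets. -/
theorem simpleShape_of (hCent : CentTarget.{u}) (hThree : ThreeTarget.{u}) (hOrder : OrderTarget.{u}) :
    SimpleShape.{u} := by
  intro T _ _ hs hna hsq
  haveI := hs
  haveI : Fact (Nat.Prime 2) := ⟨Nat.prime_two⟩
  obtain ⟨S⟩ : Nonempty (Sylow 2 T) := inferInstance
  have hSab : IsMulCommutative (S : Subgroup T) :=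
    ⟨⟨fun a b => Subtype.ext (commute_of_sq (hsq S) a.2 b.2)⟩⟩
  rcases simple_cases hna S hSab with ⟨a, ha, F, iF, iFt, hF, e⟩ | ⟨F, iF, iFt, ⟨h8, h5⟩, e⟩ | h
  · exact Or.inl ⟨F, iF, iFt, a, ha, hF, e⟩
  · exact Or.inr (Or.inl ⟨F, iF, iFt, h5, h8, e⟩)
  obtain ⟨t, F, iF, iFt, hJ⟩ := hCent T h
  rcases hThree T t F hJ with h5 | ⟨m, hm, hq⟩
  · refine Or.inr (Or.inr (Or.inl ?_))
    obtain ⟨e⟩ := hJ.cent
    obtain ⟨e5⟩ := S0253.result (F := F) h5
    exact S1644.result S hSab (h.sylow S).2 t hJ.invol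
      (e.trans (MulEquiv.prodCongr (MulEquiv.refl _) e5))
  · exact Or.inr (Or.inr (Or.inr ⟨t, F, iF, iFt, hJ, m, hm, hq, hOrder T t F hJ m hm hq⟩))

/-- S4019 from the list. -/
theorem s4019_of (hshape : SimpleShape.{u}) {G : Type u} [Group G] [Finite G]
    (hD : ∀ p : ℕ, p.Prime → ∀ H K : Subgroup G, IsPGroup p H → IsPGroup p K → Nat.card H = Nat.card K →
      ∃ g : G, K = H.map (MulAut.conj g).toMonoidHom) :
    (IsCyclic (G ⧸ Cfsg.oddCore G) ∧ IsPGroup 2 (G ⧸ Cfsg.oddCore G)) ∨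
    Nonempty (G ⧸ Cfsg.oddCore G ≃* Cfsg.affineGroup (GaloisField 2 3)) ∨
    Nonempty (G ⧸ Cfsg.oddCore G ≃* Cfsg.semiaffineGroup (GaloisField 2 3)) ∨
    Nonempty (G ⧸ Cfsg.oddCore G ≃* Cfsg.semiaffineGroup (GaloisField 2 5)) ∨
    Cfsg.IsJ1 (G ⧸ Cfsg.oddCore G) ∨
    Nonempty (G ⧸ Cfsg.oddCore G ≃* Matrix.ProjectiveSpecialLinearGroup (Fin 2) (GaloisField 2 3)) ∨
    Nonempty (G ⧸ Cfsg.oddCore G ≃* MulAut (Matrix.ProjectiveSpecialLinearGroup (Fin 2) (GaloisField 2 5))) ∨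
    (∃ (p : ℕ) (_ : Fact p.Prime), (p % 8 = 3 ∨ p % 8 = 5) ∧
      (Nonempty (G ⧸ Cfsg.oddCore G ≃* Matrix.ProjectiveSpecialLinearGroup (Fin 2) (ZMod p)) ∨
       Nonempty (G ⧸ Cfsg.oddCore G ≃* Matrix.ProjectiveSpecialLinearGroup (Fin 2) (GaloisField p 3)) ∨
       Nonempty (G ⧸ Cfsg.oddCore G ≃* Matrix.SpecialLinearGroup (Fin 2) (ZMod p)) ∨
       Nonempty (G ⧸ Cfsg.oddCore G ≃* Matrix.SpecialLinearGroup (Fin 2) (GaloisField p 3)))) :=
  pclassification hshape (PSubgroupConj.quotient hD (Cfsg.oddCore G))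
    (Cores.pPrimeCore_quotient_self (G := G) 2)

/-- S3914 from the list. -/
theorem s3914_of (hshape : SimpleShape.{u}) {G : Type u} [Group G] [Finite G]
    (hB : ∀ A B : Subgroup G, IsMulCommutative ↥A → IsMulCommutative ↥B → Nat.card ↥A = Nat.card ↥B →
      ∃ g : G, B = A.map (MulAut.conj g).toMonoidHom)
    (M : Subgroup G) [M.Normal] (hs : IsSimpleGroup ↥M) (hna : ¬ IsMulCommutative ↥M) :
    (∃ (F : Type) (_ : Field F) (_ : Fintype F),
      (Fintype.card F = 2 ^ 2 ∨ Fintype.card F = 2 ^ 3 ∨ Fintype.card F = 2 ^ 5) ∧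
        Nonempty (↥M ≃* Matrix.SpecialLinearGroup (Fin 2) F)) ∨
    (∃ (F : Type) (_ : Field F) (_ : Fintype F), 5 ≤ Fintype.card F ∧
        (Fintype.card F % 8 = 3 ∨ Fintype.card F % 8 = 5) ∧
        Nonempty (↥M ≃* Matrix.ProjectiveSpecialLinearGroup (Fin 2) F)) ∨
    Cfsg.Spor.IsoJ1 ↥M :=
  simple_normal_cases hshape hB M hs hna

end Cfsg.Agent.SameOrderConj
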