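/-
Sylow subgroups of `PSL₂(q)` in the characteristic.

Main results (namespace `Cfsg.Agent.SameOrderConj`):
* `sylow_char_facts` : order `q`, exponent `p`, abelian, `|N(U) : U| ∣ (q - 1) / (2, q - 1)`
* `three_square_le` : `PSL₂(3ⁿ)`, `n ≥ 2`, has an elementary subgroup of order nine
-/
import Cfsg.Agent.EqLemmas
import Cfsg.Agent.Lib.PSL2.SolCount
import Cfsg.Agent.Lib.Cores.Basic

set_option autoImplicit false
set_option linter.unusedSectionVars false
set_option linter.style.haveILetI false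

namespace Cfsg.Agent.SameOrderConj

open Subgroup

variable {F : Type} [Field F] [Finite F] {p f : ℕ} [Fact p.Prime] [CharP F p]

theorem sylow_char_facts (hf : 1 ≤ f) (hF : Nat.card F = p ^ f) (U : Sylow p (PSL2.PSL2 F)) :
    Nat.card (U : Subgroup (PSL2.PSL2 F)) = Nat.card F ∧
    (∀ x ∈ (U : Subgroup (PSL2.PSL2 F)), x ^ p = 1) ∧
    IsMulCommutative (U : Subgroup (PSL2.PSL2 F)) ∧
    Nat.gcd 2 (Nat.card F - 1) * (U : Subgroup (PSL2.PSL2 F)).relIndex
      (normalizer ((U : Subgroup (PSL2.PSL2 F)) : Set (PSL2.PSL2 F))) ∣ Nat.card F - 1 := by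
  have hp := (Fact.out : p.Prime)
  obtain ⟨P, hP⟩ := PSL2.normalizer_sylow_le p U
  have hfix : ∀ x ∈ (U : Subgroup (PSL2.PSL2 F)), x • P = P := fun x hx => hP (le_normalizer hx)
  have hexp : ∀ x ∈ (U : Subgroup (PSL2.PSL2 F)), x ^ p = 1 := by
    intro x hx
    rcases eq_or_ne x 1 with rfl | hx1
    · exact one_pow _
    obtain ⟨j, hj⟩ := U.isPGroup' ⟨x, hx⟩
    have hd : orderOf x ∣ p ^ j := orderOf_dvd_of_pow_eq_one (congrArg Subtype.val hj)
    obtain ⟨i, -, hi⟩ := (Nat.dvd_prime_pow hp).1 hd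
    have hpx : p ∣ orderOf x := by
      rw [hi]
      refine dvd_pow_self p fun h => hx1 ?_
      rw [h, pow_zero] at hi
      exact orderOf_eq_one_iff.1 hi
    set y := x ^ (orderOf x / p)
    have hy : orderOf y = p := orderOf_pow_orderOf_div (orderOf_pos x).ne' hpx
    exact ((PSL2.centralizer_char_eq p hy (hfix y (pow_mem hx _))).1
      (((Commute.refl x).pow_right _).eq)).1
  have hcard : Nat.card (U : Subgroup (PSL2.PSL2 F)) = Nat.card F := by
    rw [U.card_eq_multiplicity, hF]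
    congr 1
    have hfac := congrArg (fun k : ℕ => k.factorization p) (PSL2.card_psl_mul (F := F))
    have hq1 : 1 < Nat.card F := Finite.one_lt_card
    have hd : ¬ p ∣ (Nat.card F + 1) * (Nat.card F - 1) := by
      intro h
      have hpF : p ∣ Nat.card F := hF ▸ dvd_pow_self p (by omega)
      rcases hp.dvd_mul.1 h with h | h
      · exact hp.not_dvd_one ((Nat.dvd_add_right hpF).1 h)
      · exact hp.not_dvd_one (by
          have := Nat.dvd_sub hpF h
          rwa [Nat.sub_sub_self (by omega)] at this)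
    have hg : ¬ p ∣ Nat.gcd 2 (Nat.card F - 1) := fun h =>
      hd (dvd_mul_of_dvd_right (h.trans (Nat.gcd_dvd_right _ _)) _)
    rw [Nat.factorization_mul (fun h => hg (by rw [h]; exact dvd_zero p)) Nat.card_pos.ne',
      Nat.factorization_mul Nat.card_pos.ne' (fun h => hd (by rw [h]; exact dvd_zero p)), Finsupp.add_apply,
      Finsupp.add_apply, Nat.factorization_eq_zero_of_not_dvd hg,
      Nat.factorization_eq_zero_of_not_dvd hd, hF, Nat.Prime.factorization_pow hp] at hfac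
    simpa using hfac
  refine ⟨hcard, hexp, ⟨⟨fun a b => Subtype.ext ?_⟩⟩, ?_⟩
  · exact (PSL2.card_charFix p P).2 a b (hexp a a.2) (hfix a a.2) (hexp b b.2) (hfix b b.2)
  · set N := normalizer ((U : Subgroup (PSL2.PSL2 F)) : Set (PSL2.PSL2 F))
    have h1 : Nat.card N = Nat.card F * (U : Subgroup (PSL2.PSL2 F)).relIndex N := by
      rw [← hcard, relIndex, ← Nat.card_congr (subgroupOfEquivOfLe
        (le_normalizer : (U : Subgroup (PSL2.PSL2 F)) ≤ N)).toEquiv, card_mul_index]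
    have h2 := Nat.mul_dvd_mul_left (Nat.gcd 2 (Nat.card F - 1)) (card_dvd_of_le hP)
    rw [PSL2.card_borel_mul, h1, mul_left_comm] at h2
    exact Nat.dvd_of_mul_dvd_mul_left Nat.card_pos h2

theorem three_square_le {F : Type} [Field F] [Finite F] [CharP F 3] {n : ℕ} (hn : 2 ≤ n)
    (hF : Nat.card F = 3 ^ n) :
    ∃ W : Subgroup (PSL2.PSL2 F), Nat.card W = 9 ∧ IsMulCommutative W ∧ ∀ x ∈ W, x ^ 3 = 1 := by
  haveI : Fact (Nat.Prime 3) := ⟨Nat.prime_three⟩
  obtain ⟨U⟩ : Nonempty (Sylow 3 (PSL2.PSL2 F)) := inferInstance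
  obtain ⟨hc, he, hab, -⟩ := sylow_char_facts (p := 3) (f := n) (by omega) hF U
  obtain ⟨W, hW⟩ := Sylow.exists_subgroup_card_pow_prime (G := (U : Subgroup (PSL2.PSL2 F))) 3
    (n := 2) (by rw [hc, hF]; exact pow_dvd_pow 3 hn)
  refine ⟨W.map (U : Subgroup (PSL2.PSL2 F)).subtype, by rw [Cores.card_map_subtype, hW]; rfl,
    ⟨⟨?_⟩⟩, ?_⟩
  · rintro ⟨_, a, ha, rfl⟩ ⟨_, b, hb, rfl⟩
    exact Subtype.ext (congrArg (fun z : (U : Subgroup (PSL2.PSL2 F)) => (z : PSL2.PSL2 F))
      (hab.1.comm a b))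
  · rintro _ ⟨a, _, rfl⟩
    exact he a a.2

end Cfsg.Agent.SameOrderConj
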